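import Groth.Agent.FlatOpen.Descend
import Groth.Agent.FlatMor.FlatAtBC
import Groth.Agent.HP.SepFlat
import Groth.Prelude.Def_FlatCA
import Mathlib.RingTheory.Flat.FaithfullyFlat.Algebra
import Groth.Agent.FlatOpen.API
import Mathlib.RingTheory.Ideal.GoingUp
import Mathlib.RingTheory.TensorProduct.Maps

/-!
# Flatness above the closed points along flat and finite local extensions
-/

set_option autoImplicit false
set_option linter.style.haveILetI false

universe u

open TensorProduct IsLocalRing

namespace Groth.Agent.FlatMor62.AboveClosed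

section

variable {A B C A' B' C' : Type u} [CommRing A] [CommRing B] [CommRing C] [CommRing A'] [CommRing B'] [CommRing C']
  [Algebra A B] [Algebra A A'] [Algebra A C] [Algebra B C] [IsScalarTower A B C]
  [Algebra B B'] [Algebra A' B'] [Algebra A B'] [IsScalarTower A B B'] [IsScalarTower A A' B']
  [Algebra C C'] [Algebra A' C'] [Algebra A C'] [IsScalarTower A C C'] [IsScalarTower A A' C']

/-- The map between the base changes. -/
theorem exists_algebra [Algebra.IsPushout A B A' B'] :
    ∃ (h : B' →+* C'), (∀ b, h (algebraMap B B' b) = algebraMap C C' (algebraMap B C b)) ∧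
      ∀ a, h (algebraMap A' B' a) = algebraMap A' C' a := by
  let f : B →ₐ[A] C' := (IsScalarTower.toAlgHom A C C').comp (IsScalarTower.toAlgHom A B C)
  let g : A' →ₐ[A] C' := IsScalarTower.toAlgHom A A' C'
  refine ⟨(Algebra.pushoutDesc B' f g fun _ _ => mul_comm _ _).toRingHom, fun b => ?_, fun a => ?_⟩
  · exact Algebra.pushoutDesc_left B' f g (fun _ _ => mul_comm _ _) b
  · exact Algebra.pushoutDesc_right B' f g (fun _ _ => mul_comm _ _) a

end

/-- Two extensions of a field embed into a common one. -/
theorem exists_common_field {k K L : Type u} [Field k] [Field K] [Field L] (f : k →+* K) (g : k →+* L) :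
    ∃ (Ω : Type u) (_ : Field Ω) (a : K →+* Ω) (b : L →+* Ω), ∀ x, a (f x) = b (g x) := by
  letI : Algebra k K := f.toAlgebra
  letI : Algebra k L := g.toAlgebra
  obtain ⟨m, hm⟩ := Ideal.exists_maximal (K ⊗[k] L)
  exact ⟨(K ⊗[k] L) ⧸ m, Ideal.Quotient.field m, (Ideal.Quotient.mk m).comp Algebra.TensorProduct.includeLeftRingHom,
    (Ideal.Quotient.mk m).comp (Algebra.TensorProduct.includeRight : L →ₐ[k] _).toRingHom, fun x =>
    congrArg (Ideal.Quotient.mk m)
      (((Algebra.TensorProduct.includeLeft : K →ₐ[k] K ⊗[k] L).commutes x).trans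
        ((Algebra.TensorProduct.includeRight : L →ₐ[k] K ⊗[k] L).commutes x).symm)⟩

/-- Above a prime of `B'` over the closed points there is a prime of `C'` over the closed points. -/
theorem exists_prime {A B C A' B' C' : Type u} [CommRing A] [CommRing B] [IsLocalRing B] [CommRing C] [IsLocalRing C]
    [CommRing A'] [IsLocalRing A'] [CommRing B'] [CommRing C']
    [Algebra A B] [Algebra A A'] [Algebra A C] [Algebra B C] [IsScalarTower A B C] [IsLocalHom (algebraMap B C)]
    [Algebra B B'] [Algebra A' B'] [Algebra A B'] [IsScalarTower A B B'] [IsScalarTower A A' B']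
    [Algebra C C'] [Algebra A' C'] [Algebra A C'] [IsScalarTower A C C'] [IsScalarTower A A' C']
    [Algebra.IsPushout A B A' B'] [Algebra.IsPushout A C A' C']
    (h : B' →+* C') (hB : ∀ b, h (algebraMap B B' b) = algebraMap C C' (algebraMap B C b))
    (hA : ∀ a, h (algebraMap A' B' a) = algebraMap A' C' a)
    (p : Ideal B') [p.IsPrime]
    (hp : (maximalIdeal A').map (algebraMap A' B') ⊔ (maximalIdeal B).map (algebraMap B B') ≤ p) :
    ∃ q : Ideal C', q.IsPrime ∧ q.comap h = p ∧
      (maximalIdeal A').map (algebraMap A' C') ⊔ (maximalIdeal C).map (algebraMap C C') ≤ q := by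
  obtain ⟨hpA, hpB⟩ := sup_le_iff.mp hp
  let φB : (ResidueField B) →+* p.ResidueField := Ideal.Quotient.lift (maximalIdeal B)
    ((algebraMap B' p.ResidueField).comp (algebraMap B B')) fun b hb =>
      Ideal.algebraMap_residueField_eq_zero.mpr (hpB (Ideal.mem_map_of_mem _ hb))
  obtain ⟨Ω, _, l₁, l₂, hl'⟩ := exists_common_field (ResidueField.map (algebraMap B C)) φB
  have hl : ∀ b : B, l₁ (residue C (algebraMap B C b)) = l₂ (algebraMap B' p.ResidueField (algebraMap B B' b)) :=
    fun b => hl' (residue B b)
  let γB : B' →+* Ω := l₂.comp (algebraMap B' p.ResidueField)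
  letI : Algebra A Ω := (γB.comp (algebraMap A B')).toAlgebra
  let fC : C →ₐ[A] Ω :=
    { toRingHom := l₁.comp (residue C)
      commutes' := fun a => by
        show l₁ (residue C (algebraMap A C a)) = γB (algebraMap A B' a)
        rw [IsScalarTower.algebraMap_apply A B C, hl, IsScalarTower.algebraMap_apply A B B']
        rfl }
  let fA : A' →ₐ[A] Ω :=
    { toRingHom := γB.comp (algebraMap A' B')
      commutes' := fun a => congrArg γB (IsScalarTower.algebraMap_apply A A' B' a).symm }
  let γC : C' →ₐ[A] Ω := Algebra.pushoutDesc C' fC fA fun _ _ => mul_comm _ _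
  have hcomp : γC.toRingHom.comp h = γB := by
    let t₁ : B' →ₐ[A] Ω :=
      { toRingHom := γC.toRingHom.comp h
        commutes' := fun a => by
          show γC (h (algebraMap A B' a)) = _
          rw [IsScalarTower.algebraMap_apply A A' B', hA, ← IsScalarTower.algebraMap_apply A A' C']
          exact γC.commutes a }
    let t₂ : B' →ₐ[A] Ω := { toRingHom := γB, commutes' := fun _ => rfl }
    have ht : t₁ = t₂ := by
      refine Algebra.IsPushout.algHom_ext (R := A) (S := B) (R' := A') (S' := B') ?_ ?_
      · refine AlgHom.ext fun a => ?_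
        show γC (h (algebraMap A' B' a)) = γB (algebraMap A' B' a)
        rw [hA]
        exact Algebra.pushoutDesc_right C' fC fA (fun _ _ => mul_comm _ _) a
      · refine AlgHom.ext fun b => ?_
        show γC (h (algebraMap B B' b)) = γB (algebraMap B B' b)
        rw [hB]
        exact (Algebra.pushoutDesc_left C' fC fA (fun _ _ => mul_comm _ _) _).trans (hl b)
    exact congrArg AlgHom.toRingHom ht
  refine ⟨RingHom.ker γC.toRingHom, RingHom.ker_isPrime _, ?_, sup_le ?_ ?_⟩
  · rw [RingHom.comap_ker, hcomp]
    ext x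
    rw [RingHom.mem_ker]
    show l₂ (algebraMap B' p.ResidueField x) = 0 ↔ x ∈ p
    rw [map_eq_zero, Ideal.algebraMap_residueField_eq_zero]
  · rw [Ideal.map_le_iff_le_comap]
    intro a ha
    show γC (algebraMap A' C' a) = 0
    rw [Algebra.pushoutDesc_right]
    show l₂ (algebraMap B' p.ResidueField (algebraMap A' B' a)) = 0
    rw [Ideal.algebraMap_residueField_eq_zero.mpr (hpA (Ideal.mem_map_of_mem _ ha)), map_zero]
  · rw [Ideal.map_le_iff_le_comap]
    intro c hc
    show γC (algebraMap C C' c) = 0
    rw [Algebra.pushoutDesc_left]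
    show l₁ (residue C c) = 0
    rw [(residue_eq_zero_iff c).mpr hc, map_zero]

/-- For a finite local extension the maximal ideal is the radical of the extended one. -/
theorem exists_pow_mem {B C : Type u} [CommRing B] [IsLocalRing B] [CommRing C] [IsLocalRing C] [Algebra B C]
    [Module.Finite B C] [IsLocalHom (algebraMap B C)] (c : C) (hc : c ∈ maximalIdeal C) :
    ∃ n : ℕ, c ^ n ∈ (maximalIdeal B).map (algebraMap B C) := by
  have h : c ∈ ((maximalIdeal B).map (algebraMap B C)).radical := by
    rw [Ideal.radical_eq_sInf, Submodule.mem_sInf]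
    rintro P ⟨hle, hP⟩
    haveI := hP
    haveI : Algebra.IsIntegral B C := Algebra.IsIntegral.of_finite B C
    haveI : (Ideal.comap (algebraMap B C) P).IsMaximal := by
      have hPm : Ideal.comap (algebraMap B C) P = maximalIdeal B :=
        le_antisymm (le_maximalIdeal (Ideal.IsPrime.ne_top inferInstance)) (Ideal.map_le_iff_le_comap.mp hle)
      rw [hPm]; infer_instance
    haveI : Ideal.IsMaximal (P : Ideal C) := Ideal.isMaximal_of_isIntegral_of_isMaximal_comap (R := B) P ‹(Ideal.comap (algebraMap B C) P).IsMaximal›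
    rw [IsLocalRing.eq_maximalIdeal ‹Ideal.IsMaximal (P : Ideal C)›]
    exact hc
  exact h

/-- Flatness at a prime of a flat base change. -/
theorem flatAt_iff_of_flat {A' B' C' : Type u} [CommRing A'] [CommRing B'] [CommRing C'] [Algebra A' B']
    [Algebra A' C'] [Algebra B' C'] [IsScalarTower A' B' C'] [Module.Flat B' C']
    (M' : Type u) [AddCommGroup M'] [Module B' M'] [Module A' M'] [IsScalarTower A' B' M']
    (N' : Type u) [AddCommGroup N'] [Module C' N'] [Module A' N'] [IsScalarTower A' C' N'] [Module B' N']
    [IsScalarTower B' C' N'] (h : M' →ₗ[B'] N') (hh : IsBaseChange C' h)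
    (p : Ideal B') [p.IsPrime] (q : Ideal C') [q.IsPrime] [q.LiesOver p] :
    FlatCA.FlatAt A' q N' ↔ FlatCA.FlatAt A' p M' := by
  let Bp := Localization.AtPrime p
  let Cq := Localization.AtPrime q
  letI := Localization.AtPrime.algebraOfLiesOver p q
  haveI : IsScalarTower B' Bp Cq := IsScalarTower.of_algebraMap_eq fun b => by
    show _ = Localization.localRingHom p q (algebraMap B' C') _ (algebraMap B' Bp b)
    rw [Localization.localRingHom_to_map, ← IsScalarTower.algebraMap_apply]
  haveI : IsScalarTower A' Bp Cq := IsScalarTower.of_algebraMap_eq fun a => by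
    rw [IsScalarTower.algebraMap_apply A' B' Bp, ← IsScalarTower.algebraMap_apply B' Bp Cq,
      ← IsScalarTower.algebraMap_apply A' B' Cq]
  haveI : Module.Flat B' Cq := Module.Flat.trans B' C' Cq
  haveI : Module.Flat Bp Cq := (Module.flat_iff_of_isLocalization Bp p.primeCompl _).mpr inferInstance
  haveI : IsLocalHom (algebraMap Bp Cq) := Localization.isLocalHom_localRingHom p q (algebraMap B' C') (q.over_def p)
  haveI : Module.FaithfullyFlat Bp Cq := Module.FaithfullyFlat.of_flat_of_isLocalHom
  let eM : LocalizedModule p.primeCompl M' ≃ₗ[A'] Bp ⊗[B'] M' :=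
    (LocalizedModule.equivTensorProduct p.primeCompl M').restrictScalars A'
  let eN : LocalizedModule q.primeCompl N' ≃ₗ[A'] Cq ⊗[Bp] (Bp ⊗[B'] M') :=
    ((LocalizedModule.equivTensorProduct q.primeCompl N').restrictScalars A').trans
      (((AlgebraTensorModule.congr (LinearEquiv.refl Cq Cq) hh.equiv.symm).restrictScalars A').trans
        (((AlgebraTensorModule.cancelBaseChange B' C' Cq Cq M').restrictScalars A').trans
          ((AlgebraTensorModule.cancelBaseChange B' Bp Cq Cq M').restrictScalars A').symm))
  constructor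
  · intro hq
    haveI : Module.Flat A' (Cq ⊗[Bp] (Bp ⊗[B'] M')) :=
      haveI : Module.Flat A' (LocalizedModule q.primeCompl N') := hq
      Module.Flat.of_linearEquiv eN.symm
    haveI := HP.Sep.flat_of_faithfullyFlat (A := A') (B := Bp) (L := Cq) (Bp ⊗[B'] M')
    exact Module.Flat.of_linearEquiv eM
  · intro hp
    haveI : Module.Flat A' (Bp ⊗[B'] M') :=
      haveI : Module.Flat A' (LocalizedModule p.primeCompl M') := hp
      Module.Flat.of_linearEquiv eM.symm
    haveI := FlatMor.FlatAtBC.flat_tensor A' Bp Cq (Bp ⊗[B'] M')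
    exact Module.Flat.of_linearEquiv eN

/-- A localisation followed by a larger one is a localisation. -/
theorem isLocalizedModule_comp_of_le {R M M₁ M₂ : Type u} [CommRing R] [AddCommGroup M] [Module R M]
    [AddCommGroup M₁] [Module R M₁] [AddCommGroup M₂] [Module R M₂] {T U : Submonoid R} (hTU : T ≤ U)
    (g : M →ₗ[R] M₁) [IsLocalizedModule T g] (f : M₁ →ₗ[R] M₂) [IsLocalizedModule U f] :
    IsLocalizedModule U (f.comp g) := by
  refine ⟨IsLocalizedModule.map_units f, fun y => ?_, fun {x₁ x₂} h => ?_⟩
  · obtain ⟨⟨z, u⟩, hz⟩ := IsLocalizedModule.surj U f y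
    obtain ⟨⟨m, t⟩, hm⟩ := IsLocalizedModule.surj T g z
    refine ⟨⟨m, ⟨t, hTU t.2⟩ * u⟩, ?_⟩
    show ((⟨(t : R), hTU t.2⟩ : U) * u) • y = f (g m)
    rw [mul_smul, hz, ← hm]
    exact (f.map_smul (t : R) z).symm
  · obtain ⟨u, hu⟩ := IsLocalizedModule.exists_of_eq (S := U) (f := f) h
    have h' : g ((u : R) • x₁) = g ((u : R) • x₂) := by rw [map_smul, map_smul]; exact hu
    obtain ⟨t, ht⟩ := IsLocalizedModule.exists_of_eq (S := T) (f := g) h'
    refine ⟨⟨t, hTU t.2⟩ * u, ?_⟩
    show ((t : R) * (u : R)) • x₁ = ((t : R) * (u : R)) • x₂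
    rw [mul_smul, mul_smul]
    exact ht

/-- Flatness at a prime from flatness at the primes of an integral extension over it. -/
theorem flatAt_iff_of_integral {A' B' C' : Type u} [CommRing A'] [CommRing B'] [CommRing C'] [Algebra A' B']
    [Algebra A' C'] [Algebra B' C'] [IsScalarTower A' B' C'] [Algebra.IsIntegral B' C']
    (N' : Type u) [AddCommGroup N'] [Module C' N'] [Module B' N'] [IsScalarTower B' C' N'] [Module A' N']
    [IsScalarTower A' C' N'] [IsScalarTower A' B' N'] (p : Ideal B') [p.IsPrime] :
    FlatCA.FlatAt A' p N' ↔ ∀ (q : Ideal C') [q.IsPrime], q.comap (algebraMap B' C') = p → FlatCA.FlatAt A' q N' := by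
  let T : Submonoid C' := Algebra.algebraMapSubmonoid C' p.primeCompl
  let g : N' →ₗ[C'] LocalizedModule T N' := LocalizedModule.mkLinearMap T N'
  haveI : IsScalarTower A' C' (LocalizedModule T N') := inferInstance
  haveI : IsScalarTower A' B' (LocalizedModule T N') := IsScalarTower.of_algebraMap_smul fun a x => by
    rw [← IsScalarTower.algebraMap_smul C' (algebraMap A' B' a), ← IsScalarTower.algebraMap_apply,
      IsScalarTower.algebraMap_smul]
  haveI := FlatOpen.isLocalizedModule_restrict p.primeCompl T rfl g
  let eT : LocalizedModule p.primeCompl N' ≃ₗ[A'] LocalizedModule T N' :=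
    (IsLocalizedModule.iso p.primeCompl (g.restrictScalars B')).restrictScalars A'
  constructor
  · intro hp q _ hq
    haveI : Module.Flat A' (LocalizedModule T N') :=
      haveI : Module.Flat A' (LocalizedModule p.primeCompl N') := hp
      Module.Flat.of_linearEquiv eT.symm
    haveI := FlatMor.FlatAtBC.flat_localizedModule A' q.primeCompl (LocalizedModule T N')
    let f₁ := LocalizedModule.mkLinearMap q.primeCompl N'
    let f₂ := LocalizedModule.mkLinearMap q.primeCompl (LocalizedModule T N')
    have hT : T ≤ q.primeCompl := by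
      rintro _ ⟨b, hb, rfl⟩
      exact fun h => hb (hq.le h)
    haveI : IsLocalizedModule q.primeCompl (f₂.comp g) := isLocalizedModule_comp_of_le hT g f₂
    exact Module.Flat.of_linearEquiv ((IsLocalizedModule.iso q.primeCompl (f₂.comp g)).restrictScalars A')
  · intro h
    let CT := Localization T
    let NT := LocalizedModule T N'
    haveI : IsScalarTower A' CT NT := IsScalarTower.of_algebraMap_smul fun r x => by
      rw [IsScalarTower.algebraMap_apply A' C' CT, IsScalarTower.algebraMap_smul, IsScalarTower.algebraMap_smul]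
    haveI : Module.Flat A' NT := by
      refine FlatOpen.flat_of_forall_flatAt (S := CT) (M := NT) fun Q' hQ' => ?_
      show Module.Flat A' (LocalizedModule Q'.primeCompl NT)
      let Q := Q'.comap (algebraMap C' CT)
      haveI : Q.IsPrime := Ideal.comap_isPrime _ _
      have hQp : Q.comap (algebraMap B' C') ≤ p := fun b hb => by
        by_contra hbp
        exact hQ'.ne_top (Ideal.eq_top_of_isUnit_mem _ hb
          (IsLocalization.map_units CT (⟨_, b, hbp, rfl⟩ : T)))
      obtain ⟨q, hQq, hqp, hqp'⟩ := Ideal.exists_ideal_over_prime_of_isIntegral p Q hQp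
      haveI := hqp
      haveI : Module.Flat A' (LocalizedModule Q.primeCompl N') := FlatOpen.flatAt_of_le hQq (h q hqp')
      let SQ := Localization.AtPrime Q'
      haveI : IsLocalization.AtPrime SQ Q :=
        IsLocalization.isLocalization_isLocalization_atPrime_isLocalization T SQ Q'
      let f2 := LocalizedModule.mkLinearMap Q'.primeCompl NT
      have h1 : IsBaseChange CT g := (isLocalizedModule_iff_isBaseChange T CT g).mp inferInstance
      have h2 : IsBaseChange SQ f2 := (isLocalizedModule_iff_isBaseChange Q'.primeCompl SQ f2).mp inferInstance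
      let φ : N' →ₗ[C'] LocalizedModule Q'.primeCompl NT := (f2.restrictScalars C').comp g
      haveI : IsLocalizedModule Q.primeCompl φ :=
        (isLocalizedModule_iff_isBaseChange Q.primeCompl SQ φ).mpr (h1.comp h2)
      exact Module.Flat.of_linearEquiv ((IsLocalizedModule.iso Q.primeCompl φ).symm.restrictScalars A')
    exact Module.Flat.of_linearEquiv eT

end Groth.Agent.FlatMor62.AboveClosed
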