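import Groth.Agent.S1201
import Groth.Agent.Wt.RelAssGeneric
import Groth.Agent.FlatOpen.Scheme
import Groth.Agent.CAlgA.FibreMod
import Groth.Agent.QCoh.FiniteType
import Groth.Agent.FlatMisc.Fiber
import Groth.Prelude.Def_FlatFun

/-!
# Flatness is tested on the relative assassin

`flatOverAt_of_relAss`: a finite type quasi-coherent module on `X` locally of finite type over `S` is flat at
`x` as soon as it is flat at the points of its relative assassin in the fibre of `x` generalising `x`.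
`exists_relAss_not_flat`: a non-flat point generalises, in its fibre, to a non-flat relative associated point.
-/

set_option autoImplicit false

universe u

open AlgebraicGeometry CategoryTheory TopologicalSpace
open Groth.Agent.AssSch.Stalk

namespace Groth.Agent.FlatMor62.RelAssFlat

/-- An associated prime of the fibre module is minimal over some colon ideal. -/
theorem exists_minimal_colon {R B : Type u} [CommRing R] [CommRing B] [Algebra R B]
    (N : Type u) [AddCommGroup N] [Module B N] [Module R N] [IsScalarTower R B N] (p : Ideal R) [p.IsPrime]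
    (q : Ideal B) [q.IsPrime] [q.LiesOver p]
    (hass : FlatCA.fiberIdeal p q ∈ associatedPrimes (p.Fiber B) (FlatCA.fiberMod p B N)) [IsNoetherianRing (p.Fiber B)] :
    ∃ m : N, q ∈ ((Wt.RelAssRing.pM B N p).colon {m}).minimalPrimes := by
  classical
  obtain ⟨x, hx⟩ := (isAssociatedPrime_iff.mp hass).2
  obtain ⟨r, hr, n, hrn⟩ := CAlgA.FibreMod.exists_smul_eq N p x
  have hn : ∀ b : B, b • FlatCA.toFiberMod p B N n = 0 ↔ b ∈ q := by
    intro b
    rw [← hrn, smul_comm, ← CAlgA.FibreMod.includeRight_smul N p b]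
    conv_rhs => rw [← FlatMisc.Fiber.comap_fiberIdeal p q, Ideal.mem_comap]
    constructor
    · intro h
      rw [hx, Submodule.mem_colon_singleton, Submodule.mem_bot]
      exact CAlgA.FibreMod.eq_zero_of_smul_eq_zero N p hr h
    · intro h
      rw [hx, Submodule.mem_colon_singleton, Submodule.mem_bot] at h
      exact (congrArg (algebraMap R B r • ·) h).trans (smul_zero _)
  have hle : (Wt.RelAssRing.pM B N p).colon {n} ≤ q := fun b hb => by
    rw [Submodule.mem_colon_singleton] at hb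
    refine (hn b).mp ?_
    rw [← map_smul]
    exact CAlgA.FibreMod.toFiberMod_eq_zero_of_mem N p hb
  refine ⟨n, ⟨inferInstance, hle⟩, fun Q hQ hQq b hb => ?_⟩
  obtain ⟨s, hs, hsb⟩ := CAlgA.FibreMod.exists_smul_mem N p
    (show FlatCA.toFiberMod p B N (b • n) = 0 by rw [map_smul]; exact (hn b).mpr hb)
  have h1 : algebraMap R B s * b ∈ Q := hQ.2 (by rw [Submodule.mem_colon_singleton, mul_smul]; exact hsb)
  exact (hQ.1.mem_or_mem h1).resolve_left fun h => hs ((q.over_def p).ge (hQq h))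

variable {X S : Scheme.{u}} (f : X ⟶ S) [LocallyOfFiniteType f]

/-- Flatness at a point follows from flatness at the relative associated points of the fibre generalising it. -/
theorem flatOverAt_of_relAss (F : X.Modules) [F.IsQuasicoherent] (hF : CohB1.IsFT F) (x : X)
    (h : ∀ y : X, y ⤳ x → f y = f x → y ∈ MoreMor.relAss f F → FlatMod.IsFlatOverAt f F y) :
    FlatMod.IsFlatOverAt f F x := by
  obtain ⟨_, ⟨W, hW, rfl⟩, hfx, -⟩ := S.isBasis_affineOpens.exists_subset_of_mem_open
    (Set.mem_univ (f x)) isOpen_univ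
  obtain ⟨_, ⟨U, hU, rfl⟩, hx, hUW⟩ := X.isBasis_affineOpens.exists_subset_of_mem_open
    (show x ∈ (f ⁻¹ᵁ W : Set X) from hfx) (f ⁻¹ᵁ W).2
  have e : U ≤ f ⁻¹ᵁ W := hUW
  letI := (f.appLE W U e).hom.toAlgebra
  letI : Module Γ(S, W) Γ(F, U) := Module.compHom _ (f.appLE W U e).hom
  haveI : IsScalarTower Γ(S, W) Γ(X, U) Γ(F, U) := IsScalarTower.of_algebraMap_smul fun _ _ => rfl
  haveI : Algebra.FiniteType Γ(S, W) Γ(X, U) := f.finiteType_appLE hW hU e
  haveI : Module.Finite Γ(X, U) Γ(F, U) := @QCoh.finite_sections_of_isFiniteType _ F _ hF _ hU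
  let p := primeOf hW (f x) (e hx)
  haveI : (primeOf hU x hx).LiesOver p := ⟨(Wt.RelAssRing.comap_primeOf f hW hU e x hx).symm⟩
  rw [FlatOpen.Scheme.isFlatOverAt_iff f hW hU e x hx, S1201.result Γ(F, U) p (primeOf hU x hx)]
  intro q' _ hle hover hass
  haveI := hover
  let z : PrimeSpectrum Γ(X, U) := ⟨q', inferInstance⟩
  let y : X := hU.fromSpec z
  have hy : y ∈ U := hU.range_fromSpec.le ⟨z, rfl⟩
  have hz : hU.primeIdealOf ⟨y, hy⟩ = z := (hU.isOpenImmersion_fromSpec).base_open.injective (hU.fromSpec_primeIdealOf _)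
  have hq : primeOf hU y hy = q' := congrArg PrimeSpectrum.asIdeal hz
  have hspec : y ⤳ x := by
    have := ((PrimeSpectrum.le_iff_specializes z (hU.primeIdealOf ⟨x, hx⟩)).mp hle).map hU.fromSpec.continuous
    rwa [hU.fromSpec_primeIdealOf] at this
  have hfy : f y = f x := by
    have h1 : hW.primeIdealOf ⟨f y, e hy⟩ = hW.primeIdealOf ⟨f x, e hx⟩ := by
      refine PrimeSpectrum.ext ?_
      show primeOf hW (f y) (e hy) = p
      rw [← Wt.RelAssRing.comap_primeOf f hW hU e y hy, hq]
      exact hover.over.symm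
    exact (hW.fromSpec_primeIdealOf ⟨f y, e hy⟩).symm.trans ((congrArg _ h1).trans (hW.fromSpec_primeIdealOf ⟨f x, e hx⟩))
  have hrel : y ∈ MoreMor.relAss f F := by
    rw [Wt.RelAssRing.mem_relAss_iff f F hW hU e y hy]
    haveI := RGFlat.isNoetherianRing_fiber (S := Γ(X, U)) p
    obtain ⟨m, hm⟩ := exists_minimal_colon Γ(F, U) p q' hass
    refine ⟨m, ?_⟩
    have hp : primeOf hW (f y) (e hy) = p := by
      rw [← Wt.RelAssRing.comap_primeOf f hW hU e y hy, hq]
      exact hover.over.symm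
    rw [hp, hq]
    exact hm
  exact FlatOpen.flatAt_congr hq.symm ((FlatOpen.Scheme.isFlatOverAt_iff f hW hU e y hy F).mp (h y hspec hfy hrel))

omit [LocallyOfFiniteType f] in
/-- Flatness over the base is stable under generalisation. -/
theorem flatOverAt_of_specializes (F : X.Modules) [F.IsQuasicoherent] {x y : X} (hxy : x ⤳ y)
    (h : FlatMod.IsFlatOverAt f F y) : FlatMod.IsFlatOverAt f F x := by
  obtain ⟨_, ⟨W, hW, rfl⟩, hfy, -⟩ := S.isBasis_affineOpens.exists_subset_of_mem_open
    (Set.mem_univ (f y)) isOpen_univ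
  obtain ⟨_, ⟨U, hU, rfl⟩, hy, hUW⟩ := X.isBasis_affineOpens.exists_subset_of_mem_open
    (show y ∈ (f ⁻¹ᵁ W : Set X) from hfy) (f ⁻¹ᵁ W).2
  have e : U ≤ f ⁻¹ᵁ W := hUW
  have hx : x ∈ U := hxy.mem_open U.2 hy
  letI := (f.appLE W U e).hom.toAlgebra
  letI : Module Γ(S, W) Γ(F, U) := Module.compHom _ (f.appLE W U e).hom
  haveI : IsScalarTower Γ(S, W) Γ(X, U) Γ(F, U) := IsScalarTower.of_algebraMap_smul fun _ _ => rfl
  rw [FlatOpen.Scheme.isFlatOverAt_iff f hW hU e x hx]
  refine FlatOpen.flatAt_of_le ?_ ((FlatOpen.Scheme.isFlatOverAt_iff f hW hU e y hy F).mp h)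
  refine (PrimeSpectrum.le_iff_specializes (hU.primeIdealOf ⟨x, hx⟩) (hU.primeIdealOf ⟨y, hy⟩)).mpr ?_
  refine (hU.isOpenImmersion_fromSpec).base_open.isInducing.specializes_iff.mp ?_
  show hU.fromSpec (hU.primeIdealOf ⟨x, hx⟩) ⤳ hU.fromSpec (hU.primeIdealOf ⟨y, hy⟩)
  rw [hU.fromSpec_primeIdealOf, hU.fromSpec_primeIdealOf]
  exact hxy

/-- A non-flat point is a specialisation in its fibre of a non-flat relative associated point. -/
theorem exists_relAss_not_flat (F : X.Modules) [F.IsQuasicoherent] (hF : CohB1.IsFT F) (x : X)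
    (h : ¬ FlatMod.IsFlatOverAt f F x) :
    ∃ y : X, y ⤳ x ∧ f y = f x ∧ y ∈ MoreMor.relAss f F ∧ ¬ FlatMod.IsFlatOverAt f F y := by
  by_contra hc
  push Not at hc
  exact h (flatOverAt_of_relAss f F hF x hc)

end Groth.Agent.FlatMor62.RelAssFlat
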