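import Groth.Agent.FlatMor62.AssDimAlg
import Groth.Agent.FlatMor62.RelAssFlat
import Groth.Agent.FibSemi.Basic
import Groth.Agent.FibSemi.Dims
import Groth.Agent.FlatOpen.EquiDim
import Groth.Agent.DimLift.Basic

/-!
# Dimension of the closure of a relative associated point along flat points (Stacks 05LA)
-/

set_option autoImplicit false
set_option linter.style.haveILetI false

universe u

open AlgebraicGeometry CategoryTheory TopologicalSpace Topology
open Groth.Agent.AssSch.Stalk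

attribute [local instance] specializationOrder
attribute [local instance] Algebra.TensorProduct.rightAlgebra

namespace Groth.Agent.FlatMor62.AssDim

/-- A prime minimal over a colon ideal gives an associated prime of the fibre. -/
theorem assoc_of_minimal_colon {R B : Type u} [CommRing R] [CommRing B] [Algebra R B] [Algebra.FiniteType R B]
    (N : Type u) [AddCommGroup N] [Module B N] [Module R N] [IsScalarTower R B N] [Module.Finite B N]
    (p : Ideal R) [p.IsPrime] (q : Ideal B) [q.IsPrime] [q.LiesOver p] (m : N)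
    (hm : q ∈ ((Wt.RelAssRing.pM B N p).colon {m}).minimalPrimes) :
    FlatCA.fiberIdeal p q ∈ associatedPrimes (p.Fiber B) (FlatCA.fiberMod p B N) := by
  haveI := RGFlat.isNoetherianRing_fiber (S := B) p
  haveI := RGFlat.finite_fiberMod (S := B) (N := N) p
  let ι : B →+* p.Fiber B := (Algebra.TensorProduct.includeRight (R := R) (A := p.ResidueField) (B := B)).toRingHom
  let T := FlatCA.fiberIdeal p q
  haveI : T.IsPrime := RGFlat.fiberIdeal_isPrime (S := B) p q
  have hcom : T.comap ι = q := FlatMisc.Fiber.comap_fiberIdeal p q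
  let y := FlatCA.toFiberMod p B N m
  have key : ∀ b : p.Fiber B, ∃ (c : R) (s : B), c ∉ p ∧ IsUnit (algebraMap R (p.Fiber B) c) ∧
      algebraMap R (p.Fiber B) c * b = ι s := by
    intro b
    obtain ⟨c, hc, s, hcs⟩ := Ideal.Fiber.exists_smul_eq_one_tmul p b
    refine ⟨c, s, hc, ?_, by rw [← Algebra.smul_def]; exact hcs⟩
    rw [IsScalarTower.algebraMap_apply R p.ResidueField (p.Fiber B)]
    refine IsUnit.map _ ?_
    rw [isUnit_iff_ne_zero, Ne, Ideal.algebraMap_residueField_eq_zero]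
    exact hc
  have hJT : (Submodule.span (p.Fiber B) {y}).annihilator ≤ T := fun b hb => by
    obtain ⟨c, s, hc, hu, hcs⟩ := key b
    have h0 : FlatCA.toFiberMod p B N (s • m) = 0 := by
      rw [map_smul, ← CAlgA.FibreMod.includeRight_smul N p s]
      show ι s • y = 0
      rw [← hcs, mul_smul, WeakAss.mem_ann.mp hb, smul_zero]
    obtain ⟨r, hr, hrm⟩ := CAlgA.FibreMod.exists_smul_mem N p h0
    have h1 : algebraMap R B r * s ∈ q := hm.1.2 (by rw [Submodule.mem_colon_singleton, mul_smul]; exact hrm)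
    have h2 : ι s ∈ T := Ideal.mem_map_of_mem ι
      ((‹q.IsPrime›.mem_or_mem h1).resolve_left fun h => hr ((q.over_def p).ge h))
    rw [← hcs] at h2
    exact (Ideal.unit_mul_mem_iff_mem _ hu).mp h2
  have hmin : T ∈ (Submodule.span (p.Fiber B) {y}).annihilator.minimalPrimes := by
    refine ⟨⟨inferInstance, hJT⟩, fun Q hQ hQT b hb => ?_⟩
    haveI := hQ.1
    have hle : (Wt.RelAssRing.pM B N p).colon {m} ≤ Q.comap ι := fun s hs => by
      rw [Submodule.mem_colon_singleton] at hs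
      refine hQ.2 (WeakAss.mem_ann.mpr ?_)
      show ι s • y = 0
      show (Algebra.TensorProduct.includeRight (R := R) (A := p.ResidueField) s : p.Fiber B) • y = 0
      rw [CAlgA.FibreMod.includeRight_smul, ← map_smul]
      exact CAlgA.FibreMod.toFiberMod_eq_zero_of_mem N p hs
    obtain ⟨c, s, hc, hu, hcs⟩ := key b
    have hsq : s ∈ q := by
      rw [← hcom, Ideal.mem_comap, ← hcs]
      exact T.mul_mem_left _ hb
    have h3 : s ∈ Q.comap ι :=
      hm.2 ⟨Ideal.comap_isPrime ι Q, hle⟩ (hcom ▸ Ideal.comap_mono hQT) hsq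
    rw [Ideal.mem_comap, ← hcs] at h3
    exact (Ideal.unit_mul_mem_iff_mem _ hu).mp h3
  obtain ⟨-, m', hm'⟩ := WeakAss.mem_ass_of_fg (IsNoetherian.noetherian T)
    (show T ∈ FlatCA.weakAss (p.Fiber B) (FlatCA.fiberMod p B N) from ⟨y, hmin⟩)
  exact isAssociatedPrime_iff.mpr ⟨inferInstance, m', hm'.trans (by
    ext a
    rw [WeakAss.mem_ann, Submodule.mem_colon_singleton, Submodule.mem_bot])⟩

variable {X S : Scheme.{u}} (f : X ⟶ S) [LocallyOfFiniteType f]

/-- A flat point, generic in its fibre of the closure of a relative associated point, is relative associated. -/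
theorem relAss_of_flat (F : X.Modules) [F.IsQuasicoherent] (hF : CohB1.IsFT F) {y x : X}
    (hy : y ∈ MoreMor.relAss f F) (hyx : y ⤳ x) (hfl : FlatMod.IsFlatOverAt f F x)
    (hmax : ∀ z : X, y ⤳ z → z ⤳ x → f z = f x → z = x) : x ∈ MoreMor.relAss f F := by
  obtain ⟨W, hW, hfx, -⟩ := exists_isAffineOpen_mem_and_subset (U := ⊤) (x := f x) trivial
  obtain ⟨U, hU, hx, hUW⟩ := exists_isAffineOpen_mem_and_subset (U := f ⁻¹ᵁ W) (x := x) hfx
  have e : U ≤ f ⁻¹ᵁ W := hUW
  have hyU : y ∈ U := hyx.mem_open U.2 hx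
  letI := (f.appLE W U e).hom.toAlgebra
  letI : Module Γ(S, W) Γ(F, U) := Module.compHom _ (f.appLE W U e).hom
  haveI : IsScalarTower Γ(S, W) Γ(X, U) Γ(F, U) := IsScalarTower.of_algebraMap_smul fun _ _ => rfl
  haveI : Algebra.FiniteType Γ(S, W) Γ(X, U) := f.finiteType_appLE hW hU e
  haveI : Module.Finite Γ(X, U) Γ(F, U) := @QCoh.finite_sections_of_isFiniteType _ F _ hF _ hU
  let p := primeOf hW (f x) (e hx)
  let p' := primeOf hW (f y) (e hyU)
  haveI : (primeOf hU x hx).LiesOver p := ⟨(Wt.RelAssRing.comap_primeOf f hW hU e x hx).symm⟩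
  haveI : (primeOf hU y hyU).LiesOver p' := ⟨(Wt.RelAssRing.comap_primeOf f hW hU e y hyU).symm⟩
  have hle : primeOf hU y hyU ≤ primeOf hU x hx := by
    refine (PrimeSpectrum.le_iff_specializes (hU.primeIdealOf ⟨y, hyU⟩) (hU.primeIdealOf ⟨x, hx⟩)).mpr ?_
    refine (hU.isOpenImmersion_fromSpec).base_open.isInducing.specializes_iff.mp ?_
    show hU.fromSpec (hU.primeIdealOf ⟨y, hyU⟩) ⤳ hU.fromSpec (hU.primeIdealOf ⟨x, hx⟩)
    rw [hU.fromSpec_primeIdealOf, hU.fromSpec_primeIdealOf]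
    exact hyx
  obtain ⟨m, hm⟩ := (Wt.RelAssRing.mem_relAss_iff f F hW hU e y hyU).mp hy
  obtain ⟨q, _, hyq, hqx, hover, hass⟩ := exists_assoc_between (N := Γ(F, U)) p p' (primeOf hU y hyU)
    (assoc_of_minimal_colon Γ(F, U) p' (primeOf hU y hyU) m hm) (primeOf hU x hx) hle
    ((FlatOpen.Scheme.isFlatOverAt_iff f hW hU e x hx F).mp hfl)
  haveI := hover
  let w : PrimeSpectrum Γ(X, U) := ⟨q, inferInstance⟩
  let z : X := hU.fromSpec w
  have hz : z ∈ U := hU.range_fromSpec.le ⟨w, rfl⟩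
  have hw : hU.primeIdealOf ⟨z, hz⟩ = w := (hU.isOpenImmersion_fromSpec).base_open.injective (hU.fromSpec_primeIdealOf _)
  have hq : primeOf hU z hz = q := congrArg PrimeSpectrum.asIdeal hw
  have hyz : y ⤳ z := by
    have := ((PrimeSpectrum.le_iff_specializes (hU.primeIdealOf ⟨y, hyU⟩) w).mp hyq).map hU.fromSpec.continuous
    rwa [hU.fromSpec_primeIdealOf] at this
  have hzx : z ⤳ x := by
    have := ((PrimeSpectrum.le_iff_specializes w (hU.primeIdealOf ⟨x, hx⟩)).mp hqx).map hU.fromSpec.continuous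
    rwa [hU.fromSpec_primeIdealOf] at this
  have hp : primeOf hW (f z) (e hz) = p := by
    rw [← Wt.RelAssRing.comap_primeOf f hW hU e z hz, hq]
    exact hover.over.symm
  have hfz : f z = f x := by
    have h1 : hW.primeIdealOf ⟨f z, e hz⟩ = hW.primeIdealOf ⟨f x, e hx⟩ := PrimeSpectrum.ext hp
    exact (hW.fromSpec_primeIdealOf ⟨f z, e hz⟩).symm.trans ((congrArg _ h1).trans (hW.fromSpec_primeIdealOf ⟨f x, e hx⟩))
  haveI := RGFlat.isNoetherianRing_fiber (S := Γ(X, U)) p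
  have hrel : z ∈ MoreMor.relAss f F := by
    rw [Wt.RelAssRing.mem_relAss_iff f F hW hU e z hz, hp, hq]
    exact RelAssFlat.exists_minimal_colon Γ(F, U) p q hass
  rwa [hmax z hyz hzx hfz] at hrel

/-- The closure of a relative associated point has, at a flat point, fibre no larger than its own. -/
theorem krullDim_specs_le (F : X.Modules) [F.IsQuasicoherent] (hF : CohB1.IsFT F) {y x : X}
    (hy : y ∈ MoreMor.relAss f F) (hyx : y ⤳ x) (hfl : FlatMod.IsFlatOverAt f F x) :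
    Order.krullDim {z : X | f z = f x ∧ x ⤳ z} ≤ Order.krullDim {z : X | f z = f y ∧ y ⤳ z} := by
  obtain ⟨V, hV, hsV, -⟩ := exists_isAffineOpen_mem_and_subset (U := ⊤) (x := f x) trivial
  obtain ⟨W, hW, hxW, eWsub⟩ := exists_isAffineOpen_mem_and_subset (U := f ⁻¹ᵁ V) (x := x) hsV
  have eW : W ≤ f ⁻¹ᵁ V := eWsub
  have hyW : y ∈ W := hyx.mem_open W.2 hxW
  letI := (f.appLE V W eW).hom.toAlgebra
  letI : Module Γ(S, V) Γ(F, W) := Module.compHom _ (f.appLE V W eW).hom
  haveI : IsScalarTower Γ(S, V) Γ(X, W) Γ(F, W) := IsScalarTower.of_algebraMap_smul fun _ _ => rfl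
  haveI : Algebra.FiniteType Γ(S, V) Γ(X, W) := f.finiteType_appLE hV hW eW
  haveI : Module.Finite Γ(X, W) Γ(F, W) := @QCoh.finite_sections_of_isFiniteType _ F _ hF _ hW
  let qx := hW.primeIdealOf ⟨x, hxW⟩
  let qy := hW.primeIdealOf ⟨y, hyW⟩
  let px := hV.primeIdealOf ⟨f x, eW hxW⟩
  let py := hV.primeIdealOf ⟨f y, eW hyW⟩
  have hqx : qx.comap (algebraMap Γ(S, V) Γ(X, W)) = px :=
    IsAffineOpen.comap_primeIdealOf_appLE V hV W hW eW hxW
  have hqy : qy.comap (algebraMap Γ(S, V) Γ(X, W)) = py :=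
    IsAffineOpen.comap_primeIdealOf_appLE V hV W hW eW hyW
  have hx' : hW.fromSpec qx = x := hW.fromSpec_primeIdealOf ⟨x, hxW⟩
  have hy' : hW.fromSpec qy = y := hW.fromSpec_primeIdealOf ⟨y, hyW⟩
  have hle_iff : ∀ a b : PrimeSpectrum Γ(X, W), a ≤ b ↔ hW.fromSpec a ⤳ hW.fromSpec b := fun a b =>
    (PrimeSpectrum.le_iff_specializes a b).trans hW.fromSpec.isOpenEmbedding.isEmbedding.specializes_iff.symm
  have hover : ∀ a b : PrimeSpectrum Γ(X, W),
      f (hW.fromSpec a) = f (hW.fromSpec b) ↔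
        a.comap (algebraMap Γ(S, V) Γ(X, W)) = b.comap (algebraMap Γ(S, V) Γ(X, W)) := fun a b => by
    rw [DimSpec.app_fromSpec hV hW eW, DimSpec.app_fromSpec hV hW eW]
    exact hV.fromSpec.isOpenEmbedding.injective.eq_iff
  haveI : qx.asIdeal.LiesOver px.asIdeal := ⟨(congrArg PrimeSpectrum.asIdeal hqx).symm⟩
  haveI : qy.asIdeal.LiesOver py.asIdeal := ⟨(congrArg PrimeSpectrum.asIdeal hqy).symm⟩
  obtain ⟨m, hm⟩ := (Wt.RelAssRing.mem_relAss_iff f F hV hW eW y hyW).mp hy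
  refine iSup_le fun l => ?_
  let l₀ : LTSeries X := l.map Subtype.val fun _ _ h => h
  obtain ⟨l₁, hlast, hl₁, hlen⟩ : ∃ l₁ : LTSeries X, l₁.last = x ∧
      (∀ i, f (l₁ i) = f x) ∧ l.length ≤ l₁.length := by
    by_cases heq : l₀.last = x
    swap
    · have he : l₀.last < x := lt_of_le_not_ge (l.last).2.2 fun h => heq
        ((show Specializes _ _ from h).antisymm (l.last).2.2).eq
      refine ⟨l₀.snoc _ he, RelSeries.last_snoc _ _ _, fun i => ?_, (Nat.le_succ _).trans_eq (by simp [l₀])⟩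
      rcases RelSeries.mem_snoc.mp (⟨i, rfl⟩ : (l₀.snoc _ he) i ∈ l₀.snoc _ he) with ⟨j, hj⟩ | hj
      · rw [← hj]; exact (l j).2.1
      · rw [hj]
    · exact ⟨l₀, heq, fun i => (l i).2.1, le_rfl⟩
  obtain ⟨l', hlast', hl', hlen'⟩ := FibSemi.exists_chain_top f l₁ (by rw [hlast]; exact hl₁) W (hlast ▸ hxW)
  choose p hp using fun i => DimSpec.exists_fromSpec hW (hl' i).2
  have hstr : StrictMono (fun j : Fin (l'.length + 1) => p j.rev) := fun i j hij => by
    have h0 := l'.strictMono (Fin.rev_lt_rev.mpr hij)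
    refine lt_of_le_not_ge ((hle_iff _ _).mpr (by rw [hp, hp]; exact h0.le)) fun h => ?_
    exact h0.not_ge (by rw [← hp, ← hp]; exact (hle_iff _ _).mp h)
  obtain ⟨a, ha⟩ := DimSpec.exists_indep_of_chain (A := Γ(S, V)) px.asIdeal (LTSeries.mk l'.length _ hstr) fun i => by
    refine Eq.trans ((hover _ qx).mp ((congrArg f (hp _)).trans ?_)) hqx
    rw [(hl' _).1, hlast, hx']
  have hhead : (LTSeries.mk l'.length _ hstr).head = qx := by
    show p (Fin.rev 0) = qx
    rw [Fin.rev_zero]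
    exact hW.fromSpec.isOpenEmbedding.injective ((hp _).trans ((hlast'.trans hlast).trans hx'.symm))
  rw [hhead] at ha
  have hb := indep_of_flat (N := Γ(F, W)) px.asIdeal py.asIdeal qx.asIdeal qy.asIdeal
    ((hle_iff qy qx).mpr (by rw [hx', hy']; exact hyx))
    ((FlatOpen.Scheme.isFlatOverAt_iff f hV hW eW x hxW F).mp hfl) m hm a ha
  obtain ⟨c, hclen, hc⟩ := DimSpec.exists_chain_of_indep (A := Γ(S, V)) py.asIdeal qy hqy _ hb
  have hstr' : StrictMono (fun j : Fin (c.length + 1) =>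
      (⟨hW.fromSpec (c j.rev), by
        rw [← hy']; exact (hover _ _).mpr ((hc _).2.trans hqy.symm), by
        rw [← hy']; exact (hle_iff _ _).mp (hc _).1⟩ : {z : X | f z = f y ∧ y ⤳ z})) := fun i j hij => by
    have h0 := c.strictMono (Fin.rev_lt_rev.mpr hij)
    exact lt_of_le_not_ge ((hle_iff _ _).mp h0.le) fun h => h0.not_ge ((hle_iff _ _).mpr h)
  refine le_trans ?_ (Order.le_krullDim_iff.mpr ⟨LTSeries.mk c.length _ hstr', rfl⟩)
  show _ ≤ ((c.length : ℕ∞) : WithBot ℕ∞)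
  rw [hclen]
  exact WithBot.coe_le_coe.mpr (ENat.natCast_le_natCast.mpr (hlen.trans hlen'))

/-- Specialisation sets in a fibre are computed on any closed subscheme containing the point. -/
theorem krullDim_specs_closed {Y : Scheme.{u}} (ι : Y ⟶ X) [IsClosedImmersion ι] (z₀ : Y) :
    Order.krullDim {w : Y | (ι ≫ f) w = (ι ≫ f) z₀ ∧ z₀ ⤳ w} =
      Order.krullDim {z : X | f z = f (ι z₀) ∧ ι z₀ ⤳ z} := by
  refine FibSemi.krullDim_eq_of_embedding ι (fun a b => ι.isClosedEmbedding.isEmbedding.specializes_iff)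
    ι.isClosedEmbedding.injective _ _ fun z => ?_
  constructor
  · rintro ⟨hz, hsp⟩
    obtain ⟨w, rfl⟩ := hsp.mem_closed ι.isClosedEmbedding.isClosed_range ⟨z₀, rfl⟩
    exact ⟨w, ⟨hz, ι.isClosedEmbedding.isEmbedding.specializes_iff.mp hsp⟩, rfl⟩
  · rintro ⟨w, ⟨hw, hsp⟩, rfl⟩
    exact ⟨hw, hsp.map ι.continuous⟩

omit [LocallyOfFiniteType f] in
/-- The fibre dimension at a point is at least the dimension of the fibre of a point it specialises from. -/
theorem le_fibreDimAt {Y : Scheme.{u}} (g : Y ⟶ S) [LocallyOfFiniteType g] {z₀ x₀ : Y} (h : z₀ ⤳ x₀) :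
    Order.krullDim {w : Y | g w = g z₀ ∧ z₀ ⤳ w} ≤ FlatMor.fibreDimAt g x₀ := by
  rw [← FibSemi.topDim_closure_inter_fibre_eq, FibSemi.fibreDimAt_eq]
  refine le_iInf fun U => ?_
  obtain ⟨V, hVo, hVU⟩ := isOpen_induced_iff.mp U.1.2
  have hx : x₀ ∈ V := by
    have h1 : (⟨x₀, rfl⟩ : ↥(g ⁻¹' {g x₀})) ∈ Subtype.val ⁻¹' V := by rw [hVU]; exact U.2
    exact h1
  refine le_trans (FibSemi.topDim_closure_inter_fibre_le g h ⟨V, hVo⟩ hx) ?_
  refine IsInducing.topologicalKrullDim_le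
    (f := fun w : ↥((V : Set Y) ∩ closure {z₀} ∩ g ⁻¹' {g x₀}) =>
      (⟨⟨w.1, w.2.2⟩, (Set.ext_iff.mp hVU ⟨w.1, w.2.2⟩).mp w.2.1.1⟩ : (U.1 : Set ↥(g ⁻¹' {g x₀})))) ?_
  exact IsInducing.of_comp (by fun_prop) continuous_subtype_val
    (IsInducing.of_comp (by fun_prop) continuous_subtype_val IsInducing.subtypeVal)

omit [LocallyOfFiniteType f] in
/-- At a maximal point of its fibre the fibre dimension is that of its closure. -/
theorem fibreDimAt_of_fMax {Y : Scheme.{u}} (g : Y ⟶ S) [LocallyOfFiniteType g] {x₀ : Y}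
    (hmax : ∀ w : Y, w ⤳ x₀ → g w = g x₀ → w = x₀) :
    FlatMor.fibreDimAt g x₀ = Order.krullDim {w : Y | g w = g x₀ ∧ x₀ ⤳ w} := by
  obtain ⟨n, m, hn, hm, hd⟩ := FibSemi.fibreDimAt_eq_add g x₀
  have hn0 : Order.krullDim {w : Y | g w = g x₀ ∧ w ⤳ x₀} ≤ 0 := by
    refine iSup_le fun l => ?_
    by_contra hl
    have hpos : l.length ≠ 0 := fun h => hl (by rw [h]; rfl)
    have h0 := hmax _ (l.head).2.2 (l.head).2.1
    have h1 := hmax _ (l.last).2.2 (l.last).2.1
    have hlt : l.head < l.last := l.strictMono (by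
      show (0 : Fin (l.length + 1)) < Fin.last _
      exact Fin.pos_iff_ne_zero.mpr fun h => hpos (by simpa using congrArg Fin.val h))
    exact hlt.ne (Subtype.ext (h0.trans h1.symm))
  rw [hn] at hn0
  have hn1 : n ≤ 0 := by
    have h2 : ((n : ℕ∞) : WithBot ℕ∞) ≤ ((0 : ℕ∞) : WithBot ℕ∞) := hn0
    exact ENat.natCast_le_natCast.mp (WithBot.coe_le_coe.mp h2)
  have : n = 0 := Nat.le_zero.mp hn1
  rw [hd, hm, this, zero_add]

omit [LocallyOfFiniteType f] in
/-- Fibre dimensions are bounded by the dimensions of the closures of the maximal points. -/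
theorem fibreDimAt_le {Y : Scheme.{u}} (g : Y ⟶ S) [LocallyOfFiniteType g] (x₀ : Y) (D : WithBot ℕ∞)
    (h : ∀ w : Y, g w = g x₀ → (∀ v : Y, v ⤳ w → g v = g w → v = w) →
      Order.krullDim {v : Y | g v = g w ∧ w ⤳ v} ≤ D) :
    FlatMor.fibreDimAt g x₀ ≤ D := by
  refine le_trans (iInf_le _ ⟨⊤, trivial⟩) ?_
  refine le_trans (IsInducing.topologicalKrullDim_le IsInducing.subtypeVal) ?_
  rw [DimLift.topDim_eq_krullDim_points]
  refine iSup_le fun l => ?_
  obtain ⟨η, hη, hmax⟩ := FlatOpen.EquiDim.exists_max l.last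
  have hs : ∀ v, g ((g.fiberι (g x₀)) v) = g x₀ := fun v => (g.range_fiberι (g x₀)).le ⟨v, rfl⟩
  have hfm := (FlatOpen.EquiDim.fMax_fiberι_iff g (g x₀) η).mp hmax
  refine le_trans ?_ (h _ (hs η) fun v hv hgv => hfm v hv hgv)
  refine Order.le_krullDim_iff.mpr ⟨LTSeries.mk l.length (fun i => (⟨g.fiberι (g x₀) (l i), (hs _).trans (hs η).symm,
    ((hη.trans (show l.last ⤳ l i from l.monotone (Fin.le_last i))).map (g.fiberι (g x₀)).continuous)⟩ :
      {v : Y | g v = g (g.fiberι (g x₀) η) ∧ g.fiberι (g x₀) η ⤳ v})) (fun i j hij => ?_), rfl⟩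
  have h0 := l.strictMono hij
  exact lt_of_le_not_ge (h0.le.map (g.fiberι (g x₀)).continuous)
    fun h => h0.not_ge ((g.fiberι (g x₀)).isEmbedding.specializes_iff.mp h)

end Groth.Agent.FlatMor62.AssDim
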