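import Groth.Agent.RGFlat.Spread
import Groth.Agent.RGFlat.Loc
import Groth.Agent.RGFlat.RelAssSpec
import Groth.Agent.FlatOpen.FibreFT
import Groth.Agent.Wt.RelAssScheme
import Groth.Agent.DimSpec.Core

/-!
# Relative associated points of flat modules and transcendence (Stacks 05LA, ring form)

* `exists_assoc_between`: below a flat point over `p`, a relative associated point lies below an associated
  point of the fibre over `p` which is still below that flat point.
* `indep_of_flat`: elements independent at a flat point stay independent at a relative associated point below it.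
-/

set_option autoImplicit false
set_option linter.style.haveILetI false

universe u

open TensorProduct

attribute [local instance] Algebra.TensorProduct.rightAlgebra

namespace Groth.Agent.FlatMor62.AssDim

/-- Flat modules have no torsion along elements acting bijectively, in the form needed for fibres over a domain. -/
theorem flat_of_bijective_smul {D M : Type u} [CommRing D] [IsDomain D] [AddCommGroup M] [Module D M]
    (h : ∀ d : D, d ≠ 0 → Function.Bijective fun m : M => d • m) : Module.Flat D M := by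
  let K := FractionRing D
  haveI : IsLocalizedModule (nonZeroDivisors D) (LinearMap.id : M →ₗ[D] M) :=
    ⟨fun d => (Module.End.isUnit_iff _).mpr (h d (nonZeroDivisors.ne_zero d.2)),
      fun y => ⟨⟨y, 1⟩, by simp⟩, fun {x₁ x₂} hx => ⟨1, by simpa using hx⟩⟩
  have hbc := (isLocalizedModule_iff_isBaseChange (nonZeroDivisors D) K
    (LocalizedModule.mkLinearMap (nonZeroDivisors D) M)).mp inferInstance
  haveI : Module.Flat D K := IsLocalization.flat K (nonZeroDivisors D)
  haveI : Module.Flat D (LocalizedModule (nonZeroDivisors D) M) := Module.Flat.trans D K _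
  exact Module.Flat.of_linearEquiv
    (IsLocalizedModule.iso (nonZeroDivisors D) (LinearMap.id : M →ₗ[D] M)).symm

variable {A B : Type u} [CommRing A] [CommRing B] [Algebra A B] [Algebra.FiniteType A B]
  {N : Type u} [AddCommGroup N] [Module B N] [Module A N] [IsScalarTower A B N] [Module.Finite B N]

/-- A relative associated point below a point of flatness is below an associated point of its fibre. -/
theorem exists_assoc_between (p : Ideal A) [p.IsPrime] (p' : Ideal A) [p'.IsPrime] (q' : Ideal B) [q'.IsPrime]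
    [q'.LiesOver p'] (hass : FlatCA.fiberIdeal p' q' ∈ associatedPrimes (p'.Fiber B) (FlatCA.fiberMod p' B N))
    (t : Ideal B) [t.IsPrime] [t.LiesOver p] (hq't : q' ≤ t) (hflat : FlatCA.FlatAt A t N) :
    ∃ (q : Ideal B) (_ : q.IsPrime), q' ≤ q ∧ q ≤ t ∧ q.LiesOver p ∧
      FlatCA.fiberIdeal p q ∈ associatedPrimes (p.Fiber B) (FlatCA.fiberMod p B N) := by
  classical
  haveI := RGFlat.isNoetherianRing_fiber (S := B) p
  haveI := RGFlat.finite_fiberMod (S := B) (N := N) p
  let ι : B →+* p.Fiber B := (Algebra.TensorProduct.includeRight (R := A) (A := p.ResidueField) (B := B)).toRingHom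
  let T := FlatCA.fiberIdeal p t
  haveI : T.IsPrime := RGFlat.fiberIdeal_isPrime (S := B) p t
  let X := {P ∈ associatedPrimes (p.Fiber B) (FlatCA.fiberMod p B N) | P ≤ T}
  have hX : X.Finite := (associatedPrimes.finite _ _).subset (Set.sep_subset _ _)
  have hcom : T.comap ι = t := FlatMisc.Fiber.comap_fiberIdeal p t
  have hover : ∀ P ∈ X, (P.comap ι).LiesOver p := by
    intro P hP
    haveI : P.IsPrime := hP.1.1
    constructor
    ext a
    show a ∈ p ↔ ι (algebraMap A B a) ∈ P
    rw [show ι (algebraMap A B a) = algebraMap A (p.Fiber B) a from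
      (Algebra.TensorProduct.includeRight (R := A) (A := p.ResidueField) (B := B)).commutes a,
      IsScalarTower.algebraMap_apply A p.ResidueField (p.Fiber B)]
    refine ⟨fun ha => ?_, fun ha => by_contra fun hap => ?_⟩
    · rw [Ideal.algebraMap_residueField_eq_zero.mpr ha, map_zero]; exact zero_mem _
    · refine hP.1.1.ne_top (Ideal.eq_top_of_isUnit_mem _ ha (IsUnit.map _ ?_))
      rw [isUnit_iff_ne_zero, Ne, Ideal.algebraMap_residueField_eq_zero]
      exact hap
  have hmapcomap : ∀ P : Ideal (p.Fiber B), (P.comap ι).map ι = P := fun P => by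
    refine le_antisymm Ideal.map_comap_le fun b hb => ?_
    obtain ⟨c, hc, s, hcs⟩ := Ideal.Fiber.exists_smul_eq_one_tmul p b
    have hs : s ∈ P.comap ι := by
      show (1 : p.ResidueField) ⊗ₜ[A] s ∈ P
      rw [← hcs, Algebra.smul_def]
      exact P.mul_mem_left _ hb
    have h1 : (1 : p.ResidueField) ⊗ₜ[A] s ∈ (P.comap ι).map ι := Ideal.mem_map_of_mem ι hs
    rw [← hcs, Algebra.smul_def, IsScalarTower.algebraMap_apply A p.ResidueField (p.Fiber B)] at h1
    refine (Ideal.unit_mul_mem_iff_mem _ (IsUnit.map _ ?_)).mp h1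
    rw [isUnit_iff_ne_zero, Ne, Ideal.algebraMap_residueField_eq_zero]
    exact hc
  by_contra hc
  push Not at hc
  obtain ⟨σ, hσ', hσ⟩ : ∃ σ ∈ q', ∀ P ∈ X, σ ∉ P.comap ι := by
    by_contra h
    push Not at h
    have hsub : (q' : Set B) ⊆ ⋃ P ∈ X, ((P.comap ι : Ideal B) : Set B) := fun a ha => by
      obtain ⟨P, hP, haP⟩ := h a ha
      exact Set.mem_biUnion hP haP
    obtain ⟨P, hP, hle⟩ := (Ideal.subset_union_prime_finite hX (f := fun P => P.comap ι) ⊥ ⊥
      fun P hP _ _ => haveI : P.IsPrime := hP.1.1; Ideal.comap_isPrime ι P).mp hsub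
    haveI : P.IsPrime := hP.1.1
    refine hc (P.comap ι) (Ideal.comap_isPrime ι P) hle (hcom ▸ Ideal.comap_mono hP.2) (hover P hP) ?_
    show Ideal.map ι (P.comap ι) ∈ associatedPrimes (p.Fiber B) (FlatCA.fiberMod p B N)
    rw [hmapcomap]
    exact hP.1
  have hreg : ∀ m : N, σ • m ∈ CAlgA.FibreMod.pN (S := B) N p → ∃ s ∉ t, s • m ∈ CAlgA.FibreMod.pN (S := B) N p := by
    intro m hm
    let y := FlatCA.toFiberMod p B N m
    have hnle : ¬ (Submodule.span (p.Fiber B) {y}).annihilator ≤ T := fun hle => by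
      obtain ⟨P, hP, hPT⟩ := Ideal.exists_minimalPrimes_le hle
      haveI : P.IsPrime := hP.1.1
      obtain ⟨-, m', hm'⟩ := WeakAss.mem_ass_of_fg (IsNoetherian.noetherian P)
        (show P ∈ FlatCA.weakAss (p.Fiber B) (FlatCA.fiberMod p B N) from ⟨y, hP⟩)
      have hPass : P ∈ associatedPrimes (p.Fiber B) (FlatCA.fiberMod p B N) :=
        isAssociatedPrime_iff.mpr ⟨inferInstance, m', hm'.trans (by
          ext a
          rw [WeakAss.mem_ann, Submodule.mem_colon_singleton, Submodule.mem_bot])⟩
      refine hσ P ⟨hPass, hPT⟩ (hP.1.2 (WeakAss.mem_ann.mpr ?_))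
      show (Algebra.TensorProduct.includeRight (R := A) (A := p.ResidueField) σ : p.Fiber B) • FlatCA.toFiberMod p B N m = 0
      rw [CAlgA.FibreMod.includeRight_smul, ← map_smul]
      exact CAlgA.FibreMod.toFiberMod_eq_zero_of_mem N p hm
    obtain ⟨b, hb, hbT⟩ := SetLike.not_le_iff_exists.mp hnle
    obtain ⟨c, hc0, s, hcs⟩ := Ideal.Fiber.exists_smul_eq_one_tmul p b
    have hs : s ∉ t := fun hst => hbT (by
      have h1 : (1 : p.ResidueField) ⊗ₜ[A] s ∈ T := Ideal.mem_map_of_mem ι hst
      rw [← hcs, Algebra.smul_def, IsScalarTower.algebraMap_apply A p.ResidueField (p.Fiber B)] at h1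
      refine (Ideal.unit_mul_mem_iff_mem _ (IsUnit.map _ ?_)).mp h1
      rw [isUnit_iff_ne_zero, Ne, Ideal.algebraMap_residueField_eq_zero]
      exact hc0)
    have h0 : FlatCA.toFiberMod p B N (s • m) = 0 := by
      rw [map_smul, ← CAlgA.FibreMod.includeRight_smul N p s]
      show ((1 : p.ResidueField) ⊗ₜ[A] s : p.Fiber B) • y = 0
      rw [← hcs]
      have hby : b • y = 0 := WeakAss.mem_ann.mp hb
      rw [Algebra.smul_def, mul_smul, hby, smul_zero]
    obtain ⟨r, hr, hrm⟩ := CAlgA.FibreMod.exists_smul_mem N p h0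
    refine ⟨algebraMap A B r * s, fun h => ?_, by rw [mul_smul]; exact hrm⟩
    exact ((‹t.IsPrime›.mem_or_mem h).elim (fun h' => hr ((t.over_def p).ge h')) hs)
  have hflat' : FlatCA.FlatAt A q' N := FlatOpen.flatAt_of_le hq't hflat
  have hp' : p' ∈ FlatCA.weakAss A (A ⧸ p') :=
    WeakAss.mem_weakAss_iff.mpr ⟨Submodule.Quotient.mk 1, fun a ha => by
      rwa [← Submodule.Quotient.mk_smul, Submodule.Quotient.mk_eq_zero, smul_eq_mul, mul_one] at ha,
      fun f hf => ⟨1, fun h => (inferInstance : p'.IsPrime).ne_top ((Ideal.eq_top_iff_one _).mpr h), 1, by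
        rw [one_mul, pow_one, ← Submodule.Quotient.mk_smul, Submodule.Quotient.mk_eq_zero, smul_eq_mul, mul_one]
        exact hf⟩⟩
  obtain ⟨x, hx, hrad⟩ := WeakAss.mem_weakAss_iff.mp
    ((RGFlat.mem_weakAss_tensor_iff (M := A ⧸ p') p' q' hflat').mpr ⟨hp', hass⟩)
  obtain ⟨s, hs, k, hk⟩ := hrad σ hσ'
  rw [mul_comm, mul_smul] at hk
  obtain ⟨u, hu, hux⟩ := RGFlat.exists_smul_eq_zero_of_pow_fibre_regular p t hflat σ hreg _ _ k hk
  rw [← mul_smul] at hux
  exact q'.primeCompl.mul_mem (fun h => hu (hq't h)) hs (hx _ hux)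

/-- Independence at a flat point passes to a relative associated point below it. -/
theorem indep_of_flat (p p' : Ideal A) [p.IsPrime] [p'.IsPrime] (q q' : Ideal B) [q.IsPrime] [q'.IsPrime]
    [q.LiesOver p] [q'.LiesOver p'] (hle : q' ≤ q) (hflat : FlatCA.FlatAt A q N) (m : N)
    (hm : q' ∈ ((Wt.RelAssRing.pM B N p').colon {m}).minimalPrimes) {r : ℕ} (z : Fin r → B)
    (hz : DimSpec.Indep p q z) : DimSpec.Indep p' q' z := by
  classical
  obtain ⟨n, π, hπ⟩ := Algebra.FiniteType.iff_quotient_mvPolynomial''.1 ‹Algebra.FiniteType A B›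
  let C := MvPolynomial (Fin n) A
  let P := MvPolynomial (Fin r) A
  choose w hw using fun i => hπ (z i)
  letI : Algebra C B := π.toRingHom.toAlgebra
  haveI : IsScalarTower A C B := IsScalarTower.of_algebraMap_eq fun a => (π.commutes a).symm
  letI : Algebra P C := (MvPolynomial.aeval w : P →ₐ[A] C).toRingHom.toAlgebra
  haveI : IsScalarTower A P C := IsScalarTower.of_algebraMap_eq fun a => ((MvPolynomial.aeval w : P →ₐ[A] C).commutes a).symm
  have hcomp : ∀ G : P, π (algebraMap P C G) = MvPolynomial.aeval z G := fun G => by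
    show π (MvPolynomial.aeval w G) = _
    rw [← AlgHom.comp_apply, MvPolynomial.comp_aeval]
    simp only [hw]
  have hsurj : Function.Surjective (algebraMap C B) := hπ
  letI : Module C N := Module.compHom N π.toRingHom
  haveI : IsScalarTower C B N := IsScalarTower.of_algebraMap_smul fun _ _ => rfl
  haveI : IsScalarTower A C N := IsScalarTower.of_algebraMap_smul fun a x => by
    show π (algebraMap A C a) • x = a • x
    rw [π.commutes, algebraMap_smul]
  letI : Module P N := Module.compHom N (algebraMap P C)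
  haveI : IsScalarTower P C N := IsScalarTower.of_algebraMap_smul fun _ _ => rfl
  haveI : IsScalarTower A P N := IsScalarTower.of_algebraMap_smul fun a x => by
    show algebraMap P C (algebraMap A P a) • x = a • x
    rw [← IsScalarTower.algebraMap_apply A P C, algebraMap_smul]
  haveI : Module.Finite C B := Module.Finite.of_surjective (Algebra.linearMap C B) hsurj
  haveI : Module.Finite C N := Module.Finite.trans B N
  let Q : Ideal C := q.comap (algebraMap C B)
  haveI : Q.IsPrime := Ideal.comap_isPrime _ _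
  have hflatC : FlatCA.FlatAt A Q N := (RGFlat.flatAt_comap_iff hsurj q).mpr hflat
  haveI : Module.Flat A (LocalizedModule Q.primeCompl N) := hflatC
  haveI : Module.FinitePresentation (Localization.AtPrime Q) (LocalizedModule Q.primeCompl N) :=
    RGFlat.fp_of_flat (R := A) Q (Localization.AtPrime Q) (LocalizedModule Q.primeCompl N)
  obtain ⟨ρ, K, θ, hK, hθ, hθker⟩ := RGFlat.exists_model (S := C) (M := N) Q
  let M := (Fin ρ → C) ⧸ K
  haveI : Module.FinitePresentation C M := Module.finitePresentation_of_surjective K.mkQ K.mkQ_surjective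
    (by rw [Submodule.ker_mkQ]; exact hK)
  let θQ := LocalizedModule.map Q.primeCompl θ
  have hθQ : Function.Bijective θQ := ⟨by
      rw [← LinearMap.ker_eq_bot, eq_bot_iff]
      intro x hx
      induction x using LocalizedModule.induction_on with
      | h v s =>
        rw [LinearMap.mem_ker, LocalizedModule.map_mk, RGFlat.mk_eq_zero_iff] at hx
        obtain ⟨t, ht⟩ := hx
        rw [← map_smul] at ht
        obtain ⟨s', hs', hv⟩ := hθker _ ht
        rw [Submodule.mem_bot, RGFlat.mk_eq_zero_iff]
        exact ⟨⟨s' * t, Q.primeCompl.mul_mem hs' t.2⟩, by show (s' * (t : C)) • v = 0; rw [mul_smul]; exact hv⟩,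
    LocalizedModule.map_surjective _ θ hθ⟩
  let eQ := LinearEquiv.ofBijective θQ hθQ
  have hflatM : FlatCA.FlatAt A Q M := Module.Flat.of_linearEquiv (eQ.restrictScalars A)
  have hQp : Q.comap (algebraMap A C) = p := by
    rw [Ideal.comap_comap, ← IsScalarTower.algebraMap_eq]
    exact (q.over_def p).symm
  let I : Ideal P := p.map (algebraMap A P)
  have hIker : I = RingHom.ker (MvPolynomial.map (σ := Fin r) (Ideal.Quotient.mk p)) := by
    rw [MvPolynomial.ker_map, Ideal.mk_ker]
    rfl
  haveI : I.IsPrime := by rw [hIker]; exact RingHom.ker_isPrime _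
  haveI : IsDomain (P ⧸ I) := Ideal.Quotient.isDomain _
  let MQ := LocalizedModule Q.primeCompl M
  have hunit : ∀ G : P, G ∉ I → Function.Bijective fun x : MQ => G • x := by
    intro G hG
    have hGQ : algebraMap P C G ∉ Q := fun h => by
      have h1 : π (algebraMap P C G) ∈ q := h
      rw [hcomp] at h1
      refine hz G ?_ h1
      by_contra hc
      push Not at hc
      exact hG (by
        rw [hIker, RingHom.mem_ker]
        ext i
        rw [MvPolynomial.coeff_map, MvPolynomial.coeff_zero, Ideal.Quotient.eq_zero_iff_mem]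
        exact hc i)
    have h2 := (Module.End.isUnit_iff _).1 (IsLocalizedModule.map_units
      (LocalizedModule.mkLinearMap Q.primeCompl M) (⟨algebraMap P C G, hGQ⟩ : Q.primeCompl))
    have h3 : (fun x : MQ => G • x) = fun x : MQ => algebraMap P C G • x :=
      funext fun x => (algebraMap_smul C G x).symm
    rw [h3]
    exact h2
  have hfib : Module.Flat (P ⧸ I) ((P ⧸ I) ⊗[P] MQ) := by
    refine flat_of_bijective_smul fun d hd => ?_
    obtain ⟨G, rfl⟩ := Ideal.Quotient.mk_surjective d
    have hG : G ∉ I := fun h => hd (Ideal.Quotient.eq_zero_iff_mem.mpr h)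
    let eG : MQ ≃ₗ[P] MQ := LinearEquiv.ofBijective (LinearMap.lsmul P MQ G) (hunit G hG)
    have h4 : (fun x : (P ⧸ I) ⊗[P] MQ => Ideal.Quotient.mk I G • x) = eG.lTensor (P ⧸ I) := by
      funext x
      induction x with
      | zero => simp
      | tmul a b =>
        show Ideal.Quotient.mk I G • (a ⊗ₜ[P] b) = a ⊗ₜ[P] (G • b)
        rw [TensorProduct.tmul_smul, ← algebraMap_smul (P ⧸ I) G (a ⊗ₜ[P] b)]
        rfl
      | add u v hu hv => simp only [smul_add, hu, hv, map_add]
    rw [h4]
    exact (eG.lTensor (P ⧸ I)).bijective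
  have hflatP : FlatCA.FlatAt P Q M :=
    FlatOpen.fibre_flat_criterion_ft A P C M Q hflatM I (by rw [hQp]) hfib
  haveI : Module.Flat P (LocalizedModule Q.primeCompl M) := hflatP
  haveI : Module.Flat P (LocalizedModule Q.primeCompl N) := Module.Flat.of_linearEquiv (eQ.restrictScalars P).symm
  intro G hG hGq'
  obtain ⟨hle', hrad⟩ := WeakAss.minimalPrimes_iff.mp hm
  obtain ⟨s, hs, k, hk⟩ := hrad _ hGq'
  rw [Submodule.mem_colon_singleton] at hk
  let J : Ideal P := p'.map (algebraMap A P)
  have hJker : J = RingHom.ker (MvPolynomial.map (σ := Fin r) (Ideal.Quotient.mk p')) := by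
    rw [MvPolynomial.ker_map, Ideal.mk_ker]
    rfl
  haveI : J.IsPrime := by rw [hJker]; exact RingHom.ker_isPrime _
  have hGJ : G ^ k ∉ J := fun h => by
    obtain ⟨i, hi⟩ := hG
    have h5 : MvPolynomial.map (Ideal.Quotient.mk p') G = 0 :=
      RingHom.mem_ker.mp (hJker ▸ ‹J.IsPrime›.mem_of_pow_mem k h)
    have h6 := congrArg (MvPolynomial.coeff i) h5
    rw [MvPolynomial.coeff_map, MvPolynomial.coeff_zero, Ideal.Quotient.eq_zero_iff_mem] at h6
    exact hi h6
  let NQ := LocalizedModule Q.primeCompl N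
  let φ := LocalizedModule.mkLinearMap Q.primeCompl N
  have hJR : ∀ {V : Type u} [AddCommGroup V] [Module P V] [Module A V] [IsScalarTower A P V] (v : V),
      v ∈ J • (⊤ : Submodule P V) ↔ v ∈ p' • (⊤ : Submodule A V) := fun {V} _ _ _ _ v => by
    rw [← Submodule.restrictScalars_mem A, Ideal.smul_restrictScalars, Submodule.restrictScalars_top]
  have hinj : ∀ x : NQ, G ^ k • x ∈ J • (⊤ : Submodule P NQ) → x ∈ J • (⊤ : Submodule P NQ) := by
    intro x hx
    let μ : P ⧸ J →ₗ[P] P ⧸ J := (G ^ k) • LinearMap.id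
    have hμ : Function.Injective μ := by
      rw [injective_iff_map_eq_zero]
      intro a ha
      obtain ⟨a, rfl⟩ := Ideal.Quotient.mk_surjective a
      have ha' : Ideal.Quotient.mk J (G ^ k * a) = 0 := ha
      rw [Ideal.Quotient.eq_zero_iff_mem] at ha' ⊢
      exact (‹J.IsPrime›.mem_or_mem ha').resolve_left hGJ
    have hinj' := Module.Flat.rTensor_preserves_injective_linearMap (M := NQ) μ hμ
    let e := quotTensorEquivQuotSMul NQ J
    rw [← Submodule.Quotient.mk_eq_zero] at hx ⊢
    rw [← e.symm.map_eq_zero_iff]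
    apply hinj'
    rw [map_zero, show μ.rTensor NQ = (G ^ k) • LinearMap.id by
      rw [LinearMap.rTensor_smul, LinearMap.rTensor_id]]
    simp only [LinearMap.smul_apply, LinearMap.id_apply]
    rw [← map_smul, ← Submodule.Quotient.mk_smul, hx, map_zero]
  -- transfer between `B` and `C`
  obtain ⟨s₀, rfl⟩ := hsurj s
  have hpN : ∀ v : N, v ∈ Wt.RelAssRing.pM B N p' ↔ v ∈ p' • (⊤ : Submodule A N) := fun v =>
    Wt.RelAssRing.mem_pM_iff
  have h7 : G ^ k • (s₀ • m) ∈ J • (⊤ : Submodule P N) := by
    rw [hJR, ← hpN]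
    have h8 : G ^ k • (s₀ • m) = (algebraMap C B s₀ * MvPolynomial.aeval z G ^ k) • m := by
      show algebraMap P C (G ^ k) • s₀ • m = _
      rw [← mul_smul]
      show π (algebraMap P C (G ^ k) * s₀) • m = _
      rw [map_mul, map_pow (algebraMap P C), map_pow π, hcomp, mul_comm]
      rfl
    rw [h8]
    exact hk
  have h9 : φ (s₀ • m) ∈ J • (⊤ : Submodule P NQ) := by
    refine hinj _ ?_
    have h10 := Submodule.mem_map_of_mem (f := φ.restrictScalars P) h7
    rw [Submodule.map_smul''] at h10
    have h11 := Submodule.smul_mono le_rfl (le_top (a := Submodule.map (φ.restrictScalars P) ⊤)) h10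
    rwa [LinearMap.map_smul] at h11
  rw [hJR] at h9
  have h12 : φ (s₀ • m) ∈ (p'.map (algebraMap A C)).map (algebraMap C (Localization.AtPrime Q)) •
      (⊤ : Submodule (Localization.AtPrime Q) NQ) := by
    rw [Ideal.map_map, ← IsScalarTower.algebraMap_eq, ← Submodule.restrictScalars_mem A,
      Ideal.smul_restrictScalars, Submodule.restrictScalars_top]
    exact h9
  obtain ⟨u, hu, hum⟩ := (Wt.RelAssRing.map_mem_iff Q φ _ _).mp h12
  have h13 : (algebraMap C B u * algebraMap C B s₀) • m ∈ Wt.RelAssRing.pM B N p' := by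
    rw [hpN]
    have : u • s₀ • m ∈ p' • (⊤ : Submodule A N) := by
      rw [← Wt.RelAssRing.mem_pM_iff (A := C)]
      exact hum
    rwa [mul_smul, algebraMap_smul, algebraMap_smul]
  rcases ‹q'.IsPrime›.mem_or_mem (hle' (Submodule.mem_colon_singleton.mpr h13)) with h | h
  · exact hu (hle h)
  · exact hs h

end Groth.Agent.FlatMor62.AssDim
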