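import Groth.Agent.Thick.FlatCancel
import Groth.Agent.GrpScheme.FlatFib.Scheme
import Groth.Agent.FlatMor.FibMapCrit
import Groth.Agent.FlatOpen.Scheme
import Groth.Agent.FlatOpen.SmoothAt
import Mathlib.RingTheory.AdicCompletion.LocalRing
import Mathlib.RingTheory.AdicCompletion.AsTensorProduct
import Mathlib.RingTheory.DiscreteValuationRing.Basic

/-! Flatness and smoothness over the completion along the closed fibre of a smooth algebra over a DVR. -/

universe u

open CategoryTheory CategoryTheory.Limits AlgebraicGeometry IsLocalRing Topology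

namespace Groth.Agent.FlatMor62.ComplFib

variable {V : Type u} [CommRing V] [IsLocalRing V] {A : Type u} [CommRing A] [Algebra V A]

/-- The fibre over the closed point factors through `Spec (A/mA)`. -/
theorem fiberι_factors :
    ∃ l : (Spec.map (CommRingCat.ofHom (algebraMap V A))).fiber (closedPoint V) ⟶
        Spec (CommRingCat.of (A ⧸ (maximalIdeal V).map (algebraMap V A))),
      l ≫ Spec.map (CommRingCat.ofHom (Ideal.Quotient.mk ((maximalIdeal V).map (algebraMap V A)))) =
        (Spec.map (CommRingCat.ofHom (algebraMap V A))).fiberι (closedPoint V) := by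
  let g := Spec.map (CommRingCat.ofHom (algebraMap V A))
  let s : ↥(Spec (CommRingCat.of V)) := closedPoint V
  haveI : IsAffine (g.fiber s) := inferInstanceAs (IsAffine (pullback g _))
  let e := (g.fiber s).isoSpec
  obtain ⟨φ, hφ⟩ : ∃ φ, Spec.map φ = e.inv ≫ g.fiberι s := Spec.map_surjective _
  obtain ⟨ρ, hρ⟩ : ∃ ρ, Spec.map ρ = e.inv ≫ g.fiberToSpecResidueField s := Spec.map_surjective _
  obtain ⟨ψ, hψ⟩ : ∃ ψ, Spec.map ψ = (Spec (CommRingCat.of V)).fromSpecResidueField s :=
    Spec.map_surjective _
  have hcomm : CommRingCat.ofHom (algebraMap V A) ≫ φ = ψ ≫ ρ := Spec.map_injective (by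
    rw [Spec.map_comp, Spec.map_comp, hφ, hρ, hψ, Category.assoc, Category.assoc]
    exact congrArg (e.inv ≫ ·) pullback.condition)
  have hker : RingHom.ker ψ.hom = maximalIdeal V := by
    let ψ' : V →+* (Spec (CommRingCat.of V)).residueField s := ψ.hom
    let z : ↥(Spec ((Spec (CommRingCat.of V)).residueField s)) := ⟨⊥, Ideal.isPrime_bot⟩
    have hz : Spec.map ψ z = s := by rw [hψ]; exact Scheme.fromSpecResidueField_apply _ _
    have := congrArg PrimeSpectrum.asIdeal hz
    exact this
  have hI : (maximalIdeal V).map (algebraMap V A) ≤ RingHom.ker φ.hom := by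
    rw [Ideal.map_le_iff_le_comap]
    intro a ha
    have h1 := DFunLike.congr_fun (congrArg CommRingCat.Hom.hom hcomm) a
    rw [← hker] at ha
    show φ.hom (algebraMap V A a) = 0
    simpa [show ψ.hom a = 0 from ha] using h1
  refine ⟨e.hom ≫ Spec.map (CommRingCat.ofHom (Ideal.Quotient.lift _ φ.hom fun a ha => hI ha)), ?_⟩
  have hc : CommRingCat.ofHom (Ideal.Quotient.mk ((maximalIdeal V).map (algebraMap V A))) ≫
      CommRingCat.ofHom (Ideal.Quotient.lift _ φ.hom fun a ha => hI ha) = φ := by
    ext a; rfl
  rw [Category.assoc, ← Spec.map_comp, hc, hφ, Iso.hom_inv_id_assoc]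

/-- Reduction modulo `I` factors through the completion. -/
theorem mk_factors (I : Ideal A) :
    Spec.map (CommRingCat.ofHom (AdicCompletion.evalOneₐ I).toRingHom) ≫
      Spec.map (CommRingCat.ofHom (algebraMap A (AdicCompletion I A))) =
      Spec.map (CommRingCat.ofHom (Ideal.Quotient.mk I)) := by
  rw [← Spec.map_comp]
  congr 1

/-- A property stable under base change descends along a factorisation of the base morphism. -/
theorem baseChange_of_factors (P : MorphismProperty Scheme.{u}) [P.IsStableUnderBaseChange]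
    {X Y T T' : Scheme.{u}} (h : X ⟶ Y) (b : T ⟶ Y) (b' : T' ⟶ Y) (l : T' ⟶ T) (hl : l ≫ b = b')
    (hp : P (pullback.snd h b)) : P (pullback.snd h b') := by
  subst hl
  refine (P.cancel_left_of_respectsIso (pullbackLeftPullbackSndIso h b l).hom _).mp ?_
  rw [pullbackLeftPullbackSndIso_hom_snd]
  exact P.pullback_snd _ _ hp

/-- A property of the restriction to an open holds for a base change landing in that open. -/
theorem snd_of_preimage (P : MorphismProperty Scheme.{u}) [P.IsStableUnderBaseChange]
    {X Y T : Scheme.{u}} (h : X ⟶ Y) (b : T ⟶ Y) (U : X.Opens)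
    (hU : ∀ x', pullback.fst h b x' ∈ U) (hp : P (U.ι ≫ h)) : P (pullback.snd h b) := by
  have hrange : Set.range (pullback.fst h b) ⊆ Set.range U.ι := by
    rintro _ ⟨x', rfl⟩; rw [Scheme.Opens.range_ι]; exact hU x'
  let i := IsOpenImmersion.lift U.ι (pullback.fst h b) hrange
  have hi : i ≫ U.ι = pullback.fst h b := IsOpenImmersion.lift_fac ..
  let l : pullback h b ⟶ pullback (U.ι ≫ h) b :=
    pullback.lift i (pullback.snd h b) (by rw [reassoc_of% hi, pullback.condition])
  let j : pullback (U.ι ≫ h) b ⟶ pullback h b :=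
    pullback.lift (pullback.fst (U.ι ≫ h) b ≫ U.ι) (pullback.snd _ _)
      (by rw [Category.assoc, pullback.condition])
  have l1 : l ≫ pullback.fst (U.ι ≫ h) b = i := pullback.lift_fst _ _ _
  have l2 : l ≫ pullback.snd (U.ι ≫ h) b = pullback.snd h b := pullback.lift_snd _ _ _
  have j1 : j ≫ pullback.fst h b = pullback.fst (U.ι ≫ h) b ≫ U.ι := pullback.lift_fst _ _ _
  have j2 : j ≫ pullback.snd h b = pullback.snd (U.ι ≫ h) b := pullback.lift_snd _ _ _
  haveI : IsIso l := ⟨j,
    pullback.hom_ext (by rw [Category.assoc, j1, reassoc_of% l1, hi, Category.id_comp])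
      (by rw [Category.assoc, j2, l2, Category.id_comp]),
    pullback.hom_ext (by rw [← cancel_mono U.ι]; simp only [Category.assoc, reassoc_of% l1, hi, j1, Category.id_comp])
      (by rw [Category.assoc, l2, j2, Category.id_comp])⟩
  have e : l ≫ pullback.snd (U.ι ≫ h) b = pullback.snd h b := pullback.lift_snd _ _ _
  rw [← e]
  exact (P.cancel_left_of_respectsIso l _).mpr (P.pullback_snd _ _ hp)

theorem range_specMap_mk (I : Ideal A) :
    Set.range (Spec.map (CommRingCat.ofHom (Ideal.Quotient.mk I))) = PrimeSpectrum.zeroLocus I :=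
  (range_comap_of_surjective _ _ Ideal.Quotient.mk_surjective).trans (by rw [Ideal.mk_ker])

/-- An open of the source containing the closed fibre contains the image of the completed family. -/
theorem preimage_eq_top [IsNoetherianRing A] {X : Scheme.{u}} (h : X ⟶ Spec (CommRingCat.of A))
    [IsProper h] (U : X.Opens)
    (hU : ∀ x, Spec.map (CommRingCat.ofHom (algebraMap V A)) (h x) = closedPoint V → x ∈ U)
    (x' : ↥(pullback h (Spec.map (CommRingCat.ofHom
      (algebraMap A (AdicCompletion ((maximalIdeal V).map (algebraMap V A)) A)))))) :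
    pullback.fst h _ x' ∈ U := by
  by_contra hx
  let I := (maximalIdeal V).map (algebraMap V A)
  let b := Spec.map (CommRingCat.ofHom (algebraMap A (AdicCompletion I A)))
  have hC : IsClosed (b ⁻¹' (h '' (U : Set X)ᶜ)) :=
    (h.isClosedMap _ U.2.isClosed_compl).preimage b.continuous
  let z := pullback.snd h b x'
  have hz : z ∈ b ⁻¹' (h '' (U : Set X)ᶜ) := by
    refine ⟨pullback.fst h b x', hx, ?_⟩
    rw [← Scheme.Hom.comp_apply, pullback.condition]
    rfl
  let z' : PrimeSpectrum (AdicCompletion I A) := z
  obtain ⟨M, hM, hzM⟩ := z'.asIdeal.exists_le_maximal z'.isPrime.ne_top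
  let w : PrimeSpectrum (AdicCompletion I A) := ⟨M, hM.isPrime⟩
  have hzw : z' ⤳ w := (PrimeSpectrum.le_iff_specializes z' w).mp hzM
  obtain ⟨x, hxU, hxw⟩ := hC.stableUnderSpecialization hzw hz
  apply hxU
  refine hU x ?_
  haveI : IsAdicComplete (I.map (algebraMap A (AdicCompletion I A))) (AdicCompletion I A) :=
    AdicCompletion.isAdicComplete_self I (IsNoetherian.noetherian I)
  have hIM : I.map (algebraMap A (AdicCompletion I A)) ≤ M :=
    (IsAdicComplete.le_jacobson_bot _).trans (sInf_le ⟨bot_le, hM⟩)
  let v : PrimeSpectrum V := Spec.map (CommRingCat.ofHom (algebraMap V A)) (h x)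
  have hv : maximalIdeal V ≤ v.asIdeal := by
    intro a ha
    have h1 : algebraMap A (AdicCompletion I A) (algebraMap V A a) ∈ M :=
      hIM (Ideal.mem_map_of_mem _ (Ideal.mem_map_of_mem _ ha))
    have hxw' : v = Spec.map (CommRingCat.ofHom (algebraMap V A)) (b w) :=
      congrArg (Spec.map (CommRingCat.ofHom (algebraMap V A))) hxw
    rw [hxw']
    exact h1
  exact PrimeSpectrum.ext ((le_maximalIdeal v.isPrime.ne_top).antisymm hv)

end Groth.Agent.FlatMor62.ComplFib

namespace Groth.Agent.FlatMor62.ComplFib

variable {V : Type u} [CommRing V] [IsDomain V] [IsDiscreteValuationRing V] {A : Type u} [CommRing A]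
  [Algebra V A]

/-- A point of `Spec V` other than the closed one has a field as stalk. -/
theorem flat_stalkMap_of_ne {Y : Scheme.{u}} (q : Y ⟶ Spec (CommRingCat.of V)) (y : Y)
    (hy : q y ≠ closedPoint V) : (q.stalkMap y).hom.Flat := by
  let v : PrimeSpectrum V := q y
  have hv : v.asIdeal = ⊥ := by
    by_contra hne
    haveI := v.isPrime
    exact hy (PrimeSpectrum.ext (IsLocalRing.eq_maximalIdeal (v.isPrime.isMaximal hne)))
  haveI : IsDomain ↑(CommRingCat.of V) := ‹IsDomain V›
  have hg : q y = genericPoint ↥(Spec (CommRingCat.of V)) := by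
    rw [genericPoint_eq_bot_of_affine]; exact PrimeSpectrum.ext hv
  have hF : IsField ((Spec (CommRingCat.of V)).presheaf.stalk (q y)) := by
    rw [hg]
    exact Field.toIsField (Spec (CommRingCat.of V)).functionField
  letI := hF.toField
  exact (inferInstance : @Module.Flat ((Spec (CommRingCat.of V)).presheaf.stalk (q y))
    (Y.presheaf.stalk y) _ _ (q.stalkMap y).hom.toAlgebra.toModule)

variable [Algebra.Smooth V A] {X : Scheme.{u}} (h : X ⟶ Spec (CommRingCat.of A)) [IsProper h]

theorem isNoetherian_of_smooth (V A : Type u) [CommRing V] [IsNoetherianRing V] [CommRing A]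
    [Algebra V A] [Algebra.Smooth V A] : IsNoetherianRing A :=
  Algebra.FiniteType.isNoetherianRing V A

/-- Over the closed point, `h` is flat if `X` is flat over `V` and the reduction is flat. -/
theorem flat_of_reduction (hX : Flat (h ≫ Spec.map (CommRingCat.ofHom (algebraMap V A))))
    (h0 : Flat (pullback.snd h (Spec.map (CommRingCat.ofHom
      (Ideal.Quotient.mk ((maximalIdeal V).map (algebraMap V A))))))) (x : X)
    (hx : Spec.map (CommRingCat.ofHom (algebraMap V A)) (h x) = closedPoint V) :
    (h.stalkMap x).hom.Flat := by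
  haveI := isNoetherian_of_smooth V A
  let g := Spec.map (CommRingCat.ofHom (algebraMap V A))
  haveI : LocallyOfFinitePresentation g :=
    (HasRingHomProperty.Spec_iff (P := @LocallyOfFinitePresentation)).mpr
      (RingHom.finitePresentation_algebraMap.mpr inferInstance)
  haveI : LocallyOfFinitePresentation (h ≫ g) := inferInstance
  obtain ⟨l, hl⟩ := fiberι_factors (V := V) (A := A)
  haveI : Flat (MoreMor.fiberMap h g (g (h x))) := by
    rw [show g (h x) = closedPoint V from hx]
    exact FlatMor.FibMap.fiberMap_of_baseChange @Flat h g _ (baseChange_of_factors @Flat h _ _ l hl h0)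
  exact (GrpScheme.FlatFib.flat_of_fibre h g x (Flat.stalkMap (h ≫ g) x) (Flat.stalkMap _ _)).2

theorem flat_iff :
    (Flat (h ≫ Spec.map (CommRingCat.ofHom (algebraMap V A))) ∧
        Flat (pullback.snd h (Spec.map (CommRingCat.ofHom
          (Ideal.Quotient.mk ((maximalIdeal V).map (algebraMap V A))))))) ↔
      Flat (pullback.snd h (Spec.map (CommRingCat.ofHom
          (algebraMap A (AdicCompletion ((maximalIdeal V).map (algebraMap V A)) A))))) := by
  haveI := isNoetherian_of_smooth V A
  set I := (maximalIdeal V).map (algebraMap V A)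
  let g := Spec.map (CommRingCat.ofHom (algebraMap V A))
  let b := Spec.map (CommRingCat.ofHom (algebraMap A (AdicCompletion I A)))
  haveI : LocallyOfFinitePresentation h := inferInstance
  refine ⟨fun ⟨hX, h0⟩ => ?_, fun hc => ?_⟩
  · let U : X.Opens := ⟨{x | (h.stalkMap x).hom.Flat}, FlatOpen.Scheme.isOpen_stalkMap_flat h⟩
    have hU : ∀ x', pullback.fst h b x' ∈ U :=
      preimage_eq_top h U fun x hx => flat_of_reduction h hX h0 x hx
    refine snd_of_preimage @Flat h b U hU (Flat.of_stalkMap _ fun x => ?_)
    exact (EtStruct.stalkMap_ι_comp_iff h RingHom.Flat.respectsIso U x).mpr x.2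
  · have h0 : Flat (pullback.snd h (Spec.map (CommRingCat.ofHom (Ideal.Quotient.mk I)))) :=
      baseChange_of_factors @Flat h _ _ _ (mk_factors I) hc
    refine ⟨Flat.of_stalkMap _ fun x => ?_, h0⟩
    by_cases hx : g (h x) = closedPoint V
    · haveI : Flat b := (HasRingHomProperty.Spec_iff (P := @Flat)).mpr
        (RingHom.flat_algebraMap_iff.mpr (AdicCompletion.flat_of_isNoetherian I))
      haveI : Flat (pullback.fst h b) := inferInstance
      obtain ⟨t, ht⟩ : h x ∈ Set.range (Spec.map (CommRingCat.ofHom (Ideal.Quotient.mk I))) := by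
        refine (range_specMap_mk I).ge (Ideal.map_le_iff_le_comap.mpr ?_)
        exact (congrArg PrimeSpectrum.asIdeal hx).ge
      have ht' : b (Spec.map (CommRingCat.ofHom (AdicCompletion.evalOneₐ I).toRingHom) t) = h x := by
        rw [← ht, ← Scheme.Hom.comp_apply, mk_factors]
      obtain ⟨x', hx', -⟩ := Scheme.Pullback.exists_preimage_pullback (f := h) (g := b) x _ ht'.symm
      have h1 : (h.stalkMap (pullback.fst h b x')).hom.Flat :=
        Thick.FlatCancel.flat_stalkMap_of_comp _ h x' (Flat.stalkMap _ _) (by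
          haveI : Flat (pullback.fst h b ≫ h) := by rw [pullback.condition]; infer_instance
          exact Flat.stalkMap _ _)
      rw [hx'] at h1
      haveI : Flat g := (HasRingHomProperty.Spec_iff (P := @Flat)).mpr
        (RingHom.flat_algebraMap_iff.mpr inferInstance)
      rw [Scheme.Hom.stalkMap_comp]
      exact RingHom.Flat.comp (Flat.stalkMap g (h x)) h1
    · exact flat_stalkMap_of_ne (h ≫ g) x hx

end Groth.Agent.FlatMor62.ComplFib

namespace Groth.Agent.FlatMor62.ComplFib

variable {V : Type u} [CommRing V] [IsDomain V] [IsDiscreteValuationRing V] {A : Type u} [CommRing A]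
  [Algebra V A] [Algebra.Smooth V A] {X : Scheme.{u}} (h : X ⟶ Spec (CommRingCat.of A)) [IsProper h]

theorem smooth_iff :
    (Flat (h ≫ Spec.map (CommRingCat.ofHom (algebraMap V A))) ∧
        Smooth (pullback.snd h (Spec.map (CommRingCat.ofHom
          (Ideal.Quotient.mk ((maximalIdeal V).map (algebraMap V A))))))) ↔
      Smooth (pullback.snd h (Spec.map (CommRingCat.ofHom
          (algebraMap A (AdicCompletion ((maximalIdeal V).map (algebraMap V A)) A))))) := by
  haveI := isNoetherian_of_smooth V A
  let g := Spec.map (CommRingCat.ofHom (algebraMap V A))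
  haveI : LocallyOfFinitePresentation h := inferInstance
  refine ⟨fun ⟨hX, h0⟩ => ?_, fun hc => ⟨((flat_iff h).mpr (haveI := hc; inferInstance)).1,
    baseChange_of_factors @Smooth h _ _ _ (mk_factors _) hc⟩⟩
  refine snd_of_preimage @Smooth h _ h.smoothLocus (preimage_eq_top h _ fun x hx => ?_) ?_
  · have hf := flat_of_reduction h hX (haveI := h0; inferInstance) x hx
    obtain ⟨l, hl⟩ := fiberι_factors (V := V) (A := A)
    haveI : Smooth (h.fiberToSpecResidueField (h x)) := by
      refine FlatMor.FibMap.fiber_of_baseChange @Smooth h g (h x) ?_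
      rw [show g (h x) = closedPoint V from hx]
      exact baseChange_of_factors @Smooth h _ _ l hl h0
    have := FlatOpen.SmoothAt.formallySmooth_stalkMap_iff_fibre h (h x) (h.asFiber x)
    rw [h.fiberι_asFiber x] at this
    refine Scheme.Hom.mem_smoothLocus.mpr (this.mpr ⟨hf, ?_⟩)
    exact Scheme.Hom.mem_smoothLocus.mp (Scheme.Hom.smoothLocus_eq_top (h.fiberToSpecResidueField (h x)) ▸ trivial)
  · refine Scheme.Hom.smoothLocus_eq_top_iff.mp (top_le_iff.mp fun x _ => ?_)
    exact Scheme.Hom.mem_smoothLocus.mpr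
      ((EtStruct.stalkMap_ι_comp_iff h RingHom.FormallySmooth.respectsIso h.smoothLocus x).mpr x.2)

end Groth.Agent.FlatMor62.ComplFib
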