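import Groth.Agent.FlatMor62.LocalStruct

/-!
# The geometrically connected piece through a purely transcendental point
-/

set_option autoImplicit false
set_option linter.style.haveILetI false

universe u

open AlgebraicGeometry CategoryTheory Limits TensorProduct

namespace Groth.Agent.FlatMor62.Component

open Groth.Agent.FlatMor62.LocalStruct

set_option maxHeartbeats 2000000 in
set_option backward.isDefEq.respectTransparency.types false in
/-- After an étale neighbourhood of the base, a smooth algebra has an open piece through a point with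
purely transcendental residue field all of whose surjective open pieces have geometrically integral fibres. -/
theorem exists_component (R D₂ : Type u) [CommRing R] [CommRing D₂] [Algebra R D₂] (n : ℕ)
    (hsm : FlatCA.SmoothRelDim n R D₂) (p : Ideal R) [p.IsPrime] (P₂ : Ideal D₂) [P₂.IsPrime] [P₂.LiesOver p]
    (hPT : FlatCA.PurelyTranscendental p P₂) :
    ∃ (R' : Type u) (_ : CommRing R') (_ : Algebra R R') (p' : Ideal R') (_ : p'.IsPrime),
      FlatCA.IsEtaleNhd R R' p p' ∧
      ∃ (y : Ideal (R' ⊗[R] D₂)) (_ : y.IsPrime), y.comap (algebraMap R' (R' ⊗[R] D₂)) = p' ∧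
        y.comap (Algebra.TensorProduct.includeRight : D₂ →ₐ[R] R' ⊗[R] D₂).toRingHom = P₂ ∧
        ∃ h : R' ⊗[R] D₂, h ∉ y ∧
          ∀ (R'' D'' : Type u) [CommRing R''] [CommRing D''] [Algebra R' R''] [Algebra R'' D'']
            [Algebra (R' ⊗[R] D₂) D''],
            (algebraMap (R' ⊗[R] D₂) D'').comp (algebraMap R' (R' ⊗[R] D₂)) =
              (algebraMap R'' D'').comp (algebraMap R' R'') →
            IsOpenImmersion (Spec.map (CommRingCat.ofHom (algebraMap R' R''))) →
            IsOpenImmersion (Spec.map (CommRingCat.ofHom (algebraMap (R' ⊗[R] D₂) D''))) →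
            IsUnit (algebraMap (R' ⊗[R] D₂) D'' h) →
            Function.Surjective (PrimeSpectrum.comap (algebraMap R'' D'')) →
            FlatCA.GeomIntegralFibres R'' D'' := by
  let h₂ : Spec (CommRingCat.of D₂) ⟶ Spec (CommRingCat.of R) :=
    Spec.map (CommRingCat.ofHom (algebraMap R D₂))
  haveI hsn : SmoothOfRelativeDimension n h₂ := hsm
  haveI : Smooth h₂ := SmoothOfRelativeDimension.smooth n h₂
  haveI := geometricallyReduced_of_smooth h₂
  let s : Spec (CommRingCat.of R) := ⟨p, inferInstance⟩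
  let u₂ : Spec (CommRingCat.of D₂) := ⟨P₂, inferInstance⟩
  have hu₂ : h₂ u₂ = s := PrimeSpectrum.ext (P₂.over_def p).symm
  let γ : p.ResidueField →ₐ[R] P₂.ResidueField :=
    Ideal.ResidueField.mapₐ p P₂ (Algebra.ofId R D₂) (P₂.over_def p)
  let ιp : Spec (CommRingCat.of p.ResidueField) ⟶ Spec ((Spec (CommRingCat.of R)).residueField s) :=
    Spec.map (Scheme.Spec.residueFieldIso (CommRingCat.of R) s).hom
  haveI : MorphismProperty.RespectsIso @GeometricallyConnected :=
    MorphismProperty.IsStableUnderBaseChange.respectsIso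
  haveI hgc : GeometricallyConnected (Spec.map (CommRingCat.ofHom γ.toRingHom) ≫ ιp) := by
    rw [MorphismProperty.cancel_right_of_respectsIso @GeometricallyConnected]
    unfold FlatCA.PurelyTranscendental at hPT
    letI : Algebra p.ResidueField P₂.ResidueField := γ.toRingHom.toAlgebra
    obtain ⟨ι, x, hx, htop⟩ := hPT
    exact FieldFib.geometricallyConnected_of_adjoin_eq_top x hx.1 htop
  let σ : Spec (CommRingCat.of P₂.ResidueField) ⟶ h₂.fiber s :=
    pullback.lift (Spec.map (CommRingCat.ofHom (algebraMap D₂ P₂.ResidueField)))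
      (Spec.map (CommRingCat.ofHom γ.toRingHom) ≫ ιp) (by
        rw [Category.assoc, ← Scheme.Spec.map_residueFieldIso_inv_eq_fromSpecResidueField]
        simp only [ιp, h₂, ← Spec.map_comp]
        congr 1
        simp only [Category.assoc, Iso.inv_hom_id_assoc]
        ext x
        exact ((IsScalarTower.algebraMap_apply R D₂ P₂.ResidueField x).symm.trans (γ.commutes x).symm))
  have hσ : σ ≫ h₂.fiberToSpecResidueField s = Spec.map (CommRingCat.ofHom γ.toRingHom) ≫ ιp :=
    pullback.lift_snd _ _ _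
  haveI hgσ : GeometricallyConnected (σ ≫ h₂.fiberToSpecResidueField s) := by rw [hσ]; exact hgc
  let pt : Spec (CommRingCat.of P₂.ResidueField) := IsLocalRing.closedPoint P₂.ResidueField
  have hσpt : h₂.fiberι s (σ pt) = u₂ := by
    rw [← Scheme.Hom.comp_apply, show σ ≫ h₂.fiberι s = _ from pullback.lift_fst _ _ _]
    refine PrimeSpectrum.ext ?_
    show (pt.asIdeal.comap (algebraMap D₂ P₂.ResidueField)) = P₂
    rw [show pt.asIdeal = ⊥ from (IsSimpleOrder.eq_bot_or_eq_top pt.asIdeal).resolve_right pt.isPrime.ne_top,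
      ← RingHom.ker_eq_comap_bot, Ideal.ker_algebraMap_residueField]
  haveI : IsNoetherian (h₂.fiber s) := by
    haveI : IsLocallyNoetherian (h₂.fiber s) :=
      LocallyOfFiniteType.isLocallyNoetherian (h₂.fiberToSpecResidueField s)
    exact {}
  have hTo : IsOpen (connectedComponent (σ pt)) := Groth.Agent.SchPoints.isOpen_connectedComponent_of_noetherian _
  obtain ⟨S', e', s', hS'aff, ⟨he't, he's, he'b⟩, V, -, hVc, hVT⟩ := Groth.Agent.S1356.result h₂ s _
    (@geometricallyConnected_component _ _ _ _ (h₂.fiberToSpecResidueField s) σ hgσ pt hTo)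
  haveI := hS'aff
  haveI := he't
  haveI := hVc
  haveI : Smooth (V.ι ≫ pullback.snd h₂ e') := inferInstance
  haveI := geometricallyIntegral_of_connected (V.ι ≫ pullback.snd h₂ e')
  obtain ⟨y₁, ⟨hy₁u, hy₁s, -⟩, -⟩ :=
    Groth.Agent.Wt.EtNbhd.existsUnique_lift h₂ e' u₂ s' (hu₂.trans he's.symm) he'b
  have hy₁V : y₁ ∈ V := (hVT y₁ hy₁s).mpr
    ⟨σ pt, show σ pt ∈ connectedComponent (σ pt) from mem_connectedComponent, hσpt.trans hy₁u.symm⟩
  let η : CommRingCat.of R ⟶ Γ(S', ⊤) := Spec.preimage (S'.isoSpec.inv ≫ e')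
  have hη : Spec.map η = S'.isoSpec.inv ≫ e' := Spec.map_preimage _
  let R' : Type u := Γ(S', ⊤)
  letI : Algebra R R' := η.hom.toAlgebra
  let sR : Spec Γ(S', ⊤) := S'.isoSpec.hom s'
  have hsR : S'.isoSpec.inv sR = s' := by
    show S'.isoSpec.inv (S'.isoSpec.hom s') = s'
    rw [← Scheme.Hom.comp_apply, Iso.hom_inv_id]
    rfl
  have hsRs : Spec.map η sR = s := by rw [hη, Scheme.Hom.comp_apply, hsR]; exact he's
  haveI hetale : Algebra.Etale R R' := by
    have : Etale (Spec.map η) := by rw [hη]; infer_instance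
    exact RingHom.etale_algebraMap.mp (HasRingHomProperty.Spec_iff.mp this)
  haveI hp'prime : sR.asIdeal.IsPrime := sR.isPrime
  haveI : sR.asIdeal.LiesOver p := ⟨(congrArg PrimeSpectrum.asIdeal hsRs).symm⟩
  have hbR : Function.Bijective (Ideal.ResidueField.mapₐ p sR.asIdeal (Algebra.ofId R R')
      (sR.asIdeal.over_def p)) := by
    refine (bijective_residueFieldMap_iff η sR p (sR.asIdeal.over_def p)).mp ?_
    rw [hη]
    refine Groth.Agent.Wt.EtNbhd.residueFieldMap_bijective_comp _ _ _
      (ConcreteCategory.bijective_of_isIso _) ?_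
    rw [hsR]; exact he'b
  let T := R' ⊗[R] D₂
  let fst' : Spec (CommRingCat.of T) ⟶ Spec (CommRingCat.of D₂) :=
    Spec.map (CommRingCat.ofHom (Algebra.TensorProduct.includeRight : D₂ →ₐ[R] T).toRingHom)
  let snd' : Spec (CommRingCat.of T) ⟶ S' :=
    Spec.map (CommRingCat.ofHom (algebraMap R' T)) ≫ S'.isoSpec.inv
  have hpb : IsPullback fst' snd' h₂ e' := by
    have h0 := (isPullback_SpecMap_of_isPushout _ _ _ _ (CommRingCat.isPushout_tensorProduct R R' D₂)).flip
    refine IsPullback.of_iso h0 (Iso.refl _) (Iso.refl _) S'.isoSpec.symm (Iso.refl _) ?_ ?_ ?_ ?_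
    · simp [fst']
    · simp [snd']
    · simp [h₂]
    · show Spec.map η ≫ 𝟙 _ = _
      rw [Category.comp_id, hη]
      rfl
  let yT : Spec (CommRingCat.of T) := hpb.isoPullback.inv y₁
  have hyiso : hpb.isoPullback.hom yT = y₁ := by
    show hpb.isoPullback.hom (hpb.isoPullback.inv y₁) = y₁
    rw [← Scheme.Hom.comp_apply, Iso.inv_hom_id]
    rfl
  let V' : (Spec (CommRingCat.of T)).Opens := hpb.isoPullback.hom ⁻¹ᵁ V
  have hyV' : yT ∈ V' := by show hpb.isoPullback.hom yT ∈ V; rw [hyiso]; exact hy₁V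
  obtain ⟨_, ⟨h, rfl⟩, hyh, hhV⟩ := PrimeSpectrum.isTopologicalBasis_basic_opens.exists_subset_of_mem_open
    hyV' V'.2
  refine ⟨R', inferInstance, inferInstance, sR.asIdeal, hp'prime, ⟨hetale, inferInstance, hbR⟩,
    yT.asIdeal, yT.isPrime, ?_, ?_, h, hyh, ?_⟩
  · have h1 : snd' yT = s' := by
      rw [← hy₁s, ← hyiso]
      show _ = (hpb.isoPullback.hom ≫ pullback.snd h₂ e') yT
      rw [IsPullback.isoPullback_hom_snd]
    have h2 : Spec.map (CommRingCat.ofHom (algebraMap R' T)) yT = sR := by
      apply S'.isoSpec.inv.isOpenEmbedding.injective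
      rw [hsR, ← Scheme.Hom.comp_apply]
      exact h1
    exact congrArg PrimeSpectrum.asIdeal h2
  · have h1 : fst' yT = u₂ := by
      rw [← hy₁u, ← hyiso]
      show _ = (hpb.isoPullback.hom ≫ pullback.fst h₂ e') yT
      rw [IsPullback.isoPullback_hom_fst]
    exact congrArg PrimeSpectrum.asIdeal h1
  intro R'' D'' _ _ _ _ _ hcomm hi hj hu hsur
  haveI := hi
  haveI := hj
  let i : Spec (CommRingCat.of R'') ⟶ S' := Spec.map (CommRingCat.ofHom (algebraMap R' R'')) ≫ S'.isoSpec.inv
  let jT : Spec (CommRingCat.of D'') ⟶ pullback h₂ e' :=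
    Spec.map (CommRingCat.ofHom (algebraMap T D'')) ≫ hpb.isoPullback.hom
  haveI : Mono i := inferInstance
  haveI : IsOpenImmersion jT := inferInstance
  have hrange : Set.range jT ⊆ Set.range V.ι := by
    rintro _ ⟨d, rfl⟩
    rw [Scheme.Opens.range_ι]
    exact hhV (show h ∉ (PrimeSpectrum.comap (algebraMap T D'') d).asIdeal from fun hm =>
      d.isPrime.ne_top (Ideal.eq_top_of_isUnit_mem _ hm hu))
  haveI : Surjective (Spec.map (CommRingCat.ofHom (algebraMap R'' D''))) := ⟨hsur⟩
  show GeometricallyIntegral (Spec.map (CommRingCat.ofHom (algebraMap R'' D'')))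
  refine geometricallyIntegral_open (V.ι ≫ pullback.snd h₂ e') (IsOpenImmersion.lift V.ι jT hrange) i _ ?_
  rw [IsOpenImmersion.lift_fac_assoc]
  simp only [jT, i, Category.assoc, IsPullback.isoPullback_hom_snd, snd']
  rw [← Spec.map_comp_assoc, ← Spec.map_comp_assoc, ← CommRingCat.ofHom_comp, ← CommRingCat.ofHom_comp, hcomm]

end Groth.Agent.FlatMor62.Component
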