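import Groth.Agent.PinchLib.BaseChange
import Mathlib.RingTheory.Flat.Basic

/-!
# Base change of pushouts of ringed spaces with flat corner
-/

set_option autoImplicit false
set_option backward.isDefEq.respectTransparency false

universe u

open CategoryTheory Limits AlgebraicGeometry TopologicalSpace Opposite TensorProduct

noncomputable section

namespace Groth.Agent.FlatMor62.CornerBC

open Groth.Agent.PinchLib

section Ring

/-- A base change of a fibre square with flat corner is a fibre square. -/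
theorem fibreSquare_baseChange (R B' B A' A : Type u) [CommRing R] [CommRing B'] [CommRing B] [CommRing A'] [CommRing A]
    [Algebra B' B] [Algebra B' A'] [Algebra B A] [Algebra A' A] [Algebra B' A]
    [IsScalarTower B' B A] [IsScalarTower B' A' A]
    [Algebra R B'] [Algebra R B] [Algebra R A'] [Algebra R A]
    [IsScalarTower R B' B] [IsScalarTower R B' A'] [IsScalarTower R B' A] [IsScalarTower R B A] [IsScalarTower R A' A]
    (hsq : EtMil.IsFibreSquare B' B A' A)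
    [Module.Flat R A] (R' : Type u) [CommRing R'] [Algebra R R'] :
    Function.Surjective (Algebra.TensorProduct.map (AlgHom.id R R') (IsScalarTower.toAlgHom R A' A)) ∧
    ∀ (x : R' ⊗[R] B) (y : R' ⊗[R] A'),
      Algebra.TensorProduct.map (AlgHom.id R R') (IsScalarTower.toAlgHom R B A) x =
        Algebra.TensorProduct.map (AlgHom.id R R') (IsScalarTower.toAlgHom R A' A) y →
      ∃! z : R' ⊗[R] B',
        Algebra.TensorProduct.map (AlgHom.id R R') (IsScalarTower.toAlgHom R B' B) z = x ∧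
        Algebra.TensorProduct.map (AlgHom.id R R') (IsScalarTower.toAlgHom R B' A') z = y := by
  let f : (B × A') →ₗ[R] A := (IsScalarTower.toAlgHom R B A).toLinearMap.comp (LinearMap.fst R B A') -
    (IsScalarTower.toAlgHom R A' A).toLinearMap.comp (LinearMap.snd R B A')
  let g : B' →ₗ[R] B × A' :=
    (IsScalarTower.toAlgHom R B' B).toLinearMap.prod (IsScalarTower.toAlgHom R B' A').toLinearMap
  have hf : Function.Surjective f := fun a => by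
    obtain ⟨a', ha'⟩ := hsq.1 (-a)
    exact ⟨(0, a'), by simp [f, ha']⟩
  have hcomm : ∀ z, algebraMap B A (algebraMap B' B z) = algebraMap A' A (algebraMap B' A' z) :=
    fun z => by rw [← IsScalarTower.algebraMap_apply, ← IsScalarTower.algebraMap_apply]
  have hg : Function.Injective g := fun z w h => by
    obtain ⟨h₁, h₂⟩ := Prod.ext_iff.mp h
    exact (hsq.2 _ _ (hcomm z)).unique ⟨rfl, rfl⟩ ⟨h₁.symm, h₂.symm⟩
  have H : Function.Exact g f := fun x => by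
    constructor
    · intro h
      obtain ⟨z, ⟨hz₁, hz₂⟩, -⟩ := hsq.2 x.1 x.2 (sub_eq_zero.mp h)
      exact ⟨z, Prod.ext hz₁ hz₂⟩
    · rintro ⟨z, rfl⟩
      exact sub_eq_zero.mpr (hcomm z)
  refine ⟨fun a => ?_, fun x y hxy => ?_⟩
  · exact LinearMap.lTensor_surjective R' (g := (IsScalarTower.toAlgHom R A' A).toLinearMap) hsq.1 a
  have hinj := LinearMap.lTensor_injective_of_exact_of_flat f hf g hg H R'
  have hex := lTensor_exact R' H hf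
  let e := TensorProduct.prodRight R R R' B A'
  have hsnd : ∀ w, (e w).2 = (LinearMap.snd R B A').lTensor R' w := by
    intro w
    induction w with
    | zero => simp
    | tmul r p => simp [e]
    | add w w' h h' => simp [h, h']
  have hfst : ∀ w, (e w).1 = (LinearMap.fst R B A').lTensor R' w := by
    intro w
    induction w with
    | zero => simp
    | tmul r p => simp [e]
    | add w w' h h' => simp [h, h']
  have h₁ : ∀ z, Algebra.TensorProduct.map (AlgHom.id R R') (IsScalarTower.toAlgHom R B' B) z =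
      (e (g.lTensor R' z)).1 := by
    intro z
    rw [hfst, ← LinearMap.lTensor_comp_apply]; rfl
  have h₂ : ∀ z, Algebra.TensorProduct.map (AlgHom.id R R') (IsScalarTower.toAlgHom R B' A') z =
      (e (g.lTensor R' z)).2 := by
    intro z
    rw [hsnd, ← LinearMap.lTensor_comp_apply]; rfl
  obtain ⟨w, hw⟩ := e.surjective (x, y)
  have h0 : f.lTensor R' w = 0 := by
    simp only [f, LinearMap.lTensor_sub, LinearMap.sub_apply, LinearMap.lTensor_comp_apply, ← hfst,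
      ← hsnd, hw]
    exact sub_eq_zero.mpr hxy
  obtain ⟨z, rfl⟩ := (hex w).mp h0
  refine ⟨z, ⟨by rw [h₁, hw], by rw [h₂, hw]⟩, fun z' hz' => ?_⟩
  refine hinj (e.injective ?_)
  rw [hw, ← hz'.1, ← hz'.2, h₁, h₂]

end Ring

section Fib

variable {P B A C : CommRingCat.{u}} {pB : P ⟶ B} {pA : P ⟶ A} {fB : B ⟶ C} {fA : A ⟶ C}
variable {R R' P' B' A' C' : CommRingCat.{u}} (g : R ⟶ R') (sP : R ⟶ P) (sB : R ⟶ B) (sA : R ⟶ A)
  (sC : R ⟶ C)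
  {gP : P ⟶ P'} {tP : R' ⟶ P'} {gB : B ⟶ B'} {tB : R' ⟶ B'} {gA : A ⟶ A'} {tA : R' ⟶ A'}
  {gC : C ⟶ C'} {tC : R' ⟶ C'}
  {pB' : P' ⟶ B'} {pA' : P' ⟶ A'} {fB' : B' ⟶ C'} {fA' : A' ⟶ C'}

/-- Base change of a fibre square with flat corner. -/
theorem isFib_baseChange (h : IsFib pB pA fB fA) (hsB : sP ≫ pB = sB) (hsA : sP ≫ pA = sA)
    (hsC : sB ≫ fB = sC) (hP : IsPushout g sP tP gP) (hB : IsPushout g sB tB gB)
    (hA : IsPushout g sA tA gA) (hC : IsPushout g sC tC gC)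
    (eB : gP ≫ pB' = pB ≫ gB) (eB' : tP ≫ pB' = tB) (eA : gP ≫ pA' = pA ≫ gA) (eA' : tP ≫ pA' = tA)
    (eC : gB ≫ fB' = fB ≫ gC) (eC' : tB ≫ fB' = tC) (eD : gA ≫ fA' = fA ≫ gC) (eD' : tA ≫ fA' = tC)
    (fC_flat : sC.hom.Flat) :
    IsFib pB' pA' fB' fA' := by
  have hsC' : sA ≫ fA = sC := by rw [← hsA, Category.assoc, ← h.w, ← Category.assoc, hsB, hsC]
  algebraize [g.hom, sP.hom, sB.hom, sA.hom, sC.hom, pB.hom, pA.hom, fB.hom, fA.hom, (pB ≫ fB).hom]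
  have : IsScalarTower P B C := IsScalarTower.of_algebraMap_eq' rfl
  have : IsScalarTower P A C := IsScalarTower.of_algebraMap_eq' (congrArg CommRingCat.Hom.hom h.w)
  have : IsScalarTower R P B := IsScalarTower.of_algebraMap_eq' (congrArg CommRingCat.Hom.hom hsB).symm
  have : IsScalarTower R P A := IsScalarTower.of_algebraMap_eq' (congrArg CommRingCat.Hom.hom hsA).symm
  have : IsScalarTower R B C := IsScalarTower.of_algebraMap_eq' (congrArg CommRingCat.Hom.hom hsC).symm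
  have : IsScalarTower R A C := IsScalarTower.of_algebraMap_eq' (congrArg CommRingCat.Hom.hom hsC').symm
  have : IsScalarTower R P C := IsScalarTower.of_algebraMap_eq' (congrArg CommRingCat.Hom.hom
    (show sC = sP ≫ pB ≫ fB by rw [reassoc_of% hsB, hsC]))
  have sq : EtMil.IsFibreSquare P B A C := ⟨h.surj, fun b a hab => by
    obtain ⟨p, hb, ha⟩ := h.glue b a hab
    exact ⟨p, ⟨hb, ha⟩, fun q hq => h.inj q p (hq.1.trans hb.symm) (hq.2.trans ha.symm)⟩⟩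
  haveI : Module.Flat R C := fC_flat
  obtain ⟨hsurj, hglue⟩ := fibreSquare_baseChange R P B A C sq R'
  let θP := (CommRingCat.isPushout_tensorProduct R R' P).isoIsPushout _ _ hP
  let θB := (CommRingCat.isPushout_tensorProduct R R' B).isoIsPushout _ _ hB
  let θA := (CommRingCat.isPushout_tensorProduct R R' A).isoIsPushout _ _ hA
  let θC := (CommRingCat.isPushout_tensorProduct R R' C).isoIsPushout _ _ hC
  have kB : ∀ x, pB' (θP.hom x) = θB.hom _ :=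
    tensorIso_comm g (IsScalarTower.toAlgHom R P B) hP hB eB eB'
  have kA : ∀ x, pA' (θP.hom x) = θA.hom _ :=
    tensorIso_comm g (IsScalarTower.toAlgHom R P A) hP hA eA eA'
  have kC : ∀ x, fB' (θB.hom x) = θC.hom _ :=
    tensorIso_comm g (IsScalarTower.toAlgHom R B C) hB hC eC eC'
  have kD : ∀ x, fA' (θA.hom x) = θC.hom _ :=
    tensorIso_comm g (IsScalarTower.toAlgHom R A C) hA hC eD eD'
  have sur : ∀ {U V : CommRingCat.{u}} (θ : U ≅ V) (v : V), ∃ u, θ.hom u = v := fun θ v =>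
    ⟨θ.inv v, ConcreteCategory.congr_hom θ.inv_hom_id v⟩
  have injθ : ∀ {U V : CommRingCat.{u}} (θ : U ≅ V) {a b : U}, θ.hom a = θ.hom b → a = b :=
    fun {U V} θ {a b} hab => (ConcreteCategory.congr_hom θ.hom_inv_id a).symm.trans
      ((congrArg θ.inv hab).trans (ConcreteCategory.congr_hom θ.hom_inv_id b))
  refine ⟨hP.hom_ext ?_ ?_, fun z => ?_, fun p p' hpB hpA => ?_, fun b a hab => ?_⟩
  · rw [reassoc_of% eB', reassoc_of% eA', eC', eD']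
  · rw [reassoc_of% eB, eC, reassoc_of% eA, eD, reassoc_of% h.w]
  · obtain ⟨z, rfl⟩ := sur θC z
    obtain ⟨a, rfl⟩ := hsurj z
    exact ⟨θA.hom a, kD a⟩
  · obtain ⟨p, rfl⟩ := sur θP p
    obtain ⟨p', rfl⟩ := sur θP p'
    rw [kB, kB] at hpB
    rw [kA, kA] at hpA
    have eb := injθ θB hpB
    have ea := injθ θA hpA
    have hc : ∀ q, fB' (pB' (θP.hom q)) = fA' (pA' (θP.hom q)) := fun q =>
      ConcreteCategory.congr_hom (show pB' ≫ fB' = pA' ≫ fA' from hP.hom_ext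
        (by rw [reassoc_of% eB', reassoc_of% eA', eC', eD'])
        (by rw [reassoc_of% eB, eC, reassoc_of% eA, eD, reassoc_of% h.w])) (θP.hom q)
    have hh := hc p
    rw [kB, kA, kC, kD] at hh
    exact congrArg θP.hom ((hglue _ _ (injθ θC hh)).unique ⟨rfl, rfl⟩ ⟨eb.symm, ea.symm⟩)
  · obtain ⟨b, rfl⟩ := sur θB b
    obtain ⟨a, rfl⟩ := sur θA a
    rw [kC, kD] at hab
    obtain ⟨z, ⟨hzB, hzA⟩, -⟩ := hglue b a (injθ θC hab)
    exact ⟨θP.hom z, (kB z).trans (congrArg θB.hom hzB), (kA z).trans (congrArg θA.hom hzA)⟩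

end Fib

variable {S X Z Z' X' : Scheme.{u}} {fX : X ⟶ S} {fZ' : Z' ⟶ S} {fX' : X' ⟶ S}
  {ι : Z ⟶ X} {q : Z ⟶ Z'} {π : X ⟶ X'} {ι' : Z' ⟶ X'}
  [IsClosedImmersion ι] [IsClosedImmersion ι'] [IsAffineHom π]
  (hq : q ≫ fZ' = ι ≫ fX) (hπ : π ≫ fX' = fX) (hι' : ι' ≫ fX' = fZ')
  (hpo : IsPushout (toSh.map ι) (toSh.map q) (toSh.map π) (toSh.map ι'))
  [Flat (ι ≫ fX)] {T : Scheme.{u}} {g : T ⟶ S} {XT ZT Z'T X'T : Scheme.{u}}
  {eX : XT ⟶ X} {pX : XT ⟶ T} {eZ : ZT ⟶ Z} {pZ : ZT ⟶ T}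
  {eZ' : Z'T ⟶ Z'} {pZ' : Z'T ⟶ T} {eX' : X'T ⟶ X'} {pX' : X'T ⟶ T}
  (hX : IsPullback eX pX fX g) (hZ : IsPullback eZ pZ (ι ≫ fX) g)
  (hZ' : IsPullback eZ' pZ' fZ' g) (hX' : IsPullback eX' pX' fX' g)
  {ιT : ZT ⟶ XT} {qT : ZT ⟶ Z'T} {πT : XT ⟶ X'T} {ι'T : Z'T ⟶ X'T}
  (cι : ιT ≫ eX = eZ ≫ ι) (cι₂ : ιT ≫ pX = pZ) (cq : qT ≫ eZ' = eZ ≫ q) (cq₂ : qT ≫ pZ' = pZ)
  (cπ : πT ≫ eX' = eX ≫ π) (cπ₂ : πT ≫ pX' = pX) (cι' : ι'T ≫ eX' = eZ' ≫ ι')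
  (cι'₂ : ι'T ≫ pX' = pZ')

include hq hπ hι' hpo hX hZ hZ' hX' cι cι₂ cq cq₂ cπ cπ₂ cι' cι'₂ in
/-- The boxes are charts. -/
theorem isChart_box_corner {U : S.Opens} (hU : IsAffineOpen U) {V : X'.Opens} (hV : IsAffineOpen V)
    (hVU : V ≤ fX' ⁻¹ᵁ U) {W : T.Opens} (hW : IsAffineOpen W) (hWU : W ≤ g ⁻¹ᵁ U) :
    IsChart (w_baseChange hpo hX' cι cι₂ cq cq₂ cπ cπ₂ cι' cι'₂) (eX' ⁻¹ᵁ V ⊓ pX' ⁻¹ᵁ W) := by
  let O := eX' ⁻¹ᵁ V ⊓ pX' ⁻¹ᵁ W
  have hA : IsAffineOpen (π ⁻¹ᵁ V) := hV.preimage π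
  have hB : IsAffineOpen (ι' ⁻¹ᵁ V) := hV.preimage ι'
  have hC : IsAffineOpen (ι ⁻¹ᵁ π ⁻¹ᵁ V) := hA.preimage ι
  have aU : π ⁻¹ᵁ V ≤ fX ⁻¹ᵁ U := by
    rw [← hπ, Scheme.Hom.comp_preimage]; exact π.preimage_mono hVU
  have bU : ι' ⁻¹ᵁ V ≤ fZ' ⁻¹ᵁ U := by
    rw [← hι', Scheme.Hom.comp_preimage]; exact ι'.preimage_mono hVU
  have cU : ι ⁻¹ᵁ π ⁻¹ᵁ V ≤ (ι ≫ fX) ⁻¹ᵁ U := ι.preimage_mono aU
  have boxA : πT ⁻¹ᵁ O = eX ⁻¹ᵁ (π ⁻¹ᵁ V) ⊓ pX ⁻¹ᵁ W := preimage_box cπ cπ₂ V W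
  have boxB : ι'T ⁻¹ᵁ O = eZ' ⁻¹ᵁ (ι' ⁻¹ᵁ V) ⊓ pZ' ⁻¹ᵁ W := preimage_box cι' cι'₂ V W
  have boxC : ιT ⁻¹ᵁ πT ⁻¹ᵁ O = eZ ⁻¹ᵁ (ι ⁻¹ᵁ π ⁻¹ᵁ V) ⊓ pZ ⁻¹ᵁ W := by
    rw [boxA]
    exact preimage_box cι cι₂ (π ⁻¹ᵁ V) W
  haveI : IsAffine U.toScheme := hU
  haveI : IsAffine W.toScheme := hW
  haveI : IsAffine V.toScheme := hV
  haveI : IsAffine (π ⁻¹ᵁ V).toScheme := hA
  haveI : IsAffine (ι' ⁻¹ᵁ V).toScheme := hB
  haveI : IsAffine (ι ⁻¹ᵁ π ⁻¹ᵁ V).toScheme := hC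
  refine
    { hV := .of_isIso (Scheme.Hom.isPullback_resLE hX' hWU hVU (rfl : O = _)).isoPullback.hom
      hA := .of_isIso (Scheme.Hom.isPullback_resLE hX hWU aU boxA).isoPullback.hom
      hB := .of_isIso (Scheme.Hom.isPullback_resLE hZ' hWU bU boxB).isoPullback.hom
      hC := .of_isIso (Scheme.Hom.isPullback_resLE hZ hWU cU boxC).isoPullback.hom
      fib := ?_ }
  have poP := (isIso_pushoutSection_iff hX' hWU hVU (rfl : O = _)).mp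
    (isIso_pushoutSection_of_isAffineOpen hX' hWU hVU rfl hU hW hV)
  have poA := (isIso_pushoutSection_iff hX hWU aU boxA).mp
    (isIso_pushoutSection_of_isAffineOpen hX hWU aU boxA hU hW hA)
  have poB := (isIso_pushoutSection_iff hZ' hWU bU boxB).mp
    (isIso_pushoutSection_of_isAffineOpen hZ' hWU bU boxB hU hW hB)
  have poC := (isIso_pushoutSection_iff hZ hWU cU boxC).mp
    (isIso_pushoutSection_of_isAffineOpen hZ hWU cU boxC hU hW hC)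
  have fib0 : IsFib (ι'.appLE V (ι' ⁻¹ᵁ V) le_rfl) (π.appLE V (π ⁻¹ᵁ V) le_rfl)
      (q.appLE (ι' ⁻¹ᵁ V) (ι ⁻¹ᵁ π ⁻¹ᵁ V) (preimage_eq hpo V).le)
      (ι.appLE (π ⁻¹ᵁ V) (ι ⁻¹ᵁ π ⁻¹ᵁ V) le_rfl) := by
    letI := (ι'.appLE V (ι' ⁻¹ᵁ V) le_rfl).hom.toAlgebra
    letI := (π.appLE V (π ⁻¹ᵁ V) le_rfl).hom.toAlgebra
    letI := (q.appLE (ι' ⁻¹ᵁ V) (ι ⁻¹ᵁ π ⁻¹ᵁ V) (preimage_eq hpo V).le).hom.toAlgebra
    letI := (ι.appLE (π ⁻¹ᵁ V) (ι ⁻¹ᵁ π ⁻¹ᵁ V) le_rfl).hom.toAlgebra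
    letI := ((ι ≫ π).appLE V (ι ⁻¹ᵁ π ⁻¹ᵁ V) le_rfl).hom.toAlgebra
    obtain ⟨_, _, h⟩ := isFibreSquare hpo V hA
    exact IsFib.of_isFibreSquare h
  rw [← Scheme.Hom.appLE_eq_app ι'T, ← Scheme.Hom.appLE_eq_app πT, ← Scheme.Hom.appLE_eq_app ιT]
  exact isFib_baseChange (h := fib0) (g.appLE U W hWU) (fX'.appLE U V hVU) (fZ'.appLE U _ bU) (fX.appLE U _ aU)
    ((ι ≫ fX).appLE U _ cU)
    (appLE_comp_eq hι' hVU le_rfl bU) (appLE_comp_eq hπ hVU le_rfl aU)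
    (appLE_comp_eq hq bU (preimage_eq hpo V).le cU)
    poP.flip poB.flip poA.flip poC.flip
    (appLE_sq cι' _ _ _ _) (appLE_comp_eq cι'₂ _ _ _)
    (appLE_sq cπ _ _ _ _) (appLE_comp_eq cπ₂ _ _ _)
    (appLE_sq cq _ _ _ _) (appLE_comp_eq cq₂ _ _ _)
    (appLE_sq cι _ _ _ _) (appLE_comp_eq cι₂ _ _ _)
    (HasRingHomProperty.appLE @Flat (ι ≫ fX) inferInstance ⟨U, hU⟩ ⟨_, hC⟩ cU)

include hq hπ hι' hpo hX hZ hZ' hX' cι cι₂ cq cq₂ cπ cπ₂ cι' cι'₂ in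
/-- Every point of the base change lies in a chart. -/
theorem exists_chart_corner (x : X'T) : ∃ O : X'T.Opens,
    x ∈ O ∧ IsChart (w_baseChange hpo hX' cι cι₂ cq cq₂ cπ cπ₂ cι' cι'₂) O := by
  obtain ⟨_, ⟨U, hU, rfl⟩, hxU, -⟩ :=
    S.isBasis_affineOpens.exists_subset_of_mem_open (Set.mem_univ (fX' (eX' x))) isOpen_univ
  obtain ⟨_, ⟨V, hV, rfl⟩, hxV, hVU⟩ :=
    X'.isBasis_affineOpens.exists_subset_of_mem_open (show eX' x ∈ fX' ⁻¹ᵁ U from hxU) (fX' ⁻¹ᵁ U).2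
  have hxW : pX' x ∈ g ⁻¹ᵁ U := by
    show g (pX' x) ∈ U
    rw [← Scheme.Hom.comp_apply, ← hX'.w, Scheme.Hom.comp_apply]
    exact hxU
  obtain ⟨_, ⟨W, hW, rfl⟩, hxW', hWU⟩ :=
    T.isBasis_affineOpens.exists_subset_of_mem_open hxW (g ⁻¹ᵁ U).2
  exact ⟨eX' ⁻¹ᵁ V ⊓ pX' ⁻¹ᵁ W, ⟨hxV, hxW'⟩,
    isChart_box_corner hq hπ hι' hpo hX hZ hZ' hX' cι cι₂ cq cq₂ cπ cπ₂ cι' cι'₂ hU hV hVU hW hWU⟩

include hq hπ hι' hpo hX hZ hZ' hX' cι cι₂ cq cq₂ cπ cπ₂ cι' cι'₂ in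
/-- The base change is a pushout of ringed spaces. -/
theorem isPushout_cornerBaseChange :
    IsPushout (toSh.map ιT) (toSh.map qT) (toSh.map πT) (toSh.map ι'T) :=
  isPushout_of_charts _ (exists_chart_corner hq hπ hι' hpo hX hZ hZ' hX' cι cι₂ cq cq₂ cπ cπ₂ cι' cι'₂)

end Groth.Agent.FlatMor62.CornerBC
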