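import Mathlib.RingTheory.FiniteType
import Mathlib.RingTheory.MvPolynomial.Basic
import Mathlib.RingTheory.Noetherian.Basic

/-!
# Forcing congruences of maps to a complete local ring
-/

set_option autoImplicit false

universe u

namespace Groth.Agent.FlatMor62.CplRefine

/-- A finite type extension of `B` whose extensions of maps to `C` agree modulo `(I).map α`. -/
theorem exists_refinement {A B C : Type u} [CommRing A] [IsNoetherianRing A] [CommRing B] [Algebra A B]
    [Algebra.FiniteType A B] [CommRing C] (α : A →+* C) (β : B →+* C) (hβ : β.comp (algebraMap A B) = α)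
    (I : Ideal A)
    (happ : ∀ c : C, ∃ x s : A, IsUnit (α s) ∧ α s * c - α x ∈ I.map α) :
    ∃ (B' : Type u) (_ : CommRing B') (_ : Algebra B B') (φ : B' →+* C), Algebra.FiniteType B B' ∧
      φ.comp (algebraMap B B') = β ∧
      ∀ (β₂ : B →+* C) (φ₂ : B' →+* C), β₂.comp (algebraMap A B) = α → φ₂.comp (algebraMap B B') = β₂ →
        ∀ b : B, β b - β₂ b ∈ I.map α := by
  classical
  obtain ⟨gens, hgens⟩ := (inferInstance : Algebra.FiniteType A B).out
  obtain ⟨m, μ, hμ⟩ := Submodule.fg_iff_exists_fin_generating_family.mp (IsNoetherian.noetherian I)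
  choose x s hs hxs using fun b : gens => happ (β b)
  have hspan : I.map α = Ideal.span (Set.range (α ∘ μ)) := by
    rw [Set.range_comp, ← Ideal.map_span]
    exact congrArg (Ideal.map α) hμ.symm
  have hc : ∀ b : gens, ∃ c : Fin m → C, ∑ j, c j * α (μ j) = α (s b) * β b - α (x b) := fun b => by
    have h := hxs b
    rw [hspan] at h
    exact (Ideal.mem_span_range_iff_exists_fun).mp h
  choose c hc using hc
  let eqn : gens → MvPolynomial (gens × Fin m) B := fun b =>
    MvPolynomial.C (algebraMap A B (s b) * b - algebraMap A B (x b)) -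
      ∑ j, MvPolynomial.X (b, j) * MvPolynomial.C (algebraMap A B (μ j))
  let B' := MvPolynomial (gens × Fin m) B ⧸ Ideal.span (Set.range eqn)
  have hβ' : ∀ a, β (algebraMap A B a) = α a := fun a => RingHom.congr_fun hβ a
  let φ₀ : MvPolynomial (gens × Fin m) B →+* C := MvPolynomial.eval₂Hom β fun p => c p.1 p.2
  have hφ₀ : ∀ p ∈ Ideal.span (Set.range eqn), φ₀ p = 0 := by
    intro p hp
    refine (Ideal.span_le (I := RingHom.ker φ₀)).mpr ?_ hp
    rintro _ ⟨b, rfl⟩
    show φ₀ (eqn b) = 0
    simp only [eqn, φ₀, map_sub, map_sum, map_mul, MvPolynomial.coe_eval₂Hom, MvPolynomial.eval₂_C,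
      MvPolynomial.eval₂_X, hβ']
    rw [hc b, sub_self]
  refine ⟨B', inferInstance, inferInstance, Ideal.Quotient.lift _ φ₀ hφ₀, inferInstance, ?_, ?_⟩
  · ext b
    show φ₀ (MvPolynomial.C b) = β b
    simp [φ₀]
  intro β₂ φ₂ hβ₂ hφ₂ b
  have hgen : ∀ b : gens, β b - β₂ b ∈ I.map α := fun b => by
    have h0 : φ₂ (Ideal.Quotient.mk (Ideal.span (Set.range eqn)) (eqn b)) = 0 := by
      rw [show Ideal.Quotient.mk (Ideal.span (Set.range eqn)) (eqn b) = 0 from
        Ideal.Quotient.eq_zero_iff_mem.mpr (Ideal.subset_span ⟨b, rfl⟩), map_zero]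
    have hC : ∀ d : B, φ₂ (Ideal.Quotient.mk _ (MvPolynomial.C d)) = β₂ d := fun d => RingHom.congr_fun hφ₂ d
    have hA : ∀ a, β₂ (algebraMap A B a) = α a := fun a => RingHom.congr_fun hβ₂ a
    simp only [eqn, map_sub, map_sum, map_mul, hC, hA, sub_eq_zero] at h0
    have h2 : α (s b) * β₂ b - α (x b) ∈ I.map α := by
      rw [h0, hspan]
      exact sum_mem fun j _ => Ideal.mul_mem_left _ _ (Ideal.subset_span ⟨j, rfl⟩)
    refine (Ideal.unit_mul_mem_iff_mem _ (hs b)).mp ?_
    have := sub_mem (hxs b) h2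
    rwa [sub_sub_sub_cancel_right, ← mul_sub] at this
  have hb : b ∈ Algebra.adjoin A (gens : Set B) := hgens ▸ Algebra.mem_top
  induction hb using Algebra.adjoin_induction with
  | mem y hy => exact hgen ⟨y, hy⟩
  | algebraMap r => rw [hβ', RingHom.congr_fun hβ₂ r |> fun h => (h : β₂ (algebraMap A B r) = α r), sub_self]; exact zero_mem _
  | add y z _ _ hy hz => rw [map_add, map_add, add_sub_add_comm]; exact add_mem hy hz
  | mul y z _ _ hy hz =>
    rw [map_mul, map_mul, show β y * β z - β₂ y * β₂ z = (β y - β₂ y) * β z + β₂ y * (β z - β₂ z) by ring]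
    exact add_mem (Ideal.mul_mem_right _ _ hy) (Ideal.mul_mem_left _ _ hz)

end Groth.Agent.FlatMor62.CplRefine
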