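import Groth.Agent.FlatMor62.DevDim
import Groth.Prelude.Def_FlatCA

/-!
# Chains of one-step dévissages at a prime

`Dev k R S N p q`: a recursively defined dévissage with at most `k` steps, giving
`FlatCA.HasCompleteDevissageAt`.
-/

set_option autoImplicit false
set_option linter.style.haveILetI false
set_option linter.style.longLine false

universe u

open TensorProduct

namespace Groth.Agent.FlatMor62.DevChain

/-- One step of a dévissage at a prime. -/
structure Step (R S : Type u) [CommRing R] [CommRing S] [Algebra R S] (N : Type u) [AddCommGroup N]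
    [Module S N] (p : Ideal R) [p.IsPrime] (q : Ideal S) : Type (u + 1) where
  C : Type u
  D : Type u
  G : Type u
  [cC : CommRing C] [cD : CommRing D] [gG : AddCommGroup G]
  [aSC : Algebra S C] [aRC : Algebra R C] [tRSC : IsScalarTower R S C]
  [aRD : Algebra R D] [aDC : Algebra D C] [tRDC : IsScalarTower R D C]
  [mCG : Module C G] [mSG : Module S G] [tSCG : IsScalarTower S C G]
  [mDG : Module D G] [tDCG : IsScalarTower D C G] [mRG : Module R G] [tRDG : IsScalarTower R D G]
  [hP : (p.map (algebraMap R D)).IsPrime]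
  d : ℕ
  r : ℕ
  α : (Fin r → D) →ₗ[D] G
  z : Ideal C
  y : Ideal D
  [hz : z.IsPrime] [hy : y.IsPrime] [zy : z.LiesOver y] [yp : y.LiesOver p]
  zq : z.comap (algebraMap S C) = q
  surj : Function.Surjective (algebraMap S C)
  fp : Algebra.FinitePresentation S C
  finD : Module.Finite D C
  finG : Module.Finite C G
  smooth : FlatCA.SmoothRelDim d R D
  irred : FlatCA.GeomIrredFibres R D
  uniq : ∀ (z₁ : Ideal C) [z₁.IsPrime], z₁.LiesOver y → z₁ = z
  pureTrans : FlatCA.PurelyTranscendental p y
  iso : N ≃ₗ[S] G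
  bij : Function.Bijective (α.baseChange (p.map (algebraMap R D)).ResidueField)
  rpos : 0 < r

attribute [instance] Step.cC Step.cD Step.gG Step.aSC Step.aRC Step.tRSC Step.aRD Step.aDC Step.tRDC Step.mCG
  Step.mSG Step.tSCG Step.mDG Step.tDCG Step.mRG Step.tRDG Step.hP Step.hz Step.hy Step.zy Step.yp

/-- The cokernel of a step. -/
abbrev Step.K {R S : Type u} [CommRing R] [CommRing S] [Algebra R S] {N : Type u} [AddCommGroup N]
    [Module S N] {p : Ideal R} [p.IsPrime] {q : Ideal S} (st : Step R S N p q) : Type u :=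
  st.G ⧸ LinearMap.range st.α

/-- A dévissage with at most `k` steps. -/
def Dev : (k : ℕ) → ∀ (R S : Type u) [CommRing R] [CommRing S] [Algebra R S] (N : Type u) [AddCommGroup N]
    [Module S N] (p : Ideal R) [p.IsPrime] (_ : Ideal S), Prop
  | 0 => fun _ _ _ _ _ _ _ _ _ _ _ => False
  | k + 1 => fun R S _ _ _ N _ _ p _ q =>
      ∃ st : Step R S N p q, Function.Surjective st.α ∨ Dev k R st.D st.K p st.y

theorem Dev.congr {k : ℕ} {R S : Type u} [CommRing R] [CommRing S] [Algebra R S] {N N' : Type u}
    [AddCommGroup N] [Module S N] [AddCommGroup N'] [Module S N'] {p : Ideal R} [p.IsPrime] {q : Ideal S}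
    (e : N ≃ₗ[S] N') (h : Dev k R S N p q) : Dev k R S N' p q := by
  match k, h with
  | 0, h => exact h.elim
  | k + 1, ⟨st, hst⟩ => exact ⟨{ st with iso := e.symm.trans st.iso }, hst⟩

theorem mem_support_of_bijective {D G : Type u} [CommRing D] [AddCommGroup G] [Module D G] [Module.Finite D G]
    (P : Ideal D) [hP : P.IsPrime] {r : ℕ} (hr : 0 < r) (α : (Fin r → D) →ₗ[D] G)
    (h : Function.Bijective (α.baseChange P.ResidueField)) :
    (⟨P, hP⟩ : PrimeSpectrum D) ∈ Module.support D G := by
  rw [Module.mem_support_iff_of_finite]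
  intro t ht
  by_contra htP
  change t ∉ P at htP
  have hzero : ∀ x : P.ResidueField ⊗[D] G, x = 0 := by
    intro x
    induction x using TensorProduct.induction_on with
    | zero => rfl
    | add a b ha hb => rw [ha, hb, add_zero]
    | tmul a g =>
      have hu : algebraMap D P.ResidueField t ≠ 0 := by rwa [Ne, Ideal.algebraMap_residueField_eq_zero]
      have e : a = t • ((algebraMap D P.ResidueField t)⁻¹ * a) := by
        rw [Algebra.smul_def, ← mul_assoc, mul_inv_cancel₀ hu, one_mul]
      rw [e, ← TensorProduct.smul_tmul', ← TensorProduct.tmul_smul, Module.mem_annihilator.mp ht g, TensorProduct.tmul_zero]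
  have h1 : α.baseChange P.ResidueField (1 ⊗ₜ[D] Pi.single ⟨0, hr⟩ (1 : D)) = α.baseChange P.ResidueField 0 :=
    (hzero _).trans (hzero _).symm
  have h2 := h.1 h1
  let ev : P.ResidueField ⊗[D] (Fin r → D) →ₗ[D] P.ResidueField :=
    TensorProduct.lift (LinearMap.mk₂ D (fun a v => v ⟨0, hr⟩ • a)
      (fun a a' v => smul_add _ _ _) (fun c a v => smul_comm _ c a) (fun a v v' => by simp [add_smul])
      (fun c a v => by simp [mul_smul]))
  have h3 := congrArg ev h2
  simp [ev] at h3

variable {R S : Type u} [CommRing R] [CommRing S] [Algebra R S] {N : Type u} [AddCommGroup N]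
  [Module S N] {p : Ideal R} [p.IsPrime] {q : Ideal S} [q.IsPrime]

theorem Step.locDim (st : Step R S N p q) :
    ∃ (x : PrimeSpectrum (p.Fiber st.D)) (hx : x ∈ Module.support (p.Fiber st.D) (FlatCA.fiberMod p st.D st.G)),
      x.asIdeal = FlatCA.fiberIdeal p st.y ∧
      FlatMor.localDim (Module.support (p.Fiber st.D) (FlatCA.fiberMod p st.D st.G)) ⟨x, hx⟩ = (st.d : WithBot ℕ∞) := by
  haveI := st.finD
  haveI := st.finG
  haveI : Module.Finite st.D st.G := Module.Finite.trans st.C st.G
  exact DevDim.locDim_eq p st.G st.smooth st.y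
    (mem_support_of_bijective (p.map (algebraMap R st.D)) st.rpos st.α st.bij)

/-- A step with surjective `α` is a complete dévissage. -/
theorem has_of_step (st : Step R S N p q) (hs : Function.Surjective st.α) :
    FlatCA.HasCompleteDevissageAt R S N p q := by
  refine ⟨{ n := 1, pos := one_pos, A := fun _ => st.C, B := fun _ => st.D, M := fun _ => st.G
            r := fun _ => st.r, α := fun _ => st.α
            surjSA := st.surj, fpSA := st.fp
            surjBA' := fun i hi => absurd hi (by omega), fpBA' := fun i hi => absurd hi (by omega)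
            finiteBA := fun _ _ => st.finD
            smooth := fun _ _ => CAlg76.SmoothRelDim.smooth_of_rel st.smooth
            geomIrred := fun _ _ => st.irred, finiteM := fun _ _ => st.finG, isoN := st.iso
            isoCoker := fun i hi => absurd hi (by omega)
            fibreIso := fun _ _ => st.bij, cokerLast := hs }, ⟨?_⟩⟩
  exact { qB := fun _ => st.y, qA := fun _ => st.z, pureTrans := fun _ _ => st.pureTrans
          uniq := fun _ _ Q _ h => st.uniq Q h, q0 := st.zq, qStep := fun i hi => absurd hi (by simp)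
          d := fun _ => st.d, relDim := fun _ _ => st.smooth, locDim := fun _ _ => st.locDim }

set_option maxHeartbeats 1000000 in
/-- Prepending a step to a complete dévissage of its cokernel. -/
theorem has_of_cons (st : Step R S N p q) (h : FlatCA.HasCompleteDevissageAt R st.D st.K p st.y) :
    FlatCA.HasCompleteDevissageAt R S N p q := by
  obtain ⟨E, ⟨AE⟩⟩ := h
  let A : ℕ → Type u := fun | 0 => st.C | j + 1 => E.A j
  let B : ℕ → Type u := fun | 0 => st.D | j + 1 => E.B j
  let M : ℕ → Type u := fun | 0 => st.G | j + 1 => E.M j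
  letI cA : ∀ i, CommRing (A i) := fun | 0 => st.cC | j + 1 => E.cA j
  letI cB : ∀ i, CommRing (B i) := fun | 0 => st.cD | j + 1 => E.cB j
  letI aRA : ∀ i, Algebra R (A i) := fun | 0 => st.aRC | j + 1 => E.aRA j
  letI aRB : ∀ i, Algebra R (B i) := fun | 0 => st.aRD | j + 1 => E.aRB j
  letI aBA : ∀ i, Algebra (B i) (A i) := fun | 0 => st.aDC | j + 1 => E.aBA j
  haveI tRBA : ∀ i, IsScalarTower R (B i) (A i) := fun | 0 => st.tRDC | j + 1 => E.tRBA j
  letI aBA' : ∀ i, Algebra (B i) (A (i + 1)) := fun | 0 => E.aSA | j + 1 => E.aBA' j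
  haveI tRBA' : ∀ i, IsScalarTower R (B i) (A (i + 1)) := fun | 0 => E.tRSA | j + 1 => E.tRBA' j
  letI gM : ∀ i, AddCommGroup (M i) := fun | 0 => st.gG | j + 1 => E.gM j
  letI mAM : ∀ i, Module (A i) (M i) := fun | 0 => st.mCG | j + 1 => E.mAM j
  letI mBM : ∀ i, Module (B i) (M i) := fun | 0 => st.mDG | j + 1 => E.mBM j
  haveI tBAM : ∀ i, IsScalarTower (B i) (A i) (M i) := fun | 0 => st.tDCG | j + 1 => E.tBAM j
  letI mRM : ∀ i, Module R (M i) := fun | 0 => st.mRG | j + 1 => E.mRM j
  haveI tRBM : ∀ i, IsScalarTower R (B i) (M i) := fun | 0 => st.tRDG | j + 1 => E.tRBM j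
  letI mB'M : ∀ i, Module (B i) (M (i + 1)) := fun | 0 => E.mSM | j + 1 => E.mB'M j
  haveI tB'AM : ∀ i, IsScalarTower (B i) (A (i + 1)) (M (i + 1)) := fun | 0 => E.tSAM | j + 1 => E.tB'AM j
  haveI hp : ∀ i, (p.map (algebraMap R (B i))).IsPrime := fun | 0 => st.hP | j + 1 => E.hp j
  let r : ℕ → ℕ := fun | 0 => st.r | j + 1 => E.r j
  let α : ∀ i, (Fin (r i) → B i) →ₗ[B i] M i := fun | 0 => st.α | j + 1 => E.α j
  let isoCoker : ∀ i, i + 1 < E.n + 1 → (M i ⧸ LinearMap.range (α i)) ≃ₗ[B i] M (i + 1) := fun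
    | 0 => fun _ => E.isoN
    | j + 1 => fun hi => E.isoCoker j (by omega)
  have surjBA' : ∀ i, i + 1 < E.n + 1 → Function.Surjective (algebraMap (B i) (A (i + 1))) := fun
    | 0 => fun _ => E.surjSA
    | j + 1 => fun hi => E.surjBA' j (by omega)
  have fpBA' : ∀ i, i + 1 < E.n + 1 → Algebra.FinitePresentation (B i) (A (i + 1)) := fun
    | 0 => fun _ => E.fpSA
    | j + 1 => fun hi => E.fpBA' j (by omega)
  have finiteBA : ∀ i, i < E.n + 1 → Module.Finite (B i) (A i) := fun
    | 0 => fun _ => st.finD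
    | j + 1 => fun hi => E.finiteBA j (by omega)
  have smooth : ∀ i, i < E.n + 1 → Algebra.Smooth R (B i) := fun
    | 0 => fun _ => CAlg76.SmoothRelDim.smooth_of_rel st.smooth
    | j + 1 => fun hi => E.smooth j (by omega)
  have geomIrred : ∀ i, i < E.n + 1 → FlatCA.GeomIrredFibres R (B i) := fun
    | 0 => fun _ => st.irred
    | j + 1 => fun hi => E.geomIrred j (by omega)
  have finiteM : ∀ i, i < E.n + 1 → Module.Finite (A i) (M i) := fun
    | 0 => fun _ => st.finG
    | j + 1 => fun hi => E.finiteM j (by omega)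
  have fibreIso : ∀ i, i < E.n + 1 →
      Function.Bijective ((α i).baseChange (p.map (algebraMap R (B i))).ResidueField) := fun
    | 0 => fun _ => st.bij
    | j + 1 => fun hi => E.fibreIso j (by omega)
  have cokerLast : Function.Surjective (α (E.n + 1 - 1)) := by
    obtain ⟨m, hm⟩ : ∃ m, E.n = m + 1 := ⟨E.n - 1, by have := E.pos; omega⟩
    have key : ∀ a b : ℕ, a = b + 1 → b = E.n - 1 → Function.Surjective (α a) := by
      rintro a b rfl rfl
      exact E.cokerLast
    exact key _ m (by omega) (by omega)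
  refine ⟨{ n := E.n + 1, pos := Nat.succ_pos _, A := A, B := B, M := M, r := r, α := α
            aSA := st.aSC, tRSA := st.tRSC, mSM := st.mSG, tSAM := st.tSCG
            surjSA := st.surj, fpSA := st.fp, surjBA' := surjBA', fpBA' := fpBA', finiteBA := finiteBA
            smooth := smooth, geomIrred := geomIrred, finiteM := finiteM, isoN := st.iso, isoCoker := isoCoker
            fibreIso := fibreIso, cokerLast := cokerLast }, ⟨?_⟩⟩
  let qB : ∀ i, Ideal (B i) := fun | 0 => st.y | j + 1 => AE.qB j
  let qA : ∀ i, Ideal (A i) := fun | 0 => st.z | j + 1 => AE.qA j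
  haveI hqB : ∀ i, (qB i).IsPrime := fun | 0 => st.hy | j + 1 => AE.hqB j
  haveI hqA : ∀ i, (qA i).IsPrime := fun | 0 => st.hz | j + 1 => AE.hqA j
  haveI overB : ∀ i, (qB i).LiesOver p := fun | 0 => st.yp | j + 1 => AE.overB j
  haveI overA : ∀ i, (qA i).LiesOver (qB i) := fun | 0 => st.zy | j + 1 => AE.overA j
  let d : ℕ → ℕ := fun | 0 => st.d | j + 1 => AE.d j
  exact { qB := qB, qA := qA, hqB := hqB, hqA := hqA, overB := overB, overA := overA
          pureTrans := fun | 0 => fun _ => st.pureTrans | j + 1 => fun hi => AE.pureTrans j (Nat.lt_of_succ_lt_succ hi)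
          uniq := fun | 0 => fun _ Q _ h => st.uniq Q h
                      | j + 1 => fun hi Q _ h => AE.uniq j (Nat.lt_of_succ_lt_succ hi) Q h
          q0 := st.zq
          qStep := fun | 0 => fun _ => AE.q0 | j + 1 => fun hi => AE.qStep j (Nat.lt_of_succ_lt_succ hi)
          d := d
          relDim := fun | 0 => fun _ => st.smooth | j + 1 => fun hi => AE.relDim j (Nat.lt_of_succ_lt_succ hi)
          locDim := fun | 0 => fun _ => st.locDim | j + 1 => fun hi => AE.locDim j (Nat.lt_of_succ_lt_succ hi) }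

theorem has_of_dev : ∀ (k : ℕ) {R S : Type u} [CommRing R] [CommRing S] [Algebra R S] {N : Type u} [AddCommGroup N]
    [Module S N] {p : Ideal R} [p.IsPrime] {q : Ideal S} [q.IsPrime],
    Dev k R S N p q → FlatCA.HasCompleteDevissageAt R S N p q
  | 0 => fun h => h.elim
  | k + 1 => fun ⟨st, hst⟩ => hst.elim (has_of_step st) fun h => has_of_cons st (has_of_dev k h)

end Groth.Agent.FlatMor62.DevChain
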