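import Groth.Agent.S12242
import Groth.Agent.Omega.SmoothFibreDim
import Groth.Agent.TopDimLib.Basic
import Mathlib.RingTheory.Ideal.GoingDown
import Mathlib.RingTheory.QuasiFinite.Basic
import Mathlib.RingTheory.Etale.QuasiFinite
import Mathlib.RingTheory.Ideal.GoingUp

/-!
# Dimension of supports in fibres through chains of primes
-/

set_option autoImplicit false
set_option linter.style.haveILetI false

universe u

namespace Groth.Agent.FlatMor62.DevDim

open Groth.Agent.S12242

section bound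

variable {R S : Type u} [CommRing R] [CommRing S] [Algebra R S] {N : Type u} [AddCommGroup N] [Module S N]
  [Module R N] [IsScalarTower R S N] [Module.Finite S N] (p : Ideal R) [p.IsPrime] (q : Ideal S) [q.IsPrime]
  [q.LiesOver p]

theorem suppHomeo_apply (x : PrimeSpectrum (p.Fiber S))
    (hx : x ∈ Module.support (p.Fiber S) (FlatCA.fiberMod p S N)) (hxq : x.asIdeal = FlatCA.fiberIdeal p q) :
    (suppHomeo (N := N) p ⟨x, hx⟩).1.asIdeal = q := by
  show x.asIdeal.comap _ = q
  rw [hxq]
  exact FlatMisc.Fiber.comap_fiberIdeal p q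

theorem mem_fibSupp_of_mem (x : PrimeSpectrum (p.Fiber S))
    (hx : x ∈ Module.support (p.Fiber S) (FlatCA.fiberMod p S N)) (hxq : x.asIdeal = FlatCA.fiberIdeal p q) :
    (⟨q, inferInstance⟩ : PrimeSpectrum S) ∈ fibSupp p S N := by
  have h := (suppHomeo (N := N) p ⟨x, hx⟩).2
  rwa [show (suppHomeo (N := N) p ⟨x, hx⟩).1 = ⟨q, inferInstance⟩ from
    PrimeSpectrum.ext (suppHomeo_apply p q x hx hxq)] at h

theorem exists_point_of_mem (h : (⟨q, inferInstance⟩ : PrimeSpectrum S) ∈ fibSupp p S N) :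
    ∃ x : PrimeSpectrum (p.Fiber S), x ∈ Module.support (p.Fiber S) (FlatCA.fiberMod p S N) ∧
      x.asIdeal = FlatCA.fiberIdeal p q := by
  let x := (suppHomeo (N := N) p).symm ⟨_, h⟩
  refine ⟨x.1, x.2, ?_⟩
  haveI := RGFlat.fiberIdeal_isPrime p q
  refine congrArg PrimeSpectrum.asIdeal (?_ : x.1 = ⟨FlatCA.fiberIdeal p q, inferInstance⟩)
  apply (PrimeSpectrum.preimageHomeomorphFiber R S ⟨p, inferInstance⟩).symm.injective
  refine Subtype.ext (PrimeSpectrum.ext ?_)
  have hx : (suppHomeo (N := N) p x).1.asIdeal = q := by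
    simp only [x, Homeomorph.apply_symm_apply]
  exact hx.trans (FlatMisc.Fiber.comap_fiberIdeal p q).symm

/-- A bound on the chains of a neighbourhood bounds the local dimension of the support in the fibre. -/
theorem localDim_le_of_chains (b : S) (hb : b ∉ q) (m : ℕ)
    (h : ∀ l : LTSeries (PrimeSpectrum S), (∀ i, l i ∈ fibSupp p S N) → (∀ i, b ∉ (l i).asIdeal) → l.length ≤ m)
    (x : PrimeSpectrum (p.Fiber S)) (hx : x ∈ Module.support (p.Fiber S) (FlatCA.fiberMod p S N))
    (hxq : x.asIdeal = FlatCA.fiberIdeal p q) :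
    FlatMor.localDim (Module.support (p.Fiber S) (FlatCA.fiberMod p S N)) ⟨x, hx⟩ ≤ (m : WithBot ℕ∞) := by
  let I := Module.annihilator S N
  let T := Localization.Away (Ideal.Quotient.mk I b)
  let f : PrimeSpectrum T → PrimeSpectrum S := PrimeSpectrum.comap (algebraMap S T)
  have hfac : f = PrimeSpectrum.comap (Ideal.Quotient.mk I) ∘ PrimeSpectrum.comap (algebraMap (S ⧸ I) T) := rfl
  have hf : Topology.IsEmbedding f := by
    rw [hfac]
    exact (PrimeSpectrum.isEmbedding_comap_of_surjective _ _ Ideal.Quotient.mk_surjective).comp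
      (PrimeSpectrum.localization_away_isOpenEmbedding T (Ideal.Quotient.mk I b)).isEmbedding
  have hrange : ∀ Q, Q ∈ Set.range f ↔ Q ∈ Module.support S N ∧ b ∉ Q.asIdeal := by
    intro Q
    rw [hfac, Set.range_comp, PrimeSpectrum.localization_away_comap_range T (Ideal.Quotient.mk I b),
      Module.support_eq_zeroLocus]
    constructor
    · rintro ⟨Q', hQ', rfl⟩
      refine ⟨fun s hs => ?_, hQ'⟩
      show Ideal.Quotient.mk I s ∈ Q'.asIdeal
      rw [Ideal.Quotient.eq_zero_iff_mem.mpr hs]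
      exact Q'.asIdeal.zero_mem
    · rintro ⟨hQ, hbQ⟩
      obtain ⟨Q', rfl⟩ : Q ∈ Set.range (PrimeSpectrum.comap (Ideal.Quotient.mk I)) := by
        rw [range_comap_of_surjective _ _ Ideal.Quotient.mk_surjective, Ideal.mk_ker]
        exact hQ
      exact ⟨Q', hbQ, rfl⟩
  let Tp := PrimeSpectrum.comap (algebraMap R T) ⁻¹' {(⟨p, inferInstance⟩ : PrimeSpectrum R)}
  have hover : ∀ P : PrimeSpectrum T, PrimeSpectrum.comap (algebraMap R S) (f P) = PrimeSpectrum.comap (algebraMap R T) P :=
    fun P => by rw [IsScalarTower.algebraMap_eq R S T]; rfl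
  let e : Tp → fibSupp p S N := fun P => ⟨f P.1, (hover P.1).trans P.2, ((hrange _).mp ⟨P.1, rfl⟩).1⟩
  have he : Topology.IsEmbedding e :=
    Topology.IsEmbedding.of_comp (Continuous.subtype_mk (hf.continuous.comp continuous_subtype_val) _)
      continuous_subtype_val (hf.comp Topology.IsEmbedding.subtypeVal)
  let U : Set (fibSupp p S N) := {Q | b ∉ Q.1.asIdeal}
  have hU : IsOpen U := (PrimeSpectrum.basicOpen b).2.preimage continuous_subtype_val
  have heU : Set.range e = U := by
    ext Q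
    refine ⟨?_, fun hQ => ?_⟩
    · rintro ⟨P, rfl⟩
      exact ((hrange _).mp ⟨P.1, rfl⟩).2
    · obtain ⟨P, hP⟩ := (hrange Q.1).mpr ⟨Q.2.2, hQ⟩
      exact ⟨⟨P, (hover P).symm.trans (hP ▸ Q.2.1)⟩, Subtype.ext hP⟩
  rw [localDim_supp]
  refine (TopDimLib.localDim_le hU ?_).trans ?_
  · show b ∉ (suppHomeo (N := N) p ⟨x, hx⟩).1.asIdeal
    rwa [suppHomeo_apply p q x hx hxq]
  rw [← heU, ← IsHomeomorph.topologicalKrullDim_eq _ he.toHomeomorph.isHomeomorph,
    IsHomeomorph.topologicalKrullDim_eq _ (PrimeSpectrum.preimageHomeomorphFiber R T ⟨p, inferInstance⟩).isHomeomorph,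
    PrimeSpectrum.topologicalKrullDim_eq_ringKrullDim]
  refine iSup_le fun l => ?_
  let O := PrimeSpectrum.preimageOrderIsoFiber R T ⟨p, inferInstance⟩
  let g : PrimeSpectrum (p.Fiber T) → PrimeSpectrum S := fun P => f (O.symm P).1
  have hg : StrictMono g := by
    intro P P' hlt
    have h1 : (O.symm P).1 < (O.symm P').1 := O.symm.strictMono hlt
    exact lt_of_le_of_ne (Ideal.comap_mono h1.le) fun he => h1.ne (hf.injective he)
  have hlen := h (l.map g hg) (fun i => (e (O.symm (l i))).2) (fun i => ((hrange _).mp ⟨_, rfl⟩).2)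
  exact WithBot.coe_le_coe.mpr (Nat.cast_le.mpr hlen)

end bound

section smooth

variable {R D : Type u} [CommRing R] [CommRing D] [Algebra R D] (p : Ideal R) [p.IsPrime] {n : ℕ}

theorem localDim_fibre_eq (hsm : FlatCA.SmoothRelDim n R D) (P : PrimeSpectrum (p.Fiber D)) :
    FlatMor.localDim (PrimeSpectrum (p.Fiber D)) P = (n : WithBot ℕ∞) := by
  haveI := CAlg76.SmoothRelDim.smooth_of_rel hsm
  let H := PrimeSpectrum.preimageHomeomorphFiber R D ⟨p, inferInstance⟩
  let Q := (H.symm P).1
  have hQ : PrimeSpectrum.comap (algebraMap R D) Q = ⟨p, inferInstance⟩ := (H.symm P).2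
  have h1 : FlatMor.fibreDimAt (AlgebraicGeometry.Spec.map (CommRingCat.ofHom (algebraMap R D))) Q =
      ((n : ℕ) : WithBot ℕ∞) := by
    rw [Omega.SmoothFibreDim.fibreDimAt_spec, CAlg76.SmoothRelDim.rankAtStalk_kaehler hsm]
  obtain ⟨P', hP', h2⟩ := Omega.SmoothFibreDim.fibreDimAt_eq_localDim_fiber R D Q
  rw [h1] at h2
  have key : ∀ (p₁ : PrimeSpectrum R) (P₁ : PrimeSpectrum (p₁.asIdeal.Fiber D)), p₁ = ⟨p, inferInstance⟩ →
      ((PrimeSpectrum.preimageHomeomorphFiber R D p₁).symm P₁).1 = Q →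
      ((n : ℕ) : WithBot ℕ∞) = FlatMor.localDim _ P₁ → FlatMor.localDim (PrimeSpectrum (p.Fiber D)) P = (n : WithBot ℕ∞) := by
    rintro _ P₁ rfl hP₁ hn
    rw [show P₁ = P from H.symm.injective (Subtype.ext hP₁)] at hn
    exact hn.symm
  exact key _ P' hQ hP' h2

/-- Chains in a fibre of a smooth algebra of relative dimension `n` have length at most `n`. -/
theorem length_le_of_smooth (hsm : FlatCA.SmoothRelDim n R D) (l : LTSeries (PrimeSpectrum D))
    (hl : ∀ i, PrimeSpectrum.comap (algebraMap R D) (l i) = ⟨p, inferInstance⟩) : l.length ≤ n := by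
  let O := PrimeSpectrum.preimageOrderIsoFiber R D ⟨p, inferInstance⟩
  let L : LTSeries (PrimeSpectrum (p.Fiber D)) :=
    ⟨l.length, fun i => O ⟨l i, hl i⟩, fun i => O.strictMono (l.step i)⟩
  have hdim : ringKrullDim (p.Fiber D) ≤ (n : WithBot ℕ∞) := by
    rw [← PrimeSpectrum.topologicalKrullDim_eq_ringKrullDim]
    refine TopDimLib.topDim_le_iff.2 fun s => ?_
    obtain ⟨x, hx⟩ := s.head.isIrreducible.1
    exact (TopDimLib.length_le_localDim s hx).trans (localDim_fibre_eq p hsm x).le
  exact Nat.cast_le.mp (WithBot.coe_le_coe.mp ((Order.LTSeries.length_le_krullDim L).trans hdim))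

theorem comap_map_eq (y : Ideal D) [y.LiesOver p] : (p.map (algebraMap R D)).comap (algebraMap R D) = p :=
  le_antisymm ((Ideal.comap_mono (Ideal.map_le_iff_le_comap.mpr (y.over_def p).le)).trans (y.over_def p).ge)
    Ideal.le_comap_map

variable (M : Type u) [AddCommGroup M] [Module D M] [Module R M] [IsScalarTower R D M] [Module.Finite D M]

/-- If the generic point of the fibre lies in the support then so does the whole fibre. -/
theorem locDim_eq (hsm : FlatCA.SmoothRelDim n R D) (y : Ideal D) [y.IsPrime] [y.LiesOver p]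
    [hP : (p.map (algebraMap R D)).IsPrime] (hM : (⟨_, hP⟩ : PrimeSpectrum D) ∈ Module.support D M) :
    ∃ (x : PrimeSpectrum (p.Fiber D)) (hx : x ∈ Module.support (p.Fiber D) (FlatCA.fiberMod p D M)),
      x.asIdeal = FlatCA.fiberIdeal p y ∧
      FlatMor.localDim (Module.support (p.Fiber D) (FlatCA.fiberMod p D M)) ⟨x, hx⟩ = (n : WithBot ℕ∞) := by
  have hall : ∀ w : PrimeSpectrum (p.Fiber D), w ∈ Module.support (p.Fiber D) (FlatCA.fiberMod p D M) := fun w => by
    refine (mem_support_fiberMod p w).mpr (Module.mem_support_mono ?_ hM)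
    exact Ideal.map_le_iff_le_comap.mpr
      (congrArg PrimeSpectrum.asIdeal ((PrimeSpectrum.preimageHomeomorphFiber R D ⟨p, inferInstance⟩).symm w).2).ge
  obtain ⟨x, hx, hxy⟩ := exists_point_of_mem (N := M) p y
    ⟨PrimeSpectrum.ext (y.over_def p).symm, Module.mem_support_mono
      (Ideal.map_le_iff_le_comap.mpr (y.over_def p).le) hM⟩
  refine ⟨x, hx, hxy, ?_⟩
  have hopen : IsOpen (Module.support (p.Fiber D) (FlatCA.fiberMod p D M)) := by
    rw [Set.eq_univ_of_forall hall]
    exact isOpen_univ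
  rw [localDim_open hopen, localDim_fibre_eq p hsm]

end smooth

section lift

/-- Chains of a fibre lift to chains of the fibre over a point of an étale neighbourhood. -/
theorem exists_chain_lift {R R' S S' : Type u} [CommRing R] [CommRing R'] [CommRing S] [CommRing S']
    [Algebra R R'] [Algebra R S] [Algebra R' S'] [Algebra R S'] [Algebra S S'] [IsScalarTower R R' S']
    [IsScalarTower R S S'] [Algebra.Etale R R'] [Algebra.Etale S S'] (p : Ideal R) [p.IsPrime] (p' : Ideal R')
    [p'.IsPrime] [p'.LiesOver p] (q' : Ideal S') [q'.IsPrime] [q'.LiesOver p'] :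
    ∃ b : S, b ∉ q'.comap (algebraMap S S') ∧
      ∀ l : LTSeries (PrimeSpectrum S), (∀ i, PrimeSpectrum.comap (algebraMap R S) (l i) = ⟨p, inferInstance⟩) →
        (∀ i, b ∉ (l i).asIdeal) →
        ∃ L : LTSeries (PrimeSpectrum S'), L.length = l.length ∧
          (∀ i, ∃ j, PrimeSpectrum.comap (algebraMap S S') (L i) = l j) ∧
          ∀ i, PrimeSpectrum.comap (algebraMap R' S') (L i) = ⟨p', inferInstance⟩ := by
  classical
  have hfin : (p.primesOver R').Finite := Algebra.QuasiFinite.finite_primesOver p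
  have ha : ∃ a : R', a ∉ p' ∧ ∀ P ∈ p.primesOver R', P ≠ p' → a ∈ P := by
    have hex : ∀ P ∈ hfin.toFinset.erase p', ∃ a ∈ P, a ∉ p' := by
      intro P hP
      rw [Finset.mem_erase, Set.Finite.mem_toFinset] at hP
      refine SetLike.not_le_iff_exists.mp fun hle => hP.1 ?_
      haveI := hP.2.1
      haveI := hP.2.2
      exact Algebra.QuasiFinite.eq_of_le_of_under_eq (R := R) P p' hle ((P.over_def p).symm.trans (p'.over_def p))
    choose! a haP hap using hex
    refine ⟨∏ P ∈ hfin.toFinset.erase p', a P, fun h => ?_, fun P hP hne => ?_⟩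
    · obtain ⟨P, hP, hPa⟩ := (inferInstance : p'.IsPrime).prod_mem_iff.mp h
      exact hap P hP hPa
    · have hP' : P ∈ hfin.toFinset.erase p' := Finset.mem_erase.mpr ⟨hne, hfin.mem_toFinset.mpr hP⟩
      exact Ideal.mem_of_dvd P (Finset.dvd_prod_of_mem a hP') (haP P hP')
  obtain ⟨a, ha, hothers⟩ := ha
  let q : PrimeSpectrum S := ⟨q'.comap (algebraMap S S'), inferInstance⟩
  have hW : IsOpen (PrimeSpectrum.comap (algebraMap S S') '' (PrimeSpectrum.basicOpen (algebraMap R' S' a) : Set (PrimeSpectrum S'))) :=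
    PrimeSpectrum.isOpenMap_comap_of_hasGoingDown_of_finitePresentation _ (PrimeSpectrum.basicOpen _).2
  obtain ⟨_, ⟨b, rfl⟩, hqb, hb⟩ := PrimeSpectrum.isTopologicalBasis_basic_opens.exists_subset_of_mem_open
    (show q ∈ (PrimeSpectrum.comap (algebraMap S S') '' (PrimeSpectrum.basicOpen (algebraMap R' S' a) : Set (PrimeSpectrum S'))) from ⟨⟨q', inferInstance⟩,
      (show algebraMap R' S' a ∉ q' from fun h => ha ((Ideal.mem_of_liesOver q' p' a).mpr h)), rfl⟩) hW
  refine ⟨b, hqb, fun l hl hlb => ?_⟩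
  obtain ⟨Q, hQa, hQ⟩ := hb (hlb (Fin.last l.length))
  haveI : Q.asIdeal.LiesOver l.last.asIdeal := ⟨(congrArg PrimeSpectrum.asIdeal hQ).symm⟩
  obtain ⟨L, hlen, hlast, hmap⟩ := Ideal.exists_ltSeries_of_hasGoingDown l Q.asIdeal
  have hj : ∀ i, ∃ j, PrimeSpectrum.comap (algebraMap S S') (L i) = l j := fun i => by
    have hmem : PrimeSpectrum.comap (algebraMap S S') (L i) ∈ l.toList :=
      hmap ▸ List.mem_map_of_mem (RelSeries.mem_toList.mpr ⟨i, rfl⟩)
    obtain ⟨j, hj⟩ := RelSeries.mem_toList.mp hmem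
    exact ⟨j, hj.symm⟩
  refine ⟨L, hlen, hj, fun i => ?_⟩
  obtain ⟨j, hij⟩ := hj i
  let P := PrimeSpectrum.comap (algebraMap R' S') (L i)
  let P₁ := PrimeSpectrum.comap (algebraMap R' S') Q
  have hPp : P.asIdeal.under R = p := by
    have h1 := congrArg PrimeSpectrum.asIdeal (congrArg (PrimeSpectrum.comap (algebraMap R S)) hij)
    rw [hl j] at h1
    refine Eq.trans ?_ h1
    show ((L i).asIdeal.comap (algebraMap R' S')).comap (algebraMap R R') = ((L i).asIdeal.comap (algebraMap S S')).comap (algebraMap R S)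
    rw [Ideal.comap_comap, Ideal.comap_comap, ← IsScalarTower.algebraMap_eq, ← IsScalarTower.algebraMap_eq]
  have hP₁p : P₁.asIdeal.under R = p := by
    have h1 := congrArg PrimeSpectrum.asIdeal (congrArg (PrimeSpectrum.comap (algebraMap R S)) hQ)
    rw [hl (Fin.last _)] at h1
    refine Eq.trans ?_ h1
    show (Q.asIdeal.comap (algebraMap R' S')).comap (algebraMap R R') = (Q.asIdeal.comap (algebraMap S S')).comap (algebraMap R S)
    rw [Ideal.comap_comap, Ideal.comap_comap, ← IsScalarTower.algebraMap_eq, ← IsScalarTower.algebraMap_eq]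
  have hP₁ : P₁.asIdeal = p' := by
    by_contra hne
    exact hQa (hothers P₁.asIdeal ⟨P₁.2, ⟨hP₁p.symm⟩⟩ hne)
  refine PrimeSpectrum.ext ?_
  show P.asIdeal = p'
  rw [← hP₁]
  have hle : L i ≤ Q := by
    have h := L.monotone (Fin.le_last i)
    rwa [show L (Fin.last L.length) = Q from hlast] at h
  exact Algebra.QuasiFinite.eq_of_le_of_under_eq (R := R) _ _ (Ideal.comap_mono hle) (hPp.trans hP₁p.symm)

theorem lt_comap_of_finite {D C : Type u} [CommRing D] [CommRing C] [Algebra D C] [Module.Finite D C]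
    {P Q : PrimeSpectrum C} (h : P < Q) :
    PrimeSpectrum.comap (algebraMap D C) P < PrimeSpectrum.comap (algebraMap D C) Q := by
  have := Ideal.IsIntegral.comap_lt_comap (R := D) (I := P.asIdeal) (J := Q.asIdeal) h
  exact this

theorem mem_support_restrict {A B : Type u} [CommRing A] [CommRing B] [Algebra A B] {M : Type u} [AddCommGroup M]
    [Module A M] [Module B M] [IsScalarTower A B M] [Module.Finite A M] [Module.Finite B M] (P : PrimeSpectrum B)
    (h : P ∈ Module.support B M) : PrimeSpectrum.comap (algebraMap A B) P ∈ Module.support A M := by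
  rw [Module.mem_support_iff_of_finite] at h ⊢
  intro a ha
  refine h (Module.mem_annihilator.mpr fun m => ?_)
  rw [algebraMap_smul]
  exact Module.mem_annihilator.mp ha m

end lift

end Groth.Agent.FlatMor62.DevDim
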