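import Groth.Agent.IndAlg.EtaleLift
import Mathlib.RingTheory.Unramified.Basic
import Mathlib.RingTheory.Etale.Basic
import Mathlib.LinearAlgebra.TensorProduct.RightExactness
import Mathlib.RingTheory.RingHom.Etale

/-!
# Lifting étale algebras over a quotient compatibly with an étale base change
-/

set_option autoImplicit false
set_option linter.style.haveILetI false

universe u

open TensorProduct

namespace Groth.Agent.FlatMor62.EtaleLiftBase

/-- The graph of a map out of an unramified algebra is cut out by an idempotent. -/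
theorem exists_idempotent_lift {R R' C : Type u} [CommRing R] [CommRing R'] [CommRing C] [Algebra R R']
    [Algebra R C] [Algebra.EssFiniteType R R'] [Algebra.FormallyUnramified R R'] (j : R' →ₐ[R] C) :
    ∃ e : R' ⊗[R] C, IsIdempotentElem e ∧
      (Algebra.TensorProduct.lift j (AlgHom.id R C) fun _ _ => Commute.all _ _) e = 0 ∧
      ∀ x : R' ⊗[R] C, (Algebra.TensorProduct.lift j (AlgHom.id R C) fun _ _ => Commute.all _ _) x = 0 →
        x ∈ Ideal.span {e} := by
  obtain ⟨e₀, he₀, hsp⟩ : ∃ e, IsIdempotentElem e ∧ KaehlerDifferential.ideal R R' = R' ⊗[R] R' ∙ e :=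
    (Ideal.isIdempotentElem_iff_of_fg _ (KaehlerDifferential.ideal_fg R R')).mp <|
      (Ideal.cotangent_subsingleton_iff _).mp <| inferInstanceAs <| Subsingleton Ω[R'⁄R]
  let μ : R' ⊗[R] C →ₐ[R] C := Algebra.TensorProduct.lift j (AlgHom.id R C) fun _ _ => Commute.all _ _
  let Φ : R' ⊗[R] R' →ₐ[R] R' ⊗[R] C := Algebra.TensorProduct.map (AlgHom.id R R') j
  refine ⟨Φ e₀, he₀.map Φ, ?_, fun x hx => ?_⟩
  · have hμΦ : μ.comp Φ = j.comp (Algebra.TensorProduct.lmul' R) :=
      Algebra.TensorProduct.ext (AlgHom.ext fun a => by simp [μ, Φ]) (AlgHom.ext fun a => by simp [μ, Φ])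
    have h : e₀ ∈ KaehlerDifferential.ideal R R' := hsp ▸ Submodule.mem_span_singleton_self e₀
    have := DFunLike.congr_fun hμΦ e₀
    simp only [AlgHom.comp_apply] at this
    show μ (Φ e₀) = 0
    rw [this, show Algebra.TensorProduct.lmul' R e₀ = 0 from RingHom.mem_ker.mp h, map_zero]
  · have key : ∀ y : R' ⊗[R] C, y - (1 : R') ⊗ₜ[R] μ y ∈ Ideal.span {Φ e₀} := by
      intro y
      induction y using TensorProduct.induction_on with
      | zero => simp
      | add a b ha hb => simpa only [map_add, TensorProduct.tmul_add, add_sub_add_comm] using add_mem ha hb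
      | tmul r c =>
        have hd : (1 : R') ⊗ₜ[R] r - r ⊗ₜ[R] (1 : R') ∈ Submodule.span (R' ⊗[R] R') {e₀} :=
          hsp ▸ KaehlerDifferential.one_smul_sub_smul_one_mem_ideal R r
        obtain ⟨a, ha⟩ := Submodule.mem_span_singleton.mp hd
        refine Ideal.mem_span_singleton'.mpr ⟨-(((1 : R') ⊗ₜ[R] c) * Φ a), ?_⟩
        have h : Φ ((1 : R') ⊗ₜ[R] r - r ⊗ₜ[R] (1 : R')) = Φ a * Φ e₀ := by rw [← map_mul, ← ha, smul_eq_mul]
        rw [neg_mul, mul_assoc, ← h, map_sub]
        simp only [Φ, μ, Algebra.TensorProduct.map_tmul, Algebra.TensorProduct.lift_tmul, AlgHom.coe_id, id_eq,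
          map_one, mul_sub, Algebra.TensorProduct.tmul_mul_tmul, mul_one, one_mul, neg_sub]
        rw [mul_comm c (j r)]
    simpa [show μ x = 0 from hx] using key x

variable (R R' S C : Type u) [CommRing R] [CommRing R'] [CommRing S] [CommRing C] [Algebra R R'] [Algebra R S]
  [Algebra.Etale R R'] (J : Ideal S) [Algebra S C] [Algebra (S ⧸ J) C] [IsScalarTower S (S ⧸ J) C]
  [Algebra.Etale (S ⧸ J) C] [Algebra R' C]

/-- An étale algebra over a quotient of `S` receiving an étale `R`-algebra lifts to such an étale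
`S`-algebra. -/
theorem exists_lift_over
    (comm : (algebraMap R' C).comp (algebraMap R R') = (algebraMap S C).comp (algebraMap R S)) :
    ∃ (S' : Type u) (_ : CommRing S') (_ : Algebra S S') (ψ : S' →ₐ[S] C) (j : R' →+* S'),
      Algebra.Etale S S' ∧ Function.Surjective ψ ∧ RingHom.ker ψ.toRingHom = J.map (algebraMap S S') ∧
        ψ.toRingHom.comp j = algebraMap R' C ∧
        j.comp (algebraMap R R') = (algebraMap S S').comp (algebraMap R S) := by
  obtain ⟨S₀, _, _, hS₀, ⟨E₀⟩⟩ := Groth.Agent.IndAlg.EtaleLift.exists_lift S J C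
  let π₀ : S₀ →ₐ[S] C := E₀.toAlgHom.comp (Ideal.Quotient.mkₐ S _)
  have hπ₀ : Function.Surjective π₀ := E₀.surjective.comp (Ideal.Quotient.mk_surjective)
  have hker₀ : RingHom.ker π₀ = J.map (algebraMap S S₀) := by
    ext x
    rw [RingHom.mem_ker]
    exact (map_eq_zero_iff E₀ E₀.injective).trans Ideal.Quotient.eq_zero_iff_mem
  letI : Algebra R S₀ := ((algebraMap S S₀).comp (algebraMap R S)).toAlgebra
  letI : Algebra R C := ((algebraMap S C).comp (algebraMap R S)).toAlgebra
  haveI : IsScalarTower R S S₀ := IsScalarTower.of_algebraMap_eq fun _ => rfl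
  haveI : IsScalarTower R S C := IsScalarTower.of_algebraMap_eq fun _ => rfl
  haveI : IsScalarTower R R' C := IsScalarTower.of_algebraMap_eq fun x => (RingHom.congr_fun comm x).symm
  let T := R' ⊗[R] S₀
  let i : S₀ →+* T := (Algebra.TensorProduct.includeRight : S₀ →ₐ[R] T).toRingHom
  have hi : i.Etale := by
    letI : Algebra S₀ T := Algebra.TensorProduct.rightAlgebra
    haveI : Algebra.Etale S₀ T := Algebra.Etale.of_equiv (A := S₀ ⊗[R] R')
      (AlgEquiv.ofRingEquiv (f := (Algebra.TensorProduct.comm R S₀ R').toRingEquiv) fun x => rfl)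
    exact RingHom.etale_algebraMap.mpr this
  let j₀ : R' →ₐ[R] C := IsScalarTower.toAlgHom R R' C
  let π₀' : S₀ →ₐ[R] C := π₀.restrictScalars R
  let m : T →ₐ[R] R' ⊗[R] C := Algebra.TensorProduct.map (AlgHom.id R R') π₀'
  let μ : R' ⊗[R] C →ₐ[R] C := Algebra.TensorProduct.lift j₀ (AlgHom.id R C) fun _ _ => Commute.all _ _
  obtain ⟨e, he, hμe, hkerμ⟩ := exists_idempotent_lift j₀
  have hm : Function.Surjective m :=
    Algebra.TensorProduct.map_surjective (AlgHom.id R R') π₀' Function.surjective_id hπ₀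
  obtain ⟨a, ha⟩ := hm (1 - e)
  letI : Algebra S T := (i.comp (algebraMap S S₀)).toAlgebra
  have hmt : ∀ (r : R') (x : S₀), μ (m (r ⊗ₜ[R] x)) = j₀ r * π₀ x := fun r x => rfl
  let pi0 : T →ₐ[S] C :=
    { (μ.comp m).toRingHom with
      commutes' := fun s => by
        show μ (m ((1 : R') ⊗ₜ[R] algebraMap S S₀ s)) = _
        rw [hmt, map_one, one_mul, AlgHom.commutes] }
  have hpi : ∀ t, pi0 t = μ (m t) := fun _ => rfl
  have hu : ∀ y : Submonoid.powers a, IsUnit (pi0 (y : T)) := by
    rintro ⟨_, k, rfl⟩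
    rw [map_pow, hpi, ha, map_sub, map_one, show μ e = 0 from hμe, sub_zero, one_pow]
    exact isUnit_one
  let S' := Localization.Away a
  let ψ : S' →ₐ[S] C := IsLocalization.liftAlgHom (M := Submonoid.powers a) (f := pi0) hu
  have hψ : ∀ t : T, ψ (algebraMap T S' t) = pi0 t := fun t => IsLocalization.lift_eq hu t
  let iR : R' →+* T := (Algebra.TensorProduct.includeLeft : R' →ₐ[R] T).toRingHom
  haveI hTet : Algebra.Etale S T :=
    RingHom.etale_algebraMap.mp
      (RingHom.Etale.stableUnderComposition (algebraMap S S₀) i (RingHom.etale_algebraMap.mpr hS₀) hi)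
  haveI : Algebra.Etale T S' := Algebra.Etale.of_isLocalizationAway a
  refine ⟨S', inferInstance, inferInstance, ψ, (algebraMap T S').comp iR, Algebra.Etale.comp S T S', ?_, ?_, ?_, ?_⟩
  · intro c
    obtain ⟨x, hx⟩ := hπ₀ c
    refine ⟨algebraMap T S' ((1 : R') ⊗ₜ[R] x), ?_⟩
    rw [hψ, hpi, hmt, map_one, one_mul, hx]
  · have hJT : ∀ x : R' ⊗[R] S₀, m x = 0 → x ∈ J.map (algebraMap S T) := by
      intro x hx
      have h : x ∈ RingHom.ker m := hx
      rw [show RingHom.ker m = _ from Algebra.TensorProduct.lTensor_ker (A := R') π₀' hπ₀,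
        show RingHom.ker π₀' = J.map (algebraMap S S₀) from hker₀] at h
      rw [RingHom.algebraMap_toAlgebra, ← Ideal.map_map]
      exact h
    refine le_antisymm (fun x hx => ?_) (Ideal.map_le_iff_le_comap.mpr fun s hs => ?_)
    · obtain ⟨t, ⟨_, k, rfl⟩, rfl⟩ := IsLocalization.exists_mk'_eq (Submonoid.powers a) x
      have h0 : μ (m t) = 0 := by
        have h1 : ψ (algebraMap T S' t) = 0 := by
          rw [← IsLocalization.mk'_spec S' t (⟨a ^ k, k, rfl⟩ : Submonoid.powers a), map_mul,
            show ψ _ = 0 from hx, zero_mul]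
        rwa [hψ, hpi] at h1
      have hta : m (t * a) = 0 := by
        obtain ⟨w, hw⟩ := Ideal.mem_span_singleton'.mp (hkerμ (m t) h0)
        rw [map_mul, ha, ← hw, mul_assoc, mul_sub, mul_one, he, sub_self, mul_zero]
      have hmem : algebraMap T S' (t * a) ∈ J.map (algebraMap S S') := by
        rw [IsScalarTower.algebraMap_eq S T S', ← Ideal.map_map]
        exact Ideal.mem_map_of_mem _ (hJT _ hta)
      rw [map_mul] at hmem
      have hua : IsUnit (algebraMap T S' a) := IsLocalization.Away.algebraMap_isUnit a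
      rw [IsLocalization.mk'_eq_mul_mk'_one]
      exact Ideal.mul_mem_right _ _ ((Ideal.mul_unit_mem_iff_mem _ hua).mp hmem)
    · show ψ (algebraMap S S' s) = 0
      rw [AlgHom.commutes, IsScalarTower.algebraMap_apply S (S ⧸ J) C, Ideal.Quotient.algebraMap_eq,
        Ideal.Quotient.eq_zero_iff_mem.mpr hs, map_zero]
  · ext r
    show ψ (algebraMap T S' (r ⊗ₜ[R] (1 : S₀))) = _
    rw [hψ, hpi, hmt, map_one, mul_one]
    rfl
  · ext r
    show algebraMap T S' (algebraMap R R' r ⊗ₜ[R] (1 : S₀)) = algebraMap S S' (algebraMap R S r)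
    rw [IsScalarTower.algebraMap_apply S T S']
    congr 1
    show _ = (1 : R') ⊗ₜ[R] algebraMap S S₀ (algebraMap R S r)
    rw [← IsScalarTower.algebraMap_apply R S S₀, Algebra.algebraMap_eq_smul_one, Algebra.algebraMap_eq_smul_one,
      TensorProduct.smul_tmul]

end Groth.Agent.FlatMor62.EtaleLiftBase
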