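import Groth.Prelude.Def_FlatCA
import Mathlib.RingTheory.AlgebraicIndependent.TranscendenceBasis
import Mathlib.RingTheory.Localization.BaseChange
import Mathlib.RingTheory.TensorProduct.MvPolynomial
import Mathlib.AlgebraicGeometry.Geometrically.Connected
import Mathlib.AlgebraicGeometry.Pullbacks

/-!
# Fibres over points with trivial residue extension, purely transcendental points
-/

set_option autoImplicit false
set_option linter.style.haveILetI false

universe u

open TensorProduct

namespace Groth.Agent.FlatMor62.FieldFib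

section residue

variable {R R' S : Type u} [CommRing R] [CommRing R'] [CommRing S] [Algebra R R'] [Algebra R S]
  (p : Ideal R) [p.IsPrime] (P : Ideal R') [P.IsPrime] [P.LiesOver p] (q : Ideal S) [q.IsPrime] [q.LiesOver p]

/-- Over a point with trivial residue extension there is one point above any given point, and it has
the same residue field. -/
theorem existsUnique_prime
    (hbij : Function.Bijective (Ideal.ResidueField.mapₐ p P (Algebra.ofId R R') (P.over_def p))) :
    ∃ Q : Ideal (R' ⊗[R] S), Q.IsPrime ∧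
      Q.comap (algebraMap R' (R' ⊗[R] S)) = P ∧
      Q.comap (Algebra.TensorProduct.includeRight : S →ₐ[R] R' ⊗[R] S).toRingHom = q ∧
      (∀ [Q.IsPrime] (h : q = Q.comap (Algebra.TensorProduct.includeRight : S →ₐ[R] R' ⊗[R] S).toRingHom),
        Function.Bijective (Ideal.ResidueField.map q Q
          (Algebra.TensorProduct.includeRight : S →ₐ[R] R' ⊗[R] S).toRingHom h)) ∧
      ∀ Q' : Ideal (R' ⊗[R] S), Q'.IsPrime → Q'.comap (algebraMap R' (R' ⊗[R] S)) = P →
        Q'.comap (Algebra.TensorProduct.includeRight : S →ₐ[R] R' ⊗[R] S).toRingHom = q → Q' = Q := by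
  let E : p.ResidueField ≃ₐ[R] P.ResidueField :=
    AlgEquiv.ofBijective (Ideal.ResidueField.mapₐ p P (Algebra.ofId R R') (P.over_def p)) hbij
  let κS : p.ResidueField →ₐ[R] q.ResidueField :=
    Ideal.ResidueField.mapₐ p q (Algebra.ofId R S) (q.over_def p)
  let α : R' →ₐ[R] q.ResidueField := (κS.comp E.symm.toAlgHom).comp (IsScalarTower.toAlgHom R R' P.ResidueField)
  let β : S →ₐ[R] q.ResidueField := IsScalarTower.toAlgHom R S q.ResidueField
  let ρ : R' ⊗[R] S →ₐ[R] q.ResidueField := Algebra.TensorProduct.lift α β fun _ _ => Commute.all _ _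
  have hρr : ∀ r' : R', ρ (r' ⊗ₜ 1) = κS (E.symm (algebraMap R' P.ResidueField r')) := fun r' => by
    show Algebra.TensorProduct.lift α β _ (r' ⊗ₜ 1) = _
    rw [Algebra.TensorProduct.lift_tmul, map_one, mul_one]
    rfl
  have hρs : ∀ s : S, ρ (1 ⊗ₜ s) = algebraMap S q.ResidueField s := fun s => by
    show Algebra.TensorProduct.lift α β _ (1 ⊗ₜ s) = _
    rw [Algebra.TensorProduct.lift_tmul, map_one, one_mul]
    rfl
  -- every prime over `P` and `q` receives the map to `κ(q)`
  have key : ∀ (Q : Ideal (R' ⊗[R] S)) [Q.IsPrime],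
      Q.comap (algebraMap R' (R' ⊗[R] S)) = P →
      ∀ (h : q = Q.comap (Algebra.TensorProduct.includeRight : S →ₐ[R] R' ⊗[R] S).toRingHom) (z : R' ⊗[R] S),
        Ideal.ResidueField.map q Q (Algebra.TensorProduct.includeRight : S →ₐ[R] R' ⊗[R] S).toRingHom h (ρ z) =
          algebraMap (R' ⊗[R] S) Q.ResidueField z := by
    intro Q _ hQP h z
    let ι : q.ResidueField →ₐ[R] Q.ResidueField :=
      Ideal.ResidueField.mapₐ q Q (Algebra.TensorProduct.includeRight : S →ₐ[R] R' ⊗[R] S) h
    let γ : P.ResidueField →ₐ[R] Q.ResidueField :=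
      Ideal.ResidueField.mapₐ P Q ((IsScalarTower.toAlgHom R R' (R' ⊗[R] S))) hQP.symm
    show ι (ρ z) = _
    induction z using TensorProduct.induction_on with
    | zero => simp
    | add x y hx hy => rw [map_add, map_add, hx, hy, map_add]
    | tmul r' s =>
      rw [show r' ⊗ₜ[R] s = (r' ⊗ₜ[R] (1 : S)) * ((1 : R') ⊗ₜ[R] s) by simp, map_mul, map_mul, map_mul, hρr, hρs]
      congr 1
      · have e : ι.comp κS = γ.comp E.toAlgHom :=
          AlgHom.coe_ringHom_injective (Ideal.ResidueField.ringHom_ext (RingHom.ext fun x =>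
            ((ι.comp κS).commutes x).trans ((γ.comp E.toAlgHom).commutes x).symm))
        have e' := DFunLike.congr_fun e (E.symm (algebraMap R' P.ResidueField r'))
        simp only [AlgHom.comp_apply] at e'
        rw [show E.toAlgHom (E.symm (algebraMap R' P.ResidueField r')) = _ from E.apply_symm_apply _] at e'
        rw [e']
        exact Ideal.ResidueField.map_algebraMap P Q (algebraMap R' (R' ⊗[R] S)) hQP.symm r'
      · exact Ideal.ResidueField.map_algebraMap q Q _ _ s
  refine ⟨RingHom.ker ρ, RingHom.ker_isPrime ρ, ?_, ?_, ?_, ?_⟩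
  · ext r'
    simp only [Ideal.mem_comap, RingHom.mem_ker, Algebra.TensorProduct.algebraMap_apply, Algebra.algebraMap_self,
      RingHom.id_apply, hρr, map_eq_zero, Ideal.algebraMap_residueField_eq_zero]
  · ext s
    simp only [Ideal.mem_comap, RingHom.mem_ker]
    show ρ (1 ⊗ₜ s) = 0 ↔ _
    rw [hρs, Ideal.algebraMap_residueField_eq_zero]
  · intro _ h
    refine ⟨RingHom.injective _, fun y => ?_⟩
    have hQP : (RingHom.ker ρ).comap (algebraMap R' (R' ⊗[R] S)) = P := by
      ext r'
      simp only [Ideal.mem_comap, RingHom.mem_ker, Algebra.TensorProduct.algebraMap_apply, Algebra.algebraMap_self,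
        RingHom.id_apply, hρr, map_eq_zero, Ideal.algebraMap_residueField_eq_zero]
    obtain ⟨a, b, -, rfl⟩ := IsFractionRing.div_surjective (A := (R' ⊗[R] S) ⧸ RingHom.ker ρ) y
    obtain ⟨a, rfl⟩ := Ideal.Quotient.mk_surjective a
    obtain ⟨b, rfl⟩ := Ideal.Quotient.mk_surjective b
    refine ⟨ρ a / ρ b, ?_⟩
    rw [map_div₀, key _ hQP h, key _ hQP h, Ideal.algebraMap_quotient_residueField_mk,
      Ideal.algebraMap_quotient_residueField_mk]
  · intro Q' hQ' hQ'P hQ'q
    ext z
    rw [RingHom.mem_ker, ← Ideal.algebraMap_residueField_eq_zero (I := Q'), ← key Q' hQ'P hQ'q.symm z,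
      map_eq_zero]

end residue

/-- Being purely transcendental only depends on the residue fields. -/
theorem purelyTranscendental_of_equiv {R S R' S' : Type u} [CommRing R] [CommRing S] [Algebra R S]
    [CommRing R'] [CommRing S'] [Algebra R' S'] {p : Ideal R} [p.IsPrime] {q : Ideal S} [q.IsPrime]
    [hq : q.LiesOver p] {p' : Ideal R'} [p'.IsPrime] {q' : Ideal S'} [q'.IsPrime] [hq' : q'.LiesOver p']
    (ε : p.ResidueField →+* p'.ResidueField) (hε : Function.Bijective ε)
    (δ : q.ResidueField →+* q'.ResidueField) (hδ : Function.Bijective δ)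
    (comm : ∀ a : p.ResidueField, δ (Ideal.ResidueField.mapₐ p q (Algebra.ofId R S) hq.over a) =
      Ideal.ResidueField.mapₐ p' q' (Algebra.ofId R' S') hq'.over (ε a))
    (h : FlatCA.PurelyTranscendental p q) : FlatCA.PurelyTranscendental p' q' := by
  unfold FlatCA.PurelyTranscendental at h ⊢
  letI : Algebra p.ResidueField q.ResidueField :=
    (Ideal.ResidueField.mapₐ p q (Algebra.ofId R S) hq.over).toRingHom.toAlgebra
  letI : Algebra p'.ResidueField q'.ResidueField :=
    (Ideal.ResidueField.mapₐ p' q' (Algebra.ofId R' S') hq'.over).toRingHom.toAlgebra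
  obtain ⟨ι, x, hx, htop⟩ := h
  let x' : ι → q'.ResidueField := δ ∘ x
  have hc : ∀ a, δ (algebraMap p.ResidueField q.ResidueField a) = algebraMap p'.ResidueField q'.ResidueField (ε a) :=
    comm
  have hind : AlgebraicIndependent p'.ResidueField x' := by
    rw [algebraicIndependent_iff]
    intro b hb
    obtain ⟨a, rfl⟩ := MvPolynomial.map_surjective ε hε.2 b
    have hA : (MvPolynomial.aeval x').toRingHom.comp (MvPolynomial.map ε) = δ.comp (MvPolynomial.aeval x).toRingHom :=
      MvPolynomial.ringHom_ext (fun c => by simp [hc]) fun i => by simp [x']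
    have e : MvPolynomial.aeval x' (MvPolynomial.map ε a) = δ (MvPolynomial.aeval x a) := RingHom.congr_fun hA a
    rw [e, map_eq_zero] at hb
    rw [hx.1.eq_zero_of_aeval_eq_zero a hb, map_zero]
  have htop' : IntermediateField.adjoin p'.ResidueField (Set.range x') = ⊤ := by
    refine eq_top_iff.mpr fun z _ => ?_
    obtain ⟨w, rfl⟩ := hδ.2 z
    have hw : w ∈ IntermediateField.adjoin p.ResidueField (Set.range x) := by rw [htop]; trivial
    induction hw using IntermediateField.adjoin_induction with
    | mem y hy => obtain ⟨i, rfl⟩ := hy; exact IntermediateField.subset_adjoin _ _ ⟨i, rfl⟩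
    | algebraMap a => rw [hc]; exact IntermediateField.algebraMap_mem _ _
    | add a b _ _ ha hb => rw [map_add]; exact add_mem (ha trivial) (hb trivial)
    | mul a b _ _ ha hb => rw [map_mul]; exact mul_mem (ha trivial) (hb trivial)
    | inv a _ ha => rw [map_inv₀]; exact inv_mem (ha trivial)
  refine ⟨ι, x', hind.isTranscendenceBasis_iff_isAlgebraic.mpr ⟨fun z => ?_⟩, htop'⟩
  exact IntermediateField.isAlgebraic_adjoin_iff.mp
    (isAlgebraic_algebraMap (A := q'.ResidueField)
      (⟨z, htop' ▸ trivial⟩ : IntermediateField.adjoin p'.ResidueField (Set.range x')))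

open AlgebraicGeometry CategoryTheory Limits

/-- A purely transcendental extension is geometrically connected. -/
theorem geometricallyConnected_of_adjoin_eq_top {k L : Type u} [Field k] [Field L] [Algebra k L]
    {ι : Type u} (x : ι → L) (hx : AlgebraicIndependent k x)
    (htop : IntermediateField.adjoin k (Set.range x) = ⊤) :
    GeometricallyConnected (Spec.map (CommRingCat.ofHom (algebraMap k L))) := by
  refine ⟨fun K _ y Z fst snd hZ => ?_⟩
  obtain ⟨φ, rfl⟩ := Spec.map_surjective y
  letI : Algebra k K := φ.hom.toAlgebra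
  let A := MvPolynomial ι k
  let e : FractionRing A ≃ₐ[k] L :=
    (hx.aevalEquivField.trans (IntermediateField.equivOfEq htop)).trans IntermediateField.topEquiv
  haveI : IsDomain (L ⊗[k] K) := by
    let B := A ⊗[k] K
    haveI : IsDomain B :=
      MulEquiv.isDomain (MvPolynomial ι K) ((Algebra.TensorProduct.comm k A K).trans
        ((MvPolynomial.algebraTensorAlgEquiv (σ := ι) k K).restrictScalars k)).toMulEquiv
    have hle : Algebra.algebraMapSubmonoid B (nonZeroDivisors A) ≤ nonZeroDivisors B := by
      rintro _ ⟨a, ha, rfl⟩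
      refine mem_nonZeroDivisors_of_ne_zero fun h => nonZeroDivisors.ne_zero ha ?_
      exact Algebra.TensorProduct.includeLeft_injective (S := k) (algebraMap k K).injective
        (show a ⊗ₜ[k] (1 : K) = (0 : A) ⊗ₜ[k] (1 : K) by rw [TensorProduct.zero_tmul]; exact h)
    haveI : IsDomain (Localization (Algebra.algebraMapSubmonoid B (nonZeroDivisors A))) :=
      IsLocalization.isDomain_of_le_nonZeroDivisors (R := B)
        (Localization (Algebra.algebraMapSubmonoid B (nonZeroDivisors A))) hle
    haveI : IsDomain (B ⊗[A] FractionRing A) :=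
      MulEquiv.isDomain (Localization (Algebra.algebraMapSubmonoid B (nonZeroDivisors A)))
        (Localization.tensorLeftAlgEquiv (nonZeroDivisors A) B).toMulEquiv
    haveI : IsDomain (FractionRing A ⊗[A] B) :=
      MulEquiv.isDomain (B ⊗[A] FractionRing A) (Algebra.TensorProduct.comm A (FractionRing A) B).toMulEquiv
    haveI : IsDomain (FractionRing A ⊗[k] K) := MulEquiv.isDomain (FractionRing A ⊗[A] B)
      (Algebra.TensorProduct.cancelBaseChange k A (FractionRing A) (FractionRing A) K).symm.toMulEquiv
    exact MulEquiv.isDomain (FractionRing A ⊗[k] K)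
      (Algebra.TensorProduct.congr e (AlgEquiv.refl (R := k) (A₁ := K))).symm.toMulEquiv
  haveI : IrreducibleSpace ↥(Spec (CommRingCat.of (L ⊗[k] K))) :=
    inferInstanceAs (IrreducibleSpace (PrimeSpectrum (L ⊗[k] K)))
  let i : Spec (CommRingCat.of (L ⊗[k] K)) ⟶ Z :=
    (pullbackSpecIso k L K).inv ≫ (hZ.isoIsPullback _ _ (IsPullback.of_hasPullback _ _)).inv
  exact i.surjective.connectedSpace i.continuous

end Groth.Agent.FlatMor62.FieldFib
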