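import Groth.Agent.FlatMor62.LocalStructRing
import Groth.Agent.FlatMor62.FieldFib
import Groth.Agent.S1356
import Groth.Agent.S2280
import Groth.Agent.S9791
import Groth.Agent.FBase.BC2
import Groth.Agent.SchPoints.Basic
import Groth.Agent.S4621
import Groth.Agent.S0442
import Groth.Agent.Wt.EtNbhd

/-!
# Local structure: finite over smooth with geometrically integral fibres
-/

set_option autoImplicit false
set_option linter.style.haveILetI false

universe u

open AlgebraicGeometry CategoryTheory Limits TensorProduct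

namespace Groth.Agent.FlatMor62.LocalStruct

/-- Trivial residue extensions compose. -/
theorem bijective_map_comp {A B C : Type u} [CommRing A] [CommRing B] [CommRing C] (f : A →+* B) (g : B →+* C)
    {p : Ideal A} {q : Ideal B} {r : Ideal C} [p.IsPrime] [q.IsPrime] [r.IsPrime]
    (hp : p = q.comap f) (hq : q = r.comap g) (hpr : p = r.comap (g.comp f))
    (hf : Function.Bijective (Ideal.ResidueField.map p q f hp))
    (hg : Function.Bijective (Ideal.ResidueField.map q r g hq)) :
    Function.Bijective (Ideal.ResidueField.map p r (g.comp f) hpr) := by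
  have e : Ideal.ResidueField.map p r (g.comp f) hpr =
      (Ideal.ResidueField.map q r g hq).comp (Ideal.ResidueField.map p q f hp) :=
    Ideal.ResidueField.ringHom_ext (RingHom.ext fun a => by simp)
  rw [e]
  exact hg.comp hf

/-- A localisation has trivial residue extensions. -/
theorem bijective_map_of_isLocalization {A B : Type u} [CommRing A] [CommRing B] [Algebra A B] (M : Submonoid A)
    [IsLocalization M B] (p : Ideal A) (q : Ideal B) [p.IsPrime] [q.IsPrime] (h : p = q.comap (algebraMap A B)) :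
    Function.Bijective (Ideal.ResidueField.map p q (algebraMap A B) h) := by
  refine ⟨RingHom.injective _, fun y => ?_⟩
  let ι := Ideal.ResidueField.map p q (algebraMap A B) h
  have hB : ∀ b : B, algebraMap B q.ResidueField b ∈ ι.fieldRange := fun b => by
    obtain ⟨⟨a, m⟩, ha⟩ := IsLocalization.surj M b
    have hm : algebraMap B q.ResidueField (algebraMap A B m) ≠ 0 :=
      ((IsLocalization.map_units B m).map _).ne_zero
    have : algebraMap B q.ResidueField b = ι (algebraMap A _ a) / ι (algebraMap A _ (m : A)) := by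
      simp only [ι, Ideal.ResidueField.map_algebraMap]
      rw [eq_div_iff hm, ← map_mul, ha]
    exact ⟨algebraMap A _ a / algebraMap A _ (m : A), by rw [this, map_div₀]⟩
  obtain ⟨a, b, -, rfl⟩ := IsFractionRing.div_surjective (A := B ⧸ q) y
  obtain ⟨a, rfl⟩ := Ideal.Quotient.mk_surjective a
  obtain ⟨b, rfl⟩ := Ideal.Quotient.mk_surjective b
  rw [Ideal.algebraMap_quotient_residueField_mk, Ideal.algebraMap_quotient_residueField_mk]
  exact div_mem (hB a) (hB b)

set_option backward.isDefEq.respectTransparency.types false in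
set_option backward.isDefEq.respectTransparency false in
/-- Residue fields of points of affine schemes. -/
theorem bijective_residueFieldMap_iff {A B : CommRingCat.{u}} (φ : A ⟶ B) (x : Spec B) (a : Ideal A) [a.IsPrime]
    (h : a = x.asIdeal.comap φ.hom) :
    Function.Bijective ((Spec.map φ).residueFieldMap x) ↔
      Function.Bijective (Ideal.ResidueField.map a x.asIdeal φ.hom h) := by
  have e := Groth.Agent.Wt.EtNbhd.residueFieldMap_SpecMap φ x
  subst h
  have e2 : (Spec.map φ).residueFieldMap x = (Scheme.Spec.residueFieldIso A (Spec.map φ x)).hom ≫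
      CommRingCat.ofHom (Ideal.ResidueField.map (x.asIdeal.comap φ.hom) x.asIdeal φ.hom rfl) ≫
        (Scheme.Spec.residueFieldIso B x).inv := by erw [← e]; simp
  rw [← ConcreteCategory.isIso_iff_bijective, e2]
  erw [isIso_comp_left_iff, isIso_comp_right_iff]
  exact ConcreteCategory.isIso_iff_bijective _

/-- Ring maps out of a residue field are determined on the ring. -/
theorem residueField_ext {A K : Type u} [CommRing A] [CommRing K] {p : Ideal A} [p.IsPrime]
    (f g : p.ResidueField →+* K) (h : ∀ x : A, f (algebraMap A _ x) = g (algebraMap A _ x)) (a : p.ResidueField) :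
    f a = g a :=
  RingHom.congr_fun (Ideal.ResidueField.ringHom_ext (RingHom.ext h)) a

theorem isDomain_stalk_of_smooth {Z : Scheme.{u}} {K : Type u} [Field K] (s : Z ⟶ Spec (CommRingCat.of K))
    [Smooth s] (z : Z) : IsDomain (Z.presheaf.stalk z) :=
  (Groth.Agent.S9791.isNormalScheme_of_smooth_field s z).1

/-- Smooth and geometrically connected is geometrically integral. -/
theorem geometricallyIntegral_of_connected {Y S : Scheme.{u}} (f : Y ⟶ S) [Smooth f] [GeometricallyConnected f] :
    GeometricallyIntegral f := by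
  refine ⟨fun K _ y Z fst snd hZ => ?_⟩
  haveI : Smooth snd := MorphismProperty.of_isPullback hZ inferInstance
  haveI : IsLocallyNoetherian Z := LocallyOfFiniteType.isLocallyNoetherian snd
  haveI : ConnectedSpace Z := GeometricallyConnected.geometrically_connectedSpace (f := f) _ _ _ hZ
  exact (Groth.Agent.S2280.result Z).2.mpr ⟨inferInstance, isDomain_stalk_of_smooth snd⟩

theorem geometricallyReduced_of_smooth {Y S : Scheme.{u}} (f : Y ⟶ S) [Smooth f] : GeometricallyReduced f := by
  refine ⟨fun K _ y Z fst snd hZ => ?_⟩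
  haveI : Smooth snd := MorphismProperty.of_isPullback hZ inferInstance
  haveI : ∀ z, IsDomain (Z.presheaf.stalk z) := isDomain_stalk_of_smooth snd
  exact isReduced_of_isReduced_stalk _

/-- A surjective open piece of a geometrically integral morphism is geometrically integral. -/
theorem geometricallyIntegral_open {V S O S₀ : Scheme.{u}} (fV : V ⟶ S) [GeometricallyIntegral fV]
    (j : O ⟶ V) [IsOpenImmersion j] (i : S₀ ⟶ S) [Mono i] (hY : O ⟶ S₀) [Surjective hY]
    (w : j ≫ fV = hY ≫ i) : GeometricallyIntegral hY := by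
  refine ⟨fun K _ y Z fst snd hZ => ?_⟩
  have hZ' : IsPullback fst snd (j ≫ fV) (y ≫ i) :=
    w ▸ Groth.Agent.FlatMor.GeomConnSpread.isPullback_comp_mono hZ i
  let l : Z ⟶ pullback fV (y ≫ i) := pullback.lift (fst ≫ j) snd (by rw [Category.assoc]; exact hZ'.w)
  have hl : IsPullback fst l j (pullback.fst fV (y ≫ i)) := by
    refine IsPullback.of_bot (v₂₁ := pullback.snd fV (y ≫ i)) (v₂₂ := fV)
      (h₃₁ := y ≫ i) ?_ (pullback.lift_fst _ _ _).symm (IsPullback.of_hasPullback _ _)
    rw [pullback.lift_snd]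
    exact hZ'
  haveI : IsOpenImmersion l := MorphismProperty.of_isPullback hl inferInstance
  haveI : IsIntegral (pullback fV (y ≫ i)) :=
    pullback_of_geometrically GeometricallyIntegral.geometrically_isIntegral K (y ≫ i)
  let t : Spec (CommRingCat.of K) := IsLocalRing.closedPoint K
  obtain ⟨o, ho⟩ := hY.surjective (y t)
  obtain ⟨z, -, -⟩ := Scheme.exists_preimage_of_isPullback hZ o t ho
  haveI : Nonempty Z := ⟨z⟩
  exact isIntegral_of_isOpenImmersion l

/-- The component of a fibre through a point with geometrically connected residue extension. -/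
theorem geometricallyConnected_component {F W : Scheme.{u}} {k : Type u} [Field k]
    (π : F ⟶ Spec (CommRingCat.of k)) (σ : W ⟶ F) [GeometricallyConnected (σ ≫ π)] (w : W)
    (hT : IsOpen (connectedComponent (σ w))) :
    GeometricallyConnected (Scheme.Opens.ι (⟨connectedComponent (σ w), hT⟩ : F.Opens) ≫ π) := by
  let T : F.Opens := ⟨connectedComponent (σ w), hT⟩
  refine ⟨fun K _ y Z fst snd hZ => ?_⟩
  obtain ⟨φ, rfl⟩ := Spec.map_surjective y
  letI : Algebra k K := φ.hom.toAlgebra
  have hc := Groth.Agent.S4621.result (k := k) (K := K) π (σ ≫ π) σ rfl w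
  unfold FBase.bcπ FBase.bc at hc
  let l : Z ⟶ pullback π (Spec.map φ) := pullback.lift (fst ≫ T.ι) snd (by rw [Category.assoc]; exact hZ.w)
  have hl : IsPullback fst l T.ι (pullback.fst π (Spec.map φ)) := by
    refine IsPullback.of_bot (v₂₁ := pullback.snd π (Spec.map φ)) (v₂₂ := π)
      (h₃₁ := Spec.map φ) ?_ (pullback.lift_fst _ _ _).symm (IsPullback.of_hasPullback _ _)
    rw [pullback.lift_snd]
    exact hZ
  haveI : IsOpenImmersion l := MorphismProperty.of_isPullback hl inferInstance
  have hr : Set.range l = pullback.fst π (Spec.map φ) ⁻¹' connectedComponent (σ w) := by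
    ext x
    refine ⟨?_, fun hx => ?_⟩
    · rintro ⟨z, rfl⟩
      show pullback.fst π (Spec.map φ) (l z) ∈ T
      rw [← Scheme.Hom.comp_apply, pullback.lift_fst]
      exact (fst z).2
    · obtain ⟨z, -, hz⟩ := Scheme.exists_preimage_of_isPullback hl ⟨_, hx⟩ x rfl
      exact ⟨z, hz⟩
  have hc' : _root_.IsConnected (Set.range l) := hr ▸ hc
  haveI := Subtype.connectedSpace hc'
  exact l.isEmbedding.toHomeomorph.symm.surjective.connectedSpace l.isEmbedding.toHomeomorph.symm.continuous

/-- Local structure data in ring form. -/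
structure Data (R S : Type u) [CommRing R] [CommRing S] [Algebra R S] (p : Ideal R) [p.IsPrime]
    (q : Ideal S) [q.IsPrime] (n : ℕ) : Type (u + 1) where
  R' : Type u
  D : Type u
  C : Type u
  [cR' : CommRing R'] [cD : CommRing D] [cC : CommRing C]
  [aRR' : Algebra R R'] [aR'D : Algebra R' D] [aDC : Algebra D C] [aSC : Algebra S C]
  comm : ((algebraMap D C).comp (algebraMap R' D)).comp (algebraMap R R') =
    (algebraMap S C).comp (algebraMap R S)
  p' : Ideal R'
  y : Ideal D
  z : Ideal C
  [hp' : p'.IsPrime] [hy : y.IsPrime] [hz : z.IsPrime]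
  [yOver : y.LiesOver p']
  zOverY : z.comap (algebraMap D C) = y
  etaleR : FlatCA.IsEtaleNhd R R' p p'
  etaleS : FlatCA.IsEtaleNhd S C q z
  finite : Module.Finite D C
  uniq : ∀ z₁ : Ideal C, z₁.IsPrime → z₁.comap (algebraMap D C) = y → z₁ = z
  smooth : FlatCA.SmoothRelDim n R' D
  geomInt : FlatCA.GeomIntegralFibres R' D
  pureTrans : FlatCA.PurelyTranscendental p' y

set_option maxHeartbeats 2000000 in
theorem exists_data (R S : Type u) [CommRing R] [CommRing S] [Algebra R S] [Algebra.FiniteType R S]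
    (p : Ideal R) [p.IsPrime] (q : Ideal S) [q.IsPrime] [q.LiesOver p]
    (Q : PrimeSpectrum (p.Fiber S))
    (hQ : Q.asIdeal.comap (Algebra.TensorProduct.includeRight.toRingHom) = q) (n : ℕ)
    (hdim : FlatMor.localDim (PrimeSpectrum (p.Fiber S)) Q ≤ (n : WithBot ℕ∞)) :
    Nonempty (Data R S p q n) := by
  obtain ⟨g, hgq, φ, hφft, hφqf, P, hPp, hPo, hPT, hPQ⟩ :=
    LocalStructRing.exists_quasiFinite_away R S p q Q hQ n hdim
  haveI := hPp
  haveI := hPo
  let A := MvPolynomial (Fin n) R
  let Sg := Localization.Away g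
  letI : Algebra A Sg := φ.toRingHom.toAlgebra
  haveI : IsScalarTower R A Sg := IsScalarTower.of_algebraMap_eq fun x => (φ.commutes x).symm
  haveI : Algebra.FiniteType A Sg := hφft
  haveI : Algebra.QuasiFinite A Sg := hφqf
  let q₁ : Ideal Sg := q.map (algebraMap S Sg)
  have hdisj : Disjoint (Submonoid.powers g : Set S) q := by
    rwa [Ideal.disjoint_powers_iff_notMem_of_isPrime]
  haveI : q₁.IsPrime := IsLocalization.isPrime_of_isPrime_disjoint (Submonoid.powers g) Sg q ‹_› hdisj
  have hq₁ : q₁.comap (algebraMap S Sg) = q :=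
    IsLocalization.under_map_of_isPrime_disjoint (Submonoid.powers g) Sg ‹_› hdisj
  haveI : q₁.LiesOver P := ⟨(hPQ q₁ inferInstance hq₁).symm⟩
  obtain ⟨D₂, _, _, _, P₂, _, _, e, -, P', hP'prime, _, hP'q, heP', hbij, hfin, huniq⟩ :=
    Algebra.exists_etale_isIdempotentElem_forall_liesOver_eq (R := A) (S := Sg) P q₁
  let T := D₂ ⊗[A] Sg
  let C₂ := Localization.Away e
  let z₂ : Ideal C₂ := P'.map (algebraMap T C₂)
  have hdisj₂ : Disjoint (Submonoid.powers e : Set T) P' := by
    rwa [Ideal.disjoint_powers_iff_notMem_of_isPrime]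
  haveI : z₂.IsPrime := IsLocalization.isPrime_of_isPrime_disjoint (Submonoid.powers e) C₂ P' ‹_› hdisj₂
  have hz₂ : z₂.comap (algebraMap T C₂) = P' :=
    IsLocalization.under_map_of_isPrime_disjoint (Submonoid.powers e) C₂ ‹_› hdisj₂
  have hP'P₂ : P'.comap (algebraMap D₂ T) = P₂ := (P'.over_def P₂).symm
  haveI : z₂.LiesOver P₂ := ⟨by
    rw [Ideal.under_def, IsScalarTower.algebraMap_eq D₂ T C₂, ← Ideal.comap_comap, hz₂, hP'P₂]⟩
  -- the smooth scheme over the base
  letI : Algebra R D₂ := ((algebraMap A D₂).comp (algebraMap R A)).toAlgebra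
  haveI : IsScalarTower R A D₂ := IsScalarTower.of_algebraMap_eq fun _ => rfl
  haveI : P₂.LiesOver p := Ideal.LiesOver.trans P₂ P p
  let h₂ : Spec (CommRingCat.of D₂) ⟶ Spec (CommRingCat.of R) :=
    Spec.map (CommRingCat.ofHom (algebraMap R D₂))
  haveI hsn : SmoothOfRelativeDimension n h₂ := by
    haveI : SmoothOfRelativeDimension n (Spec.map (CommRingCat.ofHom (algebraMap R A))) :=
      HasRingHomProperty.Spec_iff.mpr
        (RingHom.locally_of RingHom.isStandardSmoothOfRelativeDimension_respectsIso _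
          ((RingHom.isStandardSmoothOfRelativeDimension_algebraMap n).mpr
            (Groth.Agent.S0442.isStandardSmooth_mvPolynomial n R)))
    haveI : Etale (Spec.map (CommRingCat.ofHom (algebraMap A D₂))) :=
      HasRingHomProperty.Spec_iff.mpr (RingHom.etale_algebraMap.mpr inferInstance)
    have h' : SmoothOfRelativeDimension (0 + n) (Spec.map (CommRingCat.ofHom (algebraMap A D₂)) ≫
        Spec.map (CommRingCat.ofHom (algebraMap R A))) := inferInstance
    rw [← Spec.map_comp, ← CommRingCat.ofHom_comp, Nat.zero_add] at h'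
    exact h'
  haveI : Smooth h₂ := SmoothOfRelativeDimension.smooth n h₂
  haveI := geometricallyReduced_of_smooth h₂
  let s : Spec (CommRingCat.of R) := ⟨p, inferInstance⟩
  let u₂ : Spec (CommRingCat.of D₂) := ⟨P₂, inferInstance⟩
  have hu₂ : h₂ u₂ = s := PrimeSpectrum.ext (P₂.over_def p).symm
  -- the geometrically connected component
  let γ : p.ResidueField →ₐ[R] P₂.ResidueField :=
    Ideal.ResidueField.mapₐ p P₂ (Algebra.ofId R D₂) (P₂.over_def p)
  have hPT₂ : FlatCA.PurelyTranscendental p P₂ := by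
    refine FieldFib.purelyTranscendental_of_equiv (RingHom.id _) Function.bijective_id
      (Ideal.ResidueField.mapₐ P P₂ (Algebra.ofId A D₂) (P₂.over_def P)).toRingHom hbij (fun a => ?_) hPT
    refine residueField_ext
      (((Ideal.ResidueField.mapₐ P P₂ (Algebra.ofId A D₂) (P₂.over_def P)).restrictScalars R).comp
        (Ideal.ResidueField.mapₐ p P (Algebra.ofId R A) (P.over_def p))).toRingHom γ.toRingHom (fun x => ?_) a
    exact ((((Ideal.ResidueField.mapₐ P P₂ (Algebra.ofId A D₂) (P₂.over_def P)).restrictScalars R).comp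
        (Ideal.ResidueField.mapₐ p P (Algebra.ofId R A) (P.over_def p))).commutes x).trans (γ.commutes x).symm
  let ιp : Spec (CommRingCat.of p.ResidueField) ⟶ Spec ((Spec (CommRingCat.of R)).residueField s) :=
    Spec.map (Scheme.Spec.residueFieldIso (CommRingCat.of R) s).hom
  haveI : MorphismProperty.RespectsIso @GeometricallyConnected :=
    MorphismProperty.IsStableUnderBaseChange.respectsIso
  haveI hgc : GeometricallyConnected (Spec.map (CommRingCat.ofHom γ.toRingHom) ≫ ιp) := by
    rw [MorphismProperty.cancel_right_of_respectsIso @GeometricallyConnected]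
    unfold FlatCA.PurelyTranscendental at hPT₂
    letI : Algebra p.ResidueField P₂.ResidueField := γ.toRingHom.toAlgebra
    obtain ⟨ι, x, hx, htop⟩ := hPT₂
    exact FieldFib.geometricallyConnected_of_adjoin_eq_top x hx.1 htop
  let σ : Spec (CommRingCat.of P₂.ResidueField) ⟶ h₂.fiber s :=
    pullback.lift (Spec.map (CommRingCat.ofHom (algebraMap D₂ P₂.ResidueField)))
      (Spec.map (CommRingCat.ofHom γ.toRingHom) ≫ ιp) (by
        rw [Category.assoc, ← Scheme.Spec.map_residueFieldIso_inv_eq_fromSpecResidueField]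
        simp only [ιp, h₂, ← Spec.map_comp]
        congr 1
        simp only [Category.assoc, Iso.inv_hom_id_assoc]
        ext x
        exact ((IsScalarTower.algebraMap_apply R D₂ P₂.ResidueField x).symm.trans (γ.commutes x).symm))
  have hσ : σ ≫ h₂.fiberToSpecResidueField s = Spec.map (CommRingCat.ofHom γ.toRingHom) ≫ ιp :=
    pullback.lift_snd _ _ _
  haveI hgσ : GeometricallyConnected (σ ≫ h₂.fiberToSpecResidueField s) := by rw [hσ]; exact hgc
  let pt : Spec (CommRingCat.of P₂.ResidueField) := IsLocalRing.closedPoint P₂.ResidueField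
  have hσpt : h₂.fiberι s (σ pt) = u₂ := by
    rw [← Scheme.Hom.comp_apply, show σ ≫ h₂.fiberι s = _ from pullback.lift_fst _ _ _]
    refine PrimeSpectrum.ext ?_
    show (pt.asIdeal.comap (algebraMap D₂ P₂.ResidueField)) = P₂
    rw [show pt.asIdeal = ⊥ from (IsSimpleOrder.eq_bot_or_eq_top pt.asIdeal).resolve_right pt.isPrime.ne_top,
      ← RingHom.ker_eq_comap_bot, Ideal.ker_algebraMap_residueField]
  haveI : IsNoetherian (h₂.fiber s) := by
    haveI : IsLocallyNoetherian (h₂.fiber s) :=
      LocallyOfFiniteType.isLocallyNoetherian (h₂.fiberToSpecResidueField s)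
    exact {}
  have hTo : IsOpen (connectedComponent (σ pt)) := Groth.Agent.SchPoints.isOpen_connectedComponent_of_noetherian _
  obtain ⟨S', e', s', hS'aff, ⟨he't, he's, he'b⟩, V, -, hVc, hVT⟩ := Groth.Agent.S1356.result h₂ s _
    (@geometricallyConnected_component _ _ _ _ (h₂.fiberToSpecResidueField s) σ hgσ pt hTo)
  haveI := hS'aff
  haveI := he't
  obtain ⟨y₁, ⟨hy₁u, hy₁s, hy₁b⟩, -⟩ :=
    Groth.Agent.Wt.EtNbhd.existsUnique_lift h₂ e' u₂ s' (hu₂.trans he's.symm) he'b
  have hy₁V : y₁ ∈ V := (hVT y₁ hy₁s).mpr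
    ⟨σ pt, show σ pt ∈ connectedComponent (σ pt) from mem_connectedComponent, hσpt.trans hy₁u.symm⟩
  let P₃ := pullback h₂ e'
  haveI : IsAffine P₃ := inferInstance
  obtain ⟨_, ⟨O₁, hO₁, rfl⟩, hyO₁, hO₁V⟩ :=
    P₃.isBasis_affineOpens.exists_subset_of_mem_open hy₁V V.2
  replace hO₁ : IsAffineOpen O₁ := hO₁
  let sn : P₃ ⟶ S' := pullback.snd h₂ e'
  haveI : Smooth sn := inferInstance
  haveI : UniversallyOpen sn := UniversallyOpen.of_flat sn
  obtain ⟨_, ⟨S₀, hS₀, rfl⟩, hsS₀, hS₀r⟩ := S'.isBasis_affineOpens.exists_subset_of_mem_open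
    (show s' ∈ sn '' (O₁ : Set P₃) from ⟨y₁, hyO₁, hy₁s⟩) (sn.isOpenMap _ O₁.2)
  replace hS₀ : IsAffineOpen S₀ := hS₀
  let O : P₃.Opens := O₁ ⊓ sn ⁻¹ᵁ S₀
  have hO : IsAffineOpen O := hO₁.inf (hS₀.preimage sn)
  have hOS : O ≤ sn ⁻¹ᵁ S₀ := inf_le_right
  have hyO : y₁ ∈ O := ⟨hyO₁, show sn y₁ ∈ S₀ by rw [show sn y₁ = s' from hy₁s]; exact hsS₀⟩
  let R' := Γ(S', S₀)
  let D := Γ(P₃, O)
  let ηR : CommRingCat.of R ⟶ R' := Spec.preimage (hS₀.fromSpec ≫ e')
  let ηD : CommRingCat.of D₂ ⟶ D := Spec.preimage (hO.fromSpec ≫ pullback.fst h₂ e')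
  have hηR : Spec.map ηR = hS₀.fromSpec ≫ e' := Spec.map_preimage _
  have hηD : Spec.map ηD = hO.fromSpec ≫ pullback.fst h₂ e' := Spec.map_preimage _
  letI : Algebra R R' := ηR.hom.toAlgebra
  letI : Algebra R' D := (sn.appLE S₀ O hOS).hom.toAlgebra
  letI : Algebra D₂ D := ηD.hom.toAlgebra
  have hsq : Spec.map (sn.appLE S₀ O hOS) ≫ hS₀.fromSpec = hO.fromSpec ≫ sn :=
    IsAffineOpen.SpecMap_appLE_fromSpec sn hS₀ hO hOS
  have hcommR : (algebraMap R' D).comp (algebraMap R R') = (algebraMap D₂ D).comp (algebraMap R D₂) := by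
    have : ηR ≫ sn.appLE S₀ O hOS = CommRingCat.ofHom (algebraMap R D₂) ≫ ηD := Spec.map_injective (by
      rw [Spec.map_comp, Spec.map_comp, hηR, hηD, ← Category.assoc, hsq, Category.assoc, Category.assoc,
        ← pullback.condition])
    exact congrArg CommRingCat.Hom.hom this
  let C := D ⊗[D₂] C₂
  letI : Algebra S C := ((Algebra.TensorProduct.includeRight : C₂ →ₐ[D₂] C).toRingHom.comp
    ((algebraMap T C₂).comp ((Algebra.TensorProduct.includeRight : Sg →ₐ[A] T).toRingHom.comp
      (algebraMap S Sg)))).toAlgebra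
  let sR : Spec R' := hS₀.primeIdealOf ⟨s', hsS₀⟩
  let yD : Spec D := hO.primeIdealOf ⟨y₁, hyO⟩
  have hsR : hS₀.fromSpec sR = s' := hS₀.fromSpec_primeIdealOf ⟨s', hsS₀⟩
  have hyD : hO.fromSpec yD = y₁ := hO.fromSpec_primeIdealOf ⟨y₁, hyO⟩
  have hyDu : Spec.map ηD yD = u₂ := by rw [hηD, Scheme.Hom.comp_apply, hyD]; exact hy₁u
  have hsRs : Spec.map ηR sR = s := by rw [hηR, Scheme.Hom.comp_apply, hsR]; exact he's
  have hyDsR : Spec.map (sn.appLE S₀ O hOS) yD = sR := hS₀.fromSpec.isOpenEmbedding.injective (by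
    rw [← Scheme.Hom.comp_apply, hsq, Scheme.Hom.comp_apply, hyD, hsR]; exact hy₁s)
  haveI : sR.asIdeal.LiesOver p := ⟨(congrArg PrimeSpectrum.asIdeal hsRs).symm⟩
  haveI : yD.asIdeal.LiesOver P₂ := ⟨(congrArg PrimeSpectrum.asIdeal hyDu).symm⟩
  haveI hyo : yD.asIdeal.LiesOver sR.asIdeal := ⟨(congrArg PrimeSpectrum.asIdeal hyDsR).symm⟩
  haveI hprime : ∀ {B : CommRingCat.{u}} (x : Spec B), x.asIdeal.IsPrime := fun x => x.isPrime
  have hcast : ∀ {A B : CommRingCat.{u}} (η : A ⟶ B) (x : Spec B) (a : Ideal A) [a.IsPrime]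
      (h : a = x.asIdeal.comap η.hom), Function.Bijective ((Spec.map η).residueFieldMap x) →
      Function.Bijective (Ideal.ResidueField.map a x.asIdeal η.hom h) := by
    intro A B η x a _ h hb
    exact (bijective_residueFieldMap_iff η x a h).mp hb
  have hbR : Function.Bijective (Ideal.ResidueField.mapₐ p sR.asIdeal (Algebra.ofId R R')
      (sR.asIdeal.over_def p)) := by
    refine hcast ηR sR p (sR.asIdeal.over_def p) ?_
    rw [hηR]
    refine Groth.Agent.Wt.EtNbhd.residueFieldMap_bijective_comp _ _ _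
      (ConcreteCategory.bijective_of_isIso _) ?_
    rw [hsR]; exact he'b
  have hbD : Function.Bijective (Ideal.ResidueField.mapₐ P₂ yD.asIdeal (Algebra.ofId D₂ D)
      (yD.asIdeal.over_def P₂)) := by
    refine hcast ηD yD P₂ (yD.asIdeal.over_def P₂) ?_
    rw [hηD]
    refine Groth.Agent.Wt.EtNbhd.residueFieldMap_bijective_comp _ _ _
      (ConcreteCategory.bijective_of_isIso _) ?_
    rw [hyD]; exact hy₁b
  haveI hetR : Algebra.Etale R R' := by
    have : Etale (Spec.map ηR) := by rw [hηR]; infer_instance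
    exact RingHom.etale_algebraMap.mp (HasRingHomProperty.Spec_iff.mp this)
  haveI hetD : Algebra.Etale D₂ D := by
    have : Etale (Spec.map ηD) := by rw [hηD]; infer_instance
    exact RingHom.etale_algebraMap.mp (HasRingHomProperty.Spec_iff.mp this)
  -- the point of the finite piece
  obtain ⟨z, hzp, hzy, hzz₂, hzb, hzu⟩ := FieldFib.existsUnique_prime P₂ yD.asIdeal z₂ hbD
  haveI := hzp
  let i₁ : Sg →+* T := (Algebra.TensorProduct.includeRight : Sg →ₐ[A] T).toRingHom
  let i₂ : C₂ →+* C := (Algebra.TensorProduct.includeRight : C₂ →ₐ[D₂] C).toRingHom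
  obtain ⟨Qu, hQup, hQuP, hQuq, hQub, hQuu⟩ := FieldFib.existsUnique_prime (S := Sg) P P₂ q₁ hbij
  have hP'Qu : P' = Qu := hQuu P' inferInstance hP'P₂ hP'q
  have h1 : q₁ = z₂.comap ((algebraMap T C₂).comp i₁) := by rw [← Ideal.comap_comap, hz₂]; exact hP'q.symm
  have h2 : q = z₂.comap (((algebraMap T C₂).comp i₁).comp (algebraMap S Sg)) := by
    rw [← Ideal.comap_comap, ← h1, hq₁]
  have hSC : q = z.comap (algebraMap S C) := by
    show q = z.comap (i₂.comp (((algebraMap T C₂).comp i₁).comp (algebraMap S Sg)))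
    rw [← Ideal.comap_comap, show z.comap i₂ = z₂ from hzz₂, ← h2]
  haveI : z.LiesOver q := ⟨hSC⟩
  have hetS : FlatCA.IsEtaleNhd S C q z := by
    refine ⟨?_, ⟨hSC⟩, ?_⟩
    · refine RingHom.etale_algebraMap.mp ?_
      have he1 : i₁.Etale := by
        letI : Algebra Sg T := Algebra.TensorProduct.rightAlgebra
        haveI : Algebra.Etale Sg T := Algebra.Etale.of_equiv (A := Sg ⊗[A] D₂)
          (AlgEquiv.ofRingEquiv (f := (Algebra.TensorProduct.comm A Sg D₂).toRingEquiv) fun x => rfl)
        exact RingHom.etale_algebraMap.mpr this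
      have he2 : i₂.Etale := by
        letI : Algebra C₂ C := Algebra.TensorProduct.rightAlgebra
        haveI : Algebra.Etale C₂ C := Algebra.Etale.of_equiv (A := C₂ ⊗[D₂] D)
          (AlgEquiv.ofRingEquiv (f := (Algebra.TensorProduct.comm D₂ C₂ D).toRingEquiv) fun x => rfl)
        exact RingHom.etale_algebraMap.mpr this
      haveI : Algebra.Etale S Sg := Algebra.Etale.of_isLocalizationAway g
      haveI : Algebra.Etale T C₂ := Algebra.Etale.of_isLocalizationAway e
      exact RingHom.Etale.stableUnderComposition _ i₂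
        (RingHom.Etale.stableUnderComposition (algebraMap S Sg) _ (RingHom.etale_algebraMap.mpr ‹Algebra.Etale S Sg›)
          (RingHom.Etale.stableUnderComposition i₁ _ he1 (RingHom.etale_algebraMap.mpr ‹Algebra.Etale T C₂›))) he2
    · show Function.Bijective (Ideal.ResidueField.map q z (i₂.comp (((algebraMap T C₂).comp i₁).comp (algebraMap S Sg))) hSC)
      refine bijective_map_comp _ _ h2 hzz₂.symm hSC (bijective_map_comp _ _ hq₁.symm h1 h2
        (bijective_map_of_isLocalization (Submonoid.powers g) q q₁ hq₁.symm) ?_) (hzb hzz₂.symm)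
      refine bijective_map_comp _ _ (hP'q.symm) hz₂.symm h1 ?_
        (bijective_map_of_isLocalization (Submonoid.powers e) P' z₂ hz₂.symm)
      subst hP'Qu
      exact hQub hP'q.symm
  have hcomm : ((algebraMap D C).comp (algebraMap R' D)).comp (algebraMap R R') =
      (algebraMap S C).comp (algebraMap R S) := by
    rw [RingHom.comp_assoc, hcommR]
    ext x
    show algebraMap D C (algebraMap D₂ D (algebraMap R D₂ x)) =
      i₂ (algebraMap T C₂ (i₁ (algebraMap S Sg (algebraMap R S x))))
    rw [← IsScalarTower.algebraMap_apply R S Sg, IsScalarTower.algebraMap_apply R A Sg,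
      show i₁ (algebraMap A Sg (algebraMap R A x)) = algebraMap D₂ T (algebraMap R D₂ x) from
        ((Algebra.TensorProduct.includeRight : Sg →ₐ[A] T).commutes _).trans
          (IsScalarTower.algebraMap_apply A D₂ T _),
      ← IsScalarTower.algebraMap_apply D₂ T C₂, ← IsScalarTower.algebraMap_apply D₂ D C]
    exact ((Algebra.TensorProduct.includeRight : C₂ →ₐ[D₂] C).commutes _).symm
  have hsmooth : FlatCA.SmoothRelDim n R' D := by
    show SmoothOfRelativeDimension n (Spec.map (sn.appLE S₀ O hOS))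
    haveI : MorphismProperty.IsStableUnderBaseChange (@SmoothOfRelativeDimension.{u} n) :=
      smoothOfRelativeDimension_isStableUnderBaseChange n
    haveI : SmoothOfRelativeDimension n sn :=
      (smoothOfRelativeDimension_isStableUnderBaseChange n).of_isPullback (IsPullback.of_hasPullback h₂ e') hsn
    have h' : SmoothOfRelativeDimension (0 + n) (hO.fromSpec ≫ sn) := inferInstance
    rw [Nat.zero_add] at h'
    exact MorphismProperty.of_isPullback
      (IsPullback.of_horiz_isIso_mono ⟨by rw [Category.id_comp, hsq]⟩ :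
        IsPullback (𝟙 _) (Spec.map (sn.appLE S₀ O hOS)) (hO.fromSpec ≫ sn) hS₀.fromSpec) h'
  have hgi : FlatCA.GeomIntegralFibres R' D := by
    show GeometricallyIntegral (Spec.map (sn.appLE S₀ O hOS))
    haveI := hVc
    haveI : Smooth (V.ι ≫ sn) := inferInstance
    haveI := geometricallyIntegral_of_connected (V.ι ≫ sn)
    have hrange : Set.range hO.fromSpec ⊆ Set.range V.ι := by
      rw [hO.range_fromSpec, Scheme.Opens.range_ι]; exact fun x hx => hO₁V hx.1
    haveI : Surjective (Spec.map (sn.appLE S₀ O hOS)) := ⟨fun r => by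
      have hrS : hS₀.fromSpec r ∈ (S₀ : Set S') := by
        rw [← hS₀.range_fromSpec]; exact Set.mem_range_self r
      obtain ⟨o, ho, hor⟩ := hS₀r hrS
      obtain ⟨d, hd⟩ : o ∈ Set.range hO.fromSpec := by
        rw [hO.range_fromSpec]
        exact ⟨ho, show sn o ∈ S₀ by rw [hor]; exact hrS⟩
      refine ⟨d, hS₀.fromSpec.isOpenEmbedding.injective ?_⟩
      rw [← Scheme.Hom.comp_apply, hsq, Scheme.Hom.comp_apply, hd, hor]⟩
    haveI : IsOpenImmersion (IsOpenImmersion.lift V.ι hO.fromSpec hrange) := inferInstance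
    exact geometricallyIntegral_open (V.ι ≫ sn) (IsOpenImmersion.lift V.ι hO.fromSpec hrange) hS₀.fromSpec _
      (by rw [IsOpenImmersion.lift_fac_assoc, hsq])
  refine ⟨{ R' := R', D := D, C := C, comm := hcomm, p' := sR.asIdeal, y := yD.asIdeal, z := z,
            zOverY := hzy, etaleR := ⟨hetR, ⟨sR.asIdeal.over_def p⟩, hbR⟩, etaleS := hetS,
            finite := ?_, uniq := fun z₁ hz₁ hz₁y => ?_, smooth := hsmooth, geomInt := hgi,
            pureTrans := ?_ }⟩
  · haveI : Module.Finite D₂ C₂ := hfin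
    infer_instance
  · refine hzu z₁ hz₁ hz₁y ?_
    haveI := hz₁
    have hov : (z₁.comap i₂).comap (algebraMap D₂ C₂) = P₂ := by
      rw [Ideal.comap_comap, show i₂.comp (algebraMap D₂ C₂) = (algebraMap D C).comp (algebraMap D₂ D) from
        RingHom.ext fun x => ((Algebra.TensorProduct.includeRight : C₂ →ₐ[D₂] C).commutes x).trans
          (IsScalarTower.algebraMap_apply D₂ D C x), ← Ideal.comap_comap, hz₁y]
      exact (yD.asIdeal.over_def P₂).symm
    have hT : (z₁.comap i₂).comap (algebraMap T C₂) = P' := by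
      refine huniq _ inferInstance ⟨?_⟩ ?_
      · rw [Ideal.under_def, Ideal.comap_comap, ← IsScalarTower.algebraMap_eq, hov]
      · intro h
        exact (Ideal.comap_isPrime i₂ z₁).ne_top
          (Ideal.eq_top_of_isUnit_mem _ h (IsLocalization.Away.algebraMap_isUnit e))
    show z₁.comap i₂ = z₂
    rw [← IsLocalization.map_under (Submonoid.powers e) C₂ (z₁.comap i₂), Ideal.under_def, hT]
  · letI : Algebra R D := ((algebraMap R' D).comp (algebraMap R R')).toAlgebra
    haveI : IsScalarTower R R' D := IsScalarTower.of_algebraMap_eq fun _ => rfl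
    haveI : IsScalarTower R D₂ D := IsScalarTower.of_algebraMap_eq fun x => RingHom.congr_fun hcommR x
    refine FieldFib.purelyTranscendental_of_equiv
      (Ideal.ResidueField.mapₐ p sR.asIdeal (Algebra.ofId R R') (sR.asIdeal.over_def p)).toRingHom hbR
      (Ideal.ResidueField.mapₐ P₂ yD.asIdeal (Algebra.ofId D₂ D) (yD.asIdeal.over_def P₂)).toRingHom hbD
      (fun a => ?_) hPT₂
    refine residueField_ext
      (((Ideal.ResidueField.mapₐ P₂ yD.asIdeal (Algebra.ofId D₂ D) (yD.asIdeal.over_def P₂)).restrictScalars R).comp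
        γ).toRingHom
      (((Ideal.ResidueField.mapₐ sR.asIdeal yD.asIdeal (Algebra.ofId R' D) hyo.over).restrictScalars R).comp
        (Ideal.ResidueField.mapₐ p sR.asIdeal (Algebra.ofId R R') (sR.asIdeal.over_def p))).toRingHom
      (fun x => ?_) a
    exact ((((Ideal.ResidueField.mapₐ P₂ yD.asIdeal (Algebra.ofId D₂ D) (yD.asIdeal.over_def P₂)).restrictScalars R).comp
        γ).commutes x).trans
      ((((Ideal.ResidueField.mapₐ sR.asIdeal yD.asIdeal (Algebra.ofId R' D) hyo.over).restrictScalars R).comp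
        (Ideal.ResidueField.mapₐ p sR.asIdeal (Algebra.ofId R R') (sR.asIdeal.over_def p))).commutes x).symm

end Groth.Agent.FlatMor62.LocalStruct
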