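import Groth.Agent.FlatMor62.DevOps2
import Groth.Agent.FlatMor62.Component
import Groth.Agent.FlatMor62.EtaleLiftBase
import Groth.Agent.S1249

/-!
# Existence of a dévissage chain after étale localisation
-/

set_option autoImplicit false
set_option linter.style.haveILetI false
set_option linter.style.longLine false

universe u

open TensorProduct

namespace Groth.Agent.FlatMor62.DevExist

open Groth.Agent.FlatMor62.DevChain Groth.Agent.S12242

attribute [local instance] Algebra.TensorProduct.rightAlgebra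

/-- Composition of elementary étale ring maps. -/
theorem isEtaleNhd_comp {A B C : Type u} [CommRing A] [CommRing B] [CommRing C] [Algebra A B] [Algebra B C]
    [Algebra A C] [IsScalarTower A B C] (a : Ideal A) (b : Ideal B) (c : Ideal C) [a.IsPrime] [b.IsPrime] [c.IsPrime]
    (h₁ : FlatCA.IsEtaleNhd A B a b) (h₂ : FlatCA.IsEtaleNhd B C b c) : FlatCA.IsEtaleNhd A C a c := by
  obtain ⟨e₁, o₁, b₁⟩ := h₁
  obtain ⟨e₂, o₂, b₂⟩ := h₂
  haveI := e₁
  haveI := e₂
  haveI := o₁
  haveI := o₂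
  haveI o₃ : c.LiesOver a := Ideal.LiesOver.trans c b a
  refine ⟨Algebra.Etale.comp A B C, o₃, ?_⟩
  let g₁ := Ideal.ResidueField.mapₐ a b (Algebra.ofId A B) o₁.over
  let g₂ := Ideal.ResidueField.mapₐ b c (Algebra.ofId B C) o₂.over
  let g₃ := Ideal.ResidueField.mapₐ a c (Algebra.ofId A C) o₃.over
  have e : g₃.toRingHom = ((g₂.restrictScalars A).comp g₁).toRingHom :=
    Ideal.ResidueField.ringHom_ext (RingHom.ext fun x => (g₃.commutes x).trans
      (((g₂.restrictScalars A).comp g₁).commutes x).symm)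
  have e' : ⇑g₃ = ⇑g₂ ∘ ⇑g₁ := funext fun x => RingHom.congr_fun e x
  show Function.Bijective g₃
  rw [e']
  exact b₂.comp b₁

theorem isEtaleNhd_away {A B : Type u} [CommRing A] [CommRing B] [Algebra A B] (t : A) [IsLocalization.Away t B]
    (a : Ideal A) (b : Ideal B) [a.IsPrime] [b.IsPrime] (h : b.comap (algebraMap A B) = a) :
    FlatCA.IsEtaleNhd A B a b :=
  ⟨Algebra.Etale.of_isLocalizationAway t, ⟨h.symm⟩,
    LocalStruct.bijective_map_of_isLocalization (Submonoid.powers t) a b h.symm⟩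

/-- A map from a finite free module bijective on the fibre at `P`. -/
theorem exists_alpha {D G : Type u} [CommRing D] [AddCommGroup G] [Module D G] [Module.Finite D G]
    (P : Ideal D) [P.IsPrime] :
    ∃ (r : ℕ) (α : (Fin r → D) →ₗ[D] G), Function.Bijective (α.baseChange P.ResidueField) := by
  classical
  let V := P.ResidueField ⊗[D] G
  let m : G → V := fun g => (1 : P.ResidueField) ⊗ₜ[D] g
  obtain ⟨b, hb, hspan, hli⟩ := exists_linearIndependent P.ResidueField (Set.range m)
  have htop : Submodule.span P.ResidueField (Set.range m) = ⊤ := by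
    refine eq_top_iff.mpr fun x _ => ?_
    induction x using TensorProduct.induction_on with
    | zero => exact zero_mem _
    | add a c ha hc => exact add_mem (ha trivial) (hc trivial)
    | tmul a g =>
      rw [show a ⊗ₜ[D] g = a • m g by simp only [m]; rw [TensorProduct.smul_tmul', smul_eq_mul, mul_one]]
      exact Submodule.smul_mem _ _ (Submodule.subset_span ⟨g, rfl⟩)
  haveI : Fintype b := (LinearIndependent.setFinite hli).fintype
  let e := (Fintype.equivFin b).symm
  choose g hg using fun i : Fin (Fintype.card b) => hb (e i).2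
  refine ⟨Fintype.card b, Fintype.linearCombination D g, ?_⟩
  let bb : Module.Basis b P.ResidueField V := Module.Basis.mk hli (by rw [Subtype.range_coe, hspan, htop])
  let ee := (Pi.basisFun D (Fin (Fintype.card b))).baseChange P.ResidueField
  have : (Fintype.linearCombination D g).baseChange P.ResidueField = (ee.equiv bb e).toLinearMap := by
    refine ee.ext fun i => ?_
    rw [LinearEquiv.coe_coe, Module.Basis.equiv_apply]
    simp only [ee, bb, Module.Basis.baseChange_apply, Module.Basis.mk_apply, LinearMap.baseChange_tmul,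
      Pi.basisFun_apply, Fintype.linearCombination_apply_single, one_smul]
    exact hg i
  rw [this]
  exact (ee.equiv bb e).bijective

theorem notMem_support_coker {D G : Type u} [CommRing D] [AddCommGroup G] [Module D G] [Module.Finite D G]
    (P : Ideal D) [hP : P.IsPrime] {r : ℕ} (α : (Fin r → D) →ₗ[D] G)
    (h : Function.Surjective (α.baseChange P.ResidueField)) :
    (⟨P, hP⟩ : PrimeSpectrum D) ∉ Module.support D (G ⧸ LinearMap.range α) := by
  rw [Module.mem_support_iff_nontrivial_residueField_tensorProduct, not_nontrivial_iff_subsingleton]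
  refine subsingleton_of_forall_eq 0 fun x => ?_
  obtain ⟨w, rfl⟩ := LinearMap.lTensor_surjective P.ResidueField (Submodule.mkQ_surjective (LinearMap.range α)) x
  obtain ⟨v, rfl⟩ := h w
  rw [show α.baseChange P.ResidueField v = α.lTensor P.ResidueField v from rfl, ← LinearMap.lTensor_comp_apply,
    show (LinearMap.range α).mkQ ∘ₗ α = 0 from LinearMap.ext fun y =>
      (Submodule.Quotient.mk_eq_zero _).mpr ⟨y, rfl⟩, LinearMap.lTensor_zero]
  rfl

/-- A chain in a support missing the generic point extends by it. -/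
theorem length_add_one_le {R D : Type u} [CommRing R] [CommRing D] [Algebra R D] (p : Ideal R) [p.IsPrime] {n : ℕ}
    (hsm : FlatCA.SmoothRelDim n R D) (y : Ideal D) [y.LiesOver p] [hP : (p.map (algebraMap R D)).IsPrime]
    (M : Type u) [AddCommGroup M] [Module D M]
    (hη : (⟨_, hP⟩ : PrimeSpectrum D) ∉ Module.support D M) (l : LTSeries (PrimeSpectrum D))
    (hl : ∀ i, l i ∈ fibSupp p D M) : l.length + 1 ≤ n := by
  let η : PrimeSpectrum D := ⟨_, hP⟩
  have hlt : η < l.head := by
    refine lt_of_le_of_ne (Ideal.map_le_iff_le_comap.mpr (congrArg PrimeSpectrum.asIdeal (hl 0).1).ge) ?_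
    intro h
    exact hη (show η ∈ Module.support D M by rw [h]; exact (hl 0).2)
  have h := DevDim.length_le_of_smooth p hsm (l.cons η hlt) (fun i => ?_)
  · simpa using h
  · refine Fin.cases ?_ (fun j => ?_) i
    · exact PrimeSpectrum.ext (DevDim.comap_map_eq p y)
    · have h := (hl (j.cast (by simp))).1
      rw [← RelSeries.cons_cast_succ l η hlt] at h
      exact h

set_option maxHeartbeats 1000000 in
/-- Transport of a chain of the support to the smooth algebra of an elementary dévissage. -/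
theorem exists_chain_D {R S : Type u} [CommRing R] [CommRing S] [Algebra R S]
    {N : Type u} [AddCommGroup N] [Module S N] [Module.Finite S N] {p : Ideal R} [p.IsPrime] {q : Ideal S}
    [q.IsPrime] [q.LiesOver p] {n : ℕ} (E : FlatCA.ElemDevissage R S N p q n) :
    ∃ b : S, b ∉ q ∧ ∀ l : LTSeries (PrimeSpectrum S), (∀ i, l i ∈ fibSupp p S N) → (∀ i, b ∉ (l i).asIdeal) →
      ∃ L : LTSeries (PrimeSpectrum E.D), L.length = l.length ∧ ∀ i, L i ∈ fibSupp E.p' E.D E.G := by
  haveI := E.etaleR.1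
  haveI := E.etaleR.2.1
  haveI := E.etaleS.1
  haveI := E.etaleS.2.1
  haveI := E.finiteDC
  haveI := E.finiteG
  haveI : Module.Finite E.D E.G := Module.Finite.trans E.C E.G
  haveI : Module.Finite E.S' E.N' := Module.Finite.equiv E.isBaseChange.equiv
  haveI : Module.Finite E.S' E.G := Module.Finite.equiv E.iso
  obtain ⟨b, hb, hlift⟩ := DevDim.exists_chain_lift (S := S) p E.p' E.q'
  refine ⟨b, fun hbq => hb ((Ideal.LiesOver.over (p := q) (P := E.q')).le hbq), fun l hl hlb => ?_⟩
  obtain ⟨L, hlen, hLl, hLp⟩ := hlift l (fun i => (hl i).1) hlb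
  have hsupp : ∀ i, L i ∈ Module.support E.S' E.G := fun i => by
    obtain ⟨j, hj⟩ := hLl i
    rw [← E.iso.support_eq, S12231.support_baseChange E.isBaseChange]
    refine Ideal.map_le_iff_le_comap.mpr ?_
    have h := (hl j).2
    rw [Module.support_eq_zeroLocus] at h
    intro x hx
    have := h hx
    rw [← hj] at this
    exact this
  have hker : ∀ i, RingHom.ker (algebraMap E.S' E.C) ≤ (L i).asIdeal := fun i s hs => by
    refine (Module.mem_support_iff_of_finite.mp (hsupp i)) (Module.mem_annihilator.mpr fun m => ?_)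
    rw [← algebraMap_smul E.C s m, RingHom.mem_ker.mp hs, zero_smul]
  have hex : ∀ i, ∃ P : PrimeSpectrum E.C, PrimeSpectrum.comap (algebraMap E.S' E.C) P = L i := fun i => by
    show L i ∈ Set.range (PrimeSpectrum.comap (algebraMap E.S' E.C))
    rw [range_comap_of_surjective _ _ E.surjC]
    exact hker i
  choose P hP using hex
  have hPmono : StrictMono P := fun i j hij => by
    have h := L.strictMono hij
    rw [← hP i, ← hP j] at h
    have hle : P i ≤ P j := fun x hx => by
      obtain ⟨s, rfl⟩ := E.surjC x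
      exact h.le hx
    exact lt_of_le_of_ne hle fun he => h.ne (by rw [he])
  have hPG : ∀ i, P i ∈ Module.support E.C E.G := fun i => by
    rw [Module.mem_support_iff_of_finite]
    intro c hc
    obtain ⟨s, rfl⟩ := E.surjC c
    have : s ∈ (L i).asIdeal := by
      refine (Module.mem_support_iff_of_finite.mp (hsupp i)) (Module.mem_annihilator.mpr fun m => ?_)
      rw [← algebraMap_smul E.C s m]
      exact Module.mem_annihilator.mp hc m
    rw [← hP i] at this
    exact this
  let LD : LTSeries (PrimeSpectrum E.D) :=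
    ⟨L.length, fun i => PrimeSpectrum.comap (algebraMap E.D E.C) (P i),
      fun i => DevDim.lt_comap_of_finite (hPmono i.castSucc_lt_succ)⟩
  refine ⟨LD, hlen, fun i => ⟨?_, DevDim.mem_support_restrict (P i) (hPG i)⟩⟩
  show PrimeSpectrum.comap (algebraMap E.R' E.D) (PrimeSpectrum.comap (algebraMap E.D E.C) (P i)) = _
  rw [← PrimeSpectrum.comap_comp_apply, ← IsScalarTower.algebraMap_eq, IsScalarTower.algebraMap_eq E.R' E.S' E.C,
    PrimeSpectrum.comap_comp_apply, hP]
  exact hLp i

/-- The statement proved by induction on the dimension. -/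
def Goal (R S : Type u) [CommRing R] [CommRing S] [Algebra R S] (N : Type u) [AddCommGroup N] [Module S N]
    (p : Ideal R) [p.IsPrime] (q : Ideal S) [q.IsPrime] : Prop :=
  ∃ (R' S' : Type u) (_ : CommRing R') (_ : CommRing S') (_ : Algebra R R') (_ : Algebra S S') (_ : Algebra R' S')
    (_ : Algebra R S') (_ : IsScalarTower R R' S') (_ : IsScalarTower R S S')
    (p' : Ideal R') (q' : Ideal S') (_ : p'.IsPrime) (_ : q'.IsPrime),
    FlatCA.IsEtaleNhd R R' p p' ∧ FlatCA.IsEtaleNhd S S' q q' ∧ q'.LiesOver p' ∧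
    ∀ (N' : Type u) [AddCommGroup N'] [Module S' N'] [Module S N'] [IsScalarTower S S' N']
      (f : N →ₗ[S] N'), IsBaseChange S' f → ∃ k, Dev k R' S' N' p' q'

/-- A smooth piece with geometrically irreducible fibres carrying a dévissage of the cokernel. -/
def Mid (R₁ D : Type u) [CommRing R₁] [CommRing D] [Algebra R₁ D] (K : Type u) [AddCommGroup K] [Module D K]
    (p₁ : Ideal R₁) [p₁.IsPrime] (y : Ideal D) [y.IsPrime] (n : ℕ) : Prop :=
  ∃ (R₃ D₃ : Type u) (_ : CommRing R₃) (_ : CommRing D₃) (_ : Algebra R₁ R₃) (_ : Algebra D D₃) (_ : Algebra R₃ D₃)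
    (_ : Algebra R₁ D₃) (_ : IsScalarTower R₁ R₃ D₃) (_ : IsScalarTower R₁ D D₃)
    (p₃ : Ideal R₃) (y₃ : Ideal D₃) (_ : p₃.IsPrime) (_ : y₃.IsPrime),
    FlatCA.IsEtaleNhd R₁ R₃ p₁ p₃ ∧ FlatCA.IsEtaleNhd D D₃ y y₃ ∧ y₃.LiesOver p₃ ∧
    FlatCA.SmoothRelDim n R₃ D₃ ∧ FlatCA.GeomIrredFibres R₃ D₃ ∧
    ∃ k, Subsingleton (D₃ ⊗[D] K) ∨ Dev k R₃ D₃ (D₃ ⊗[D] K) p₃ y₃

theorem exists_open_image {R D : Type u} [CommRing R] [CommRing D] [Algebra R D] [Algebra.Smooth R D]
    (p : Ideal R) [p.IsPrime] (y : Ideal D) [y.IsPrime] [y.LiesOver p] (w : D) (hw : w ∉ y) :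
    ∃ g : R, g ∉ p ∧ ∀ P : PrimeSpectrum R, g ∉ P.asIdeal →
      ∃ Q : PrimeSpectrum D, w ∉ Q.asIdeal ∧ PrimeSpectrum.comap (algebraMap R D) Q = P := by
  obtain ⟨_, ⟨g, rfl⟩, hpg, hsub⟩ := PrimeSpectrum.isTopologicalBasis_basic_opens.exists_subset_of_mem_open
    (show (⟨p, inferInstance⟩ : PrimeSpectrum R) ∈
      (PrimeSpectrum.comap (algebraMap R D) '' (PrimeSpectrum.basicOpen w : Set (PrimeSpectrum D))) from
      ⟨⟨y, inferInstance⟩, hw, PrimeSpectrum.ext (y.over_def p).symm⟩)
    (PrimeSpectrum.isOpenMap_comap_of_hasGoingDown_of_finitePresentation _ (PrimeSpectrum.basicOpen w).2)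
  refine ⟨g, hpg, fun P hP => ?_⟩
  obtain ⟨Q, hQ1, hQ2⟩ := hsub hP
  exact ⟨Q, hQ1, hQ2⟩

set_option maxHeartbeats 1000000 in
theorem mid_of_kill {R₁ D : Type u} [CommRing R₁] [CommRing D] [Algebra R₁ D] (K : Type u) [AddCommGroup K]
    [Module D K] (p₁ : Ideal R₁) [p₁.IsPrime] (y : Ideal D) [y.IsPrime] [y.LiesOver p₁] (n : ℕ)
    (hsm : FlatCA.SmoothRelDim n R₁ D) (hirr : FlatCA.GeomIrredFibres R₁ D) (w : D) (hwy : w ∉ y)
    (hwK : ∀ x : K, w • x = 0) : Mid R₁ D K p₁ y n := by
  haveI := CAlg76.SmoothRelDim.smooth_of_rel hsm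
  obtain ⟨g, hg, hne⟩ := exists_open_image p₁ y w hwy
  let R₃ := Localization.Away g
  let δ : D := w * algebraMap R₁ D g
  let D₃ := Localization.Away δ
  have hgD : IsUnit (algebraMap R₁ D₃ g) := by
    rw [IsScalarTower.algebraMap_apply R₁ D D₃]
    exact isUnit_of_dvd_unit (map_dvd _ (dvd_mul_left _ _)) (IsLocalization.Away.algebraMap_isUnit δ)
  letI : Algebra R₃ D₃ := (IsLocalization.Away.lift (S := R₃) g hgD).toAlgebra
  haveI : IsScalarTower R₁ R₃ D₃ := IsScalarTower.of_algebraMap_eq fun x => (IsLocalization.Away.lift_eq g hgD x).symm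
  obtain ⟨hsm₃, hirr₃⟩ := S12242.smooth_geomIrred_shrink n hsm hirr g w R₃ D₃ hne
  have hδy : δ ∉ y := fun hmem => ((inferInstance : y.IsPrime).mem_or_mem hmem).elim hwy
    fun h' => hg ((Ideal.mem_of_liesOver y p₁ g).mpr h')
  have hdisjD : Disjoint (Submonoid.powers δ : Set D) y := (Ideal.disjoint_powers_iff_notMem_of_isPrime δ).mpr hδy
  have hdisjR : Disjoint (Submonoid.powers g : Set R₁) p₁ := (Ideal.disjoint_powers_iff_notMem_of_isPrime g).mpr hg
  let p₃ : Ideal R₃ := p₁.map (algebraMap R₁ R₃)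
  let y₃ : Ideal D₃ := y.map (algebraMap D D₃)
  haveI : p₃.IsPrime := IsLocalization.isPrime_of_isPrime_disjoint (Submonoid.powers g) R₃ p₁ inferInstance hdisjR
  haveI : y₃.IsPrime := IsLocalization.isPrime_of_isPrime_disjoint (Submonoid.powers δ) D₃ y inferInstance hdisjD
  have hp₃ : p₃.comap (algebraMap R₁ R₃) = p₁ :=
    IsLocalization.under_map_of_isPrime_disjoint (Submonoid.powers g) R₃ inferInstance hdisjR
  have hy₃ : y₃.comap (algebraMap D D₃) = y :=
    IsLocalization.under_map_of_isPrime_disjoint (Submonoid.powers δ) D₃ inferInstance hdisjD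
  refine ⟨R₃, D₃, inferInstance, inferInstance, inferInstance, inferInstance, inferInstance, inferInstance,
    inferInstance, inferInstance, p₃, y₃, inferInstance, inferInstance, isEtaleNhd_away g p₁ p₃ hp₃,
    isEtaleNhd_away δ y y₃ hy₃, ⟨?_⟩, hsm₃, hirr₃, 0, Or.inl ?_⟩
  · have := PrimeSpectrum.localization_comap_injective R₃ (Submonoid.powers g)
      (show PrimeSpectrum.comap (algebraMap R₁ R₃) ⟨p₃, inferInstance⟩ =
          PrimeSpectrum.comap (algebraMap R₁ R₃) ⟨y₃.comap (algebraMap R₃ D₃), inferInstance⟩ from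
        PrimeSpectrum.ext (hp₃.trans (by
          show p₁ = (y₃.comap (algebraMap R₃ D₃)).comap (algebraMap R₁ R₃)
          rw [Ideal.comap_comap, ← IsScalarTower.algebraMap_eq, IsScalarTower.algebraMap_eq R₁ D D₃,
            ← Ideal.comap_comap, hy₃]
          exact y.over_def p₁)))
    exact congrArg PrimeSpectrum.asIdeal this
  · have hwu : IsUnit (algebraMap D D₃ w) :=
      isUnit_of_dvd_unit (map_dvd _ (dvd_mul_right _ _)) (IsLocalization.Away.algebraMap_isUnit δ)
    refine subsingleton_of_forall_eq 0 fun x => ?_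
    induction x using TensorProduct.induction_on with
    | zero => rfl
    | add a b ha hb => rw [ha, hb, add_zero]
    | tmul a k =>
      obtain ⟨c, hc⟩ := hwu.exists_right_inv
      rw [show a = w • (c * a) by rw [Algebra.smul_def, ← mul_assoc, hc, one_mul], TensorProduct.smul_tmul, hwK,
        TensorProduct.tmul_zero]

/-- The natural map between two base changes along a tower. -/
theorem exists_baseChange_map {D A B K : Type u} [CommRing D] [CommRing A] [CommRing B] [Algebra D A] [Algebra A B]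
    [Algebra D B] [IsScalarTower D A B] [AddCommGroup K] [Module D K] :
    ∃ f : A ⊗[D] K →ₗ[A] B ⊗[D] K, IsBaseChange B f := by
  let f₀ := (TensorProduct.mk D A K) 1
  have h₀ : IsBaseChange A f₀ := TensorProduct.isBaseChange D K A
  let g₀ := (TensorProduct.mk D B K) 1
  refine ⟨h₀.lift g₀, IsBaseChange.of_comp h₀ ?_⟩
  rw [show (h₀.lift g₀).restrictScalars D ∘ₗ f₀ = g₀ from LinearMap.ext fun x => h₀.lift_eq g₀ x]
  exact TensorProduct.isBaseChange D K B

set_option maxHeartbeats 4000000 in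
theorem mid_of_goal {R₁ D : Type u} [CommRing R₁] [CommRing D] [Algebra R₁ D] (K : Type u) [AddCommGroup K]
    [Module D K] (p₁ : Ideal R₁) [p₁.IsPrime] (y : Ideal D) [y.IsPrime] [y.LiesOver p₁] (n : ℕ)
    (hsm : FlatCA.SmoothRelDim n R₁ D) (hpt : FlatCA.PurelyTranscendental p₁ y) (h : Goal R₁ D K p₁ y) :
    Mid R₁ D K p₁ y n := by
  obtain ⟨R₂, D₂, _, _, _, _, _, _, _, _, p₂, y₂, _, _, etR, etD, hy₂p₂, hdev⟩ := h
  haveI := hy₂p₂
  haveI := etR.1
  haveI := etR.2.1
  haveI := etD.1
  haveI := etD.2.1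
  -- smoothness over the new base
  let T₁ := R₂ ⊗[R₁] D
  letI : Algebra T₁ D₂ :=
    (Algebra.TensorProduct.lift (IsScalarTower.toAlgHom R₁ R₂ D₂) (IsScalarTower.toAlgHom R₁ D D₂)
      fun _ _ => Commute.all _ _).toRingHom.toAlgebra
  haveI : IsScalarTower D T₁ D₂ := IsScalarTower.of_algebraMap_eq fun x => by
    show algebraMap D D₂ x = Algebra.TensorProduct.lift (IsScalarTower.toAlgHom R₁ R₂ D₂) (IsScalarTower.toAlgHom R₁ D D₂)
      (fun _ _ => Commute.all _ _) ((1 : R₂) ⊗ₜ[R₁] x)
    simp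
  haveI : IsScalarTower R₂ T₁ D₂ := IsScalarTower.of_algebraMap_eq fun x => by
    show algebraMap R₂ D₂ x = Algebra.TensorProduct.lift (IsScalarTower.toAlgHom R₁ R₂ D₂) (IsScalarTower.toAlgHom R₁ D D₂)
      (fun _ _ => Commute.all _ _) (x ⊗ₜ[R₁] (1 : D))
    simp
  haveI : Algebra.Etale D T₁ := Algebra.Etale.of_equiv (A := D ⊗[R₁] R₂)
    (AlgEquiv.ofRingEquiv (f := (Algebra.TensorProduct.comm R₁ D R₂).toRingEquiv) fun x => rfl)
  haveI : Algebra.Etale T₁ D₂ := Algebra.Etale.of_restrictScalars D T₁ D₂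
  have hsm₂ : FlatCA.SmoothRelDim n R₂ D₂ := by
    haveI := AlgebraicGeometry.smoothOfRelativeDimension_isStableUnderBaseChange.{u} (n := n)
    have h1 : FlatCA.SmoothRelDim n R₂ T₁ := S12231.of_isPushout_spec _ R₁ R₂ D T₁ hsm
    haveI : AlgebraicGeometry.Etale (AlgebraicGeometry.Spec.map (CommRingCat.ofHom (algebraMap T₁ D₂))) :=
      AlgebraicGeometry.HasRingHomProperty.Spec_iff.mpr (RingHom.etale_algebraMap.mpr inferInstance)
    haveI := h1
    have h' : AlgebraicGeometry.SmoothOfRelativeDimension (0 + n)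
        (CategoryTheory.CategoryStruct.comp (AlgebraicGeometry.Spec.map (CommRingCat.ofHom (algebraMap T₁ D₂)))
          (AlgebraicGeometry.Spec.map (CommRingCat.ofHom (algebraMap R₂ T₁)))) := inferInstance
    rw [← AlgebraicGeometry.Spec.map_comp, ← CommRingCat.ofHom_comp, ← IsScalarTower.algebraMap_eq, Nat.zero_add] at h'
    exact h'
  have hpt₂ : FlatCA.PurelyTranscendental p₂ y₂ := by
    refine FieldFib.purelyTranscendental_of_equiv
      (Ideal.ResidueField.mapₐ p₁ p₂ (Algebra.ofId R₁ R₂) etR.2.1.over).toRingHom etR.2.2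
      (Ideal.ResidueField.mapₐ y y₂ (Algebra.ofId D D₂) etD.2.1.over).toRingHom etD.2.2 (fun a => ?_) hpt
    let g₁ := ((Ideal.ResidueField.mapₐ y y₂ (Algebra.ofId D D₂) etD.2.1.over).restrictScalars R₁).comp
      (Ideal.ResidueField.mapₐ p₁ y (Algebra.ofId R₁ D) (y.over_def p₁))
    let g₂ := ((Ideal.ResidueField.mapₐ p₂ y₂ (Algebra.ofId R₂ D₂) (y₂.over_def p₂)).restrictScalars R₁).comp
      (Ideal.ResidueField.mapₐ p₁ p₂ (Algebra.ofId R₁ R₂) etR.2.1.over)
    have e : g₁.toRingHom = g₂.toRingHom :=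
      Ideal.ResidueField.ringHom_ext (RingHom.ext fun x => (g₁.commutes x).trans (g₂.commutes x).symm)
    exact RingHom.congr_fun e a
  obtain ⟨k, hk⟩ := hdev (D₂ ⊗[D] K) ((TensorProduct.mk D D₂ K) 1) (TensorProduct.isBaseChange D K D₂)
  -- the geometrically connected piece
  obtain ⟨R₂', _, _, p₂', _, etR', yT, _, hyTp, hyTy, hh, hhy, hgeom⟩ :=
    Component.exists_component R₂ D₂ n hsm₂ p₂ y₂ hpt₂
  haveI := etR'.1
  haveI := etR'.2.1
  let T := R₂' ⊗[R₂] D₂
  haveI : yT.LiesOver y₂ := ⟨hyTy.symm⟩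
  haveI : yT.LiesOver p₂' := ⟨hyTp.symm⟩
  haveI : Algebra.Etale D₂ T := Algebra.Etale.of_equiv (A := D₂ ⊗[R₂] R₂')
    (AlgEquiv.ofRingEquiv (f := (Algebra.TensorProduct.comm R₂ D₂ R₂').toRingEquiv) fun x => rfl)
  have etT : FlatCA.IsEtaleNhd D₂ T y₂ yT := by
    obtain ⟨Q, hQ, hQ1, hQ2, hQb, hQu⟩ := DevOps.exists_point (S := D₂) (S' := T) p₂ p₂' y₂ etR'.2.2
    obtain rfl := hQu yT inferInstance hyTp hyTy
    exact ⟨inferInstance, ⟨hyTy.symm⟩, hQb hyTy.symm⟩
  letI : Algebra D T := ((algebraMap D₂ T).comp (algebraMap D D₂)).toAlgebra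
  haveI : IsScalarTower D D₂ T := IsScalarTower.of_algebraMap_eq fun _ => rfl
  obtain ⟨fT, hfT⟩ := exists_baseChange_map (D := D) (A := D₂) (B := T) (K := K)
  have hdevT : Dev k R₂' T (T ⊗[D] K) p₂' yT := DevOps.baseChange k hk p₂' etR'.2.2 yT hyTp hyTy fT hfT
  haveI := CAlg76.SmoothRelDim.smooth_of_rel hsm₂
  haveI : Algebra.Smooth R₂' T := inferInstance
  obtain ⟨g, hg, hs, hsy, hdvd, hshr⟩ := DevOps.shrink k hdevT hh hhy
  obtain ⟨g₂, hg₂, hne⟩ := exists_open_image p₂' yT hs hsy
  let g' := g * g₂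
  have hg' : g' ∉ p₂' := fun hm => ((inferInstance : p₂'.IsPrime).mem_or_mem hm).elim hg hg₂
  let R₃ := Localization.Away g'
  let δ : T := hs * algebraMap R₂' T g'
  let D₃ := Localization.Away δ
  have hgD : IsUnit (algebraMap R₂' D₃ g') := by
    rw [IsScalarTower.algebraMap_apply R₂' T D₃]
    exact isUnit_of_dvd_unit (map_dvd _ (dvd_mul_left _ _)) (IsLocalization.Away.algebraMap_isUnit δ)
  letI : Algebra R₃ D₃ := (IsLocalization.Away.lift (S := R₃) g' hgD).toAlgebra
  haveI : IsScalarTower R₂' R₃ D₃ := IsScalarTower.of_algebraMap_eq fun x => (IsLocalization.Away.lift_eq g' hgD x).symm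
  have hδy : δ ∉ yT := fun hmem => ((inferInstance : yT.IsPrime).mem_or_mem hmem).elim hsy
    fun h' => hg' ((Ideal.mem_of_liesOver yT p₂' g').mpr h')
  have hdisjD : Disjoint (Submonoid.powers δ : Set T) yT := (Ideal.disjoint_powers_iff_notMem_of_isPrime δ).mpr hδy
  have hdisjR : Disjoint (Submonoid.powers g' : Set R₂') p₂' :=
    (Ideal.disjoint_powers_iff_notMem_of_isPrime g').mpr hg'
  let p₃ : Ideal R₃ := p₂'.map (algebraMap R₂' R₃)
  let y₃ : Ideal D₃ := yT.map (algebraMap T D₃)
  haveI : p₃.IsPrime := IsLocalization.isPrime_of_isPrime_disjoint (Submonoid.powers g') R₃ p₂' inferInstance hdisjR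
  haveI : y₃.IsPrime := IsLocalization.isPrime_of_isPrime_disjoint (Submonoid.powers δ) D₃ yT inferInstance hdisjD
  have hp₃ : p₃.comap (algebraMap R₂' R₃) = p₂' :=
    IsLocalization.under_map_of_isPrime_disjoint (Submonoid.powers g') R₃ inferInstance hdisjR
  have hy₃ : y₃.comap (algebraMap T D₃) = yT :=
    IsLocalization.under_map_of_isPrime_disjoint (Submonoid.powers δ) D₃ inferInstance hdisjD
  haveI : p₃.LiesOver p₂' := ⟨hp₃.symm⟩
  haveI hy₃p₃ : y₃.LiesOver p₃ := ⟨by
    have := PrimeSpectrum.localization_comap_injective R₃ (Submonoid.powers g')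
      (show PrimeSpectrum.comap (algebraMap R₂' R₃) ⟨p₃, inferInstance⟩ =
          PrimeSpectrum.comap (algebraMap R₂' R₃) ⟨y₃.comap (algebraMap R₃ D₃), inferInstance⟩ from
        PrimeSpectrum.ext (hp₃.trans (by
          show p₂' = (y₃.comap (algebraMap R₃ D₃)).comap (algebraMap R₂' R₃)
          rw [Ideal.comap_comap, ← IsScalarTower.algebraMap_eq, IsScalarTower.algebraMap_eq R₂' T D₃,
            ← Ideal.comap_comap, hy₃]
          exact hyTp.symm)))
    exact congrArg PrimeSpectrum.asIdeal this⟩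
  have hgi : FlatCA.GeomIntegralFibres R₃ D₃ := by
    refine hgeom R₃ D₃ ?_ (AlgebraicGeometry.IsOpenImmersion.of_isLocalization g')
      (AlgebraicGeometry.IsOpenImmersion.of_isLocalization δ)
      (isUnit_of_dvd_unit (map_dvd _ (hdvd.trans (dvd_mul_right _ _))) (IsLocalization.Away.algebraMap_isUnit δ)) ?_
    · rw [← IsScalarTower.algebraMap_eq, ← IsScalarTower.algebraMap_eq]
    · intro P
      have hgP : g' ∉ (PrimeSpectrum.comap (algebraMap R₂' R₃) P).asIdeal := fun hm =>
        P.2.ne_top (Ideal.eq_top_of_isUnit_mem _ hm (IsLocalization.Away.algebraMap_isUnit g'))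
      obtain ⟨Q, hQs, hQ⟩ := hne _ fun hm => hgP (Ideal.mul_mem_left _ g hm)
      obtain ⟨Q', rfl⟩ : Q ∈ Set.range (PrimeSpectrum.comap (algebraMap T D₃)) := by
        rw [PrimeSpectrum.localization_away_comap_range D₃ δ]
        exact fun hm => (Q.2.mem_or_mem hm).elim hQs fun h' => hgP (hQ ▸ h')
      refine ⟨Q', PrimeSpectrum.localization_comap_injective R₃ (Submonoid.powers g') ?_⟩
      rw [← hQ, ← PrimeSpectrum.comap_comp_apply, ← PrimeSpectrum.comap_comp_apply,
        ← IsScalarTower.algebraMap_eq, ← IsScalarTower.algebraMap_eq]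
  have hsm₃ : FlatCA.SmoothRelDim n R₃ D₃ := by
    haveI := AlgebraicGeometry.smoothOfRelativeDimension_isStableUnderBaseChange.{u} (n := n)
    haveI h1 : AlgebraicGeometry.SmoothOfRelativeDimension n
        (AlgebraicGeometry.Spec.map (CommRingCat.ofHom (algebraMap R₂' T))) :=
      S12231.of_isPushout_spec _ R₂ R₂' D₂ T hsm₂
    haveI : AlgebraicGeometry.IsOpenImmersion
        (AlgebraicGeometry.Spec.map (CommRingCat.ofHom (algebraMap T D₃))) :=
      AlgebraicGeometry.IsOpenImmersion.of_isLocalization δ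
    haveI : AlgebraicGeometry.IsOpenImmersion
        (AlgebraicGeometry.Spec.map (CommRingCat.ofHom (algebraMap R₂' R₃))) :=
      AlgebraicGeometry.IsOpenImmersion.of_isLocalization g'
    have h' : AlgebraicGeometry.SmoothOfRelativeDimension (0 + n)
        (CategoryTheory.CategoryStruct.comp (AlgebraicGeometry.Spec.map (CommRingCat.ofHom (algebraMap T D₃)))
          (AlgebraicGeometry.Spec.map (CommRingCat.ofHom (algebraMap R₂' T)))) := inferInstance
    rw [← AlgebraicGeometry.Spec.map_comp, ← CommRingCat.ofHom_comp, ← IsScalarTower.algebraMap_eq, Nat.zero_add] at h'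
    refine CategoryTheory.MorphismProperty.of_isPullback
      (CategoryTheory.IsPullback.of_horiz_isIso_mono ⟨by
        rw [CategoryTheory.Category.id_comp, ← AlgebraicGeometry.Spec.map_comp, ← CommRingCat.ofHom_comp,
          ← IsScalarTower.algebraMap_eq]⟩ :
        CategoryTheory.IsPullback (CategoryTheory.CategoryStruct.id _)
          (AlgebraicGeometry.Spec.map (CommRingCat.ofHom (algebraMap R₃ D₃)))
          (AlgebraicGeometry.Spec.map (CommRingCat.ofHom (algebraMap R₂' D₃)))
          (AlgebraicGeometry.Spec.map (CommRingCat.ofHom (algebraMap R₂' R₃)))) h'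
  haveI : IsScalarTower D T D₃ := inferInstance
  obtain ⟨f₃, hf₃⟩ := exists_baseChange_map (D := D) (A := T) (B := D₃) (K := K)
  have hdev₃ : Dev k R₃ D₃ (D₃ ⊗[D] K) p₃ y₃ :=
    hshr g' hg' (dvd_mul_right g g₂) p₃ y₃ hy₃ f₃ hf₃
  letI : Algebra R₁ R₂' := ((algebraMap R₂ R₂').comp (algebraMap R₁ R₂)).toAlgebra
  haveI : IsScalarTower R₁ R₂ R₂' := IsScalarTower.of_algebraMap_eq fun _ => rfl
  haveI : IsScalarTower R₁ R₂' R₃ := inferInstance
  haveI : IsScalarTower R₁ R₂' D₃ := inferInstance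
  haveI : IsScalarTower R₁ R₃ D₃ := IsScalarTower.of_algebraMap_eq fun x => by
    rw [IsScalarTower.algebraMap_apply R₁ R₂' R₃, ← IsScalarTower.algebraMap_apply R₂' R₃ D₃,
      ← IsScalarTower.algebraMap_apply R₁ R₂' D₃]
  haveI : IsScalarTower R₁ D D₃ := IsScalarTower.of_algebraMap_eq fun x => by
    rw [IsScalarTower.algebraMap_apply R₁ R₃ D₃]
    rw [IsScalarTower.algebraMap_apply R₁ R₂' R₃, IsScalarTower.algebraMap_apply D T D₃,
      IsScalarTower.algebraMap_apply D D₂ T]
    show algebraMap R₃ D₃ (algebraMap R₂' R₃ (algebraMap R₂ R₂' (algebraMap R₁ R₂ x))) =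
      algebraMap T D₃ (algebraMap D₂ T (algebraMap D D₂ (algebraMap R₁ D x)))
    rw [← IsScalarTower.algebraMap_apply R₂' R₃ D₃, IsScalarTower.algebraMap_apply R₂' T D₃,
      ← IsScalarTower.algebraMap_apply R₁ D D₂, IsScalarTower.algebraMap_apply R₁ R₂ D₂,
      ← IsScalarTower.algebraMap_apply R₂ R₂' T, IsScalarTower.algebraMap_apply R₂ D₂ T]
  refine ⟨R₃, D₃, inferInstance, inferInstance, inferInstance, inferInstance, inferInstance, inferInstance,
    inferInstance, inferInstance, p₃, y₃, inferInstance, inferInstance,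
    isEtaleNhd_comp p₁ p₂' p₃ (isEtaleNhd_comp p₁ p₂ p₂' etR etR') (isEtaleNhd_away g' p₂' p₃ hp₃),
    isEtaleNhd_comp y yT y₃ (isEtaleNhd_comp y y₂ yT etD etT) (isEtaleNhd_away δ yT y₃ hy₃), hy₃p₃,
    hsm₃, ?_, k, Or.inr hdev₃⟩
  haveI : AlgebraicGeometry.GeometricallyIntegral
      (AlgebraicGeometry.Spec.map (CommRingCat.ofHom (algebraMap R₃ D₃))) := hgi
  exact inferInstanceAs (AlgebraicGeometry.GeometricallyIrreducible _)

end Groth.Agent.FlatMor62.DevExist
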