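import Groth.Agent.FlatMor62.DevExist

/-!
# Complete dévissage after étale localisation
-/

set_option autoImplicit false
set_option linter.style.haveILetI false
set_option linter.style.longLine false

universe u

open TensorProduct

namespace Groth.Agent.FlatMor62.DevMain

open Groth.Agent.FlatMor62.DevChain Groth.Agent.FlatMor62.DevExist Groth.Agent.S12242

attribute [local instance] Algebra.TensorProduct.rightAlgebra

theorem localDim_nonneg {X : Type u} [TopologicalSpace X] (x : X) : 0 ≤ FlatMor.localDim X x :=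
  le_iInf fun U => haveI : Nonempty (U.1 : Set X) := ⟨⟨x, U.2⟩⟩; TopDimLib.topDim_nonneg_of_nonempty

set_option maxHeartbeats 4000000 in
theorem goal_of_localDim (m : ℕ) : ∀ (R S : Type u) [CommRing R] [CommRing S] [Algebra R S] [Algebra.FiniteType R S]
    (N : Type u) [AddCommGroup N] [Module S N] [Module R N] [IsScalarTower R S N] [Module.Finite S N]
    (p : Ideal R) [p.IsPrime] (q : Ideal S) [q.IsPrime] [q.LiesOver p]
    (x : PrimeSpectrum (p.Fiber S)) (hxq : x.asIdeal = FlatCA.fiberIdeal p q)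
    (hx : x ∈ Module.support (p.Fiber S) (FlatCA.fiberMod p S N)),
    FlatMor.localDim (Module.support (p.Fiber S) (FlatCA.fiberMod p S N)) ⟨x, hx⟩ ≤ (m : WithBot ℕ∞) →
    Goal R S N p q := by
  classical
  induction m using Nat.strong_induction_on with
  | _ m ih =>
  intro R S _ _ _ _ N _ _ _ _ _ p _ q _ _ x hxq hx hle
  obtain ⟨n, hn, hnm⟩ : ∃ n : ℕ,
      FlatMor.localDim (Module.support (p.Fiber S) (FlatCA.fiberMod p S N)) ⟨x, hx⟩ = (n : WithBot ℕ∞) ∧ n ≤ m := by
    have h0 := localDim_nonneg (⟨x, hx⟩ : Module.support (p.Fiber S) (FlatCA.fiberMod p S N))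
    have hne : FlatMor.localDim (Module.support (p.Fiber S) (FlatCA.fiberMod p S N)) ⟨x, hx⟩ ≠ ⊥ :=
      fun hb => not_lt_of_ge h0 (hb.symm ▸ WithBot.bot_lt_coe _)
    obtain ⟨v, hv⟩ := WithBot.ne_bot_iff_exists.mp hne
    rw [← hv] at hle ⊢
    have hvm : v ≤ (m : ℕ∞) := WithBot.coe_le_coe.mp hle
    obtain ⟨k, hk⟩ := ENat.ne_top_iff_exists.mp (ne_top_of_le_ne_top (ENat.natCast_ne_top m) hvm)
    subst hk
    exact ⟨k, rfl, Nat.cast_le.mp hvm⟩
  obtain ⟨E⟩ := Groth.Agent.S1249.result N p q n x hxq hx hn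
  haveI := E.finiteDC
  haveI := E.finiteG
  haveI := E.etaleR.1
  haveI := E.etaleR.2.1
  haveI := E.etaleS.1
  haveI := E.etaleS.2.1
  haveI : Module.Finite E.D E.G := Module.Finite.trans E.C E.G
  haveI := CAlg76.SmoothRelDim.smooth_of_rel E.smooth
  have hirr : FlatCA.GeomIrredFibres E.R' E.D := by
    haveI : AlgebraicGeometry.GeometricallyIntegral
        (AlgebraicGeometry.Spec.map (CommRingCat.ofHom (algebraMap E.R' E.D))) := E.geomInt
    exact inferInstanceAs (AlgebraicGeometry.GeometricallyIrreducible _)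
  haveI hη : (E.p'.map (algebraMap E.R' E.D)).IsPrime := DevOps.isPrime_map_self E.smooth hirr E.p'
  let η : PrimeSpectrum E.D := ⟨_, hη⟩
  -- the generic point of the fibre is in the support
  have hηG : η ∈ Module.support E.D E.G := by
    by_contra hηG
    obtain ⟨b, hb, hchain⟩ := exists_chain_D E
    have hbound : ∀ l : LTSeries (PrimeSpectrum S), (∀ i, l i ∈ fibSupp p S N) → (∀ i, b ∉ (l i).asIdeal) →
        l.length + 1 ≤ n := fun l hl hlb => by
      obtain ⟨L, hL, hLs⟩ := hchain l hl hlb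
      rw [← hL]
      exact length_add_one_le E.p' E.smooth E.y E.G hηG L hLs
    have h1 : 1 ≤ n := by
      have := hbound (RelSeries.singleton _ ⟨q, inferInstance⟩) (fun _ => DevDim.mem_fibSupp_of_mem p q x hx hxq)
        (fun _ => hb)
      simpa using this
    have h2 := DevDim.localDim_le_of_chains p q b hb (n - 1) (fun l hl hlb => by have := hbound l hl hlb; omega) x hx hxq
    rw [hn] at h2
    have := Nat.cast_le.mp (WithBot.coe_le_coe.mp h2)
    omega
  obtain ⟨r, α, hα⟩ := exists_alpha (D := E.D) (G := E.G) η.asIdeal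
  have hr : 0 < r := by
    by_contra hr0
    obtain rfl : r = 0 := by omega
    haveI := (Module.mem_support_iff_nontrivial_residueField_tensorProduct η).mp hηG
    haveI : Subsingleton (η.asIdeal.ResidueField ⊗[E.D] E.G) := hα.2.subsingleton
    exact not_subsingleton (η.asIdeal.ResidueField ⊗[E.D] E.G) inferInstance
  let st : Step E.R' E.S' E.N' E.p' E.q' :=
    { C := E.C, D := E.D, G := E.G, d := n, r := r, α := α, z := E.z, y := E.y
      zq := (E.zOver.over).symm, surj := E.surjC, fp := E.fpC, finD := E.finiteDC, finG := E.finiteG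
      smooth := E.smooth, irred := hirr, uniq := fun z₁ _ h => E.uniq z₁ h, pureTrans := E.pureTrans
      iso := E.iso, bij := hα, rpos := hr }
  let K : Type u := E.G ⧸ LinearMap.range α
  have hηK : η ∉ Module.support E.D K := notMem_support_coker η.asIdeal α hα.2
  have hmid : Mid E.R' E.D K E.p' E.y n := by
    by_cases hyK : (⟨E.y, inferInstance⟩ : PrimeSpectrum E.D) ∈ Module.support E.D K
    · obtain ⟨x₁, hx₁, hx₁y⟩ := DevDim.exists_point_of_mem (R := E.R') (N := K) E.p' E.y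
        ⟨PrimeSpectrum.ext (E.y.over_def E.p').symm, hyK⟩
      have hbound : ∀ l : LTSeries (PrimeSpectrum E.D), (∀ i, l i ∈ fibSupp E.p' E.D K) → l.length + 1 ≤ n :=
        fun l hl => length_add_one_le E.p' E.smooth E.y K hηK l hl
      have h1 : 1 ≤ n := by
        have := hbound (RelSeries.singleton _ ⟨E.y, inferInstance⟩)
          (fun _ => DevDim.mem_fibSupp_of_mem E.p' E.y x₁ hx₁ hx₁y)
        simpa using this
      have hdim := DevDim.localDim_le_of_chains E.p' E.y 1
        (fun h => (inferInstance : E.y.IsPrime).ne_top ((Ideal.eq_top_iff_one _).mpr h)) (n - 1)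
        (fun l hl _ => by have := hbound l hl; omega) x₁ hx₁ hx₁y
      exact mid_of_goal K E.p' E.y n E.smooth E.pureTrans
        (ih (n - 1) (by omega) E.R' E.D K E.p' E.y x₁ hx₁y hx₁ hdim)
    · rw [Module.mem_support_iff_of_finite, SetLike.not_le_iff_exists] at hyK
      obtain ⟨w, hw, hwy⟩ := hyK
      exact mid_of_kill K E.p' E.y n E.smooth hirr w hwy fun v => Module.mem_annihilator.mp hw v
  obtain ⟨R₃, D₃, _, _, _, _, _, _, _, _, p₃, y₃, _, _, etR₃, etD₃, hy₃p₃, hsm₃, hirr₃, k, hk⟩ := hmid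
  haveI := hy₃p₃
  haveI := etR₃.1
  haveI := etR₃.2.1
  haveI := etD₃.1
  haveI := etD₃.2.1
  haveI := Algebra.QuasiFinite.finite_primesOver (S := R₃) E.p'
  -- the finite piece and its étale lift
  let C₃ := D₃ ⊗[E.D] E.C
  haveI : Algebra.Etale E.C C₃ := Algebra.Etale.of_equiv (A := E.C ⊗[E.D] D₃)
    (AlgEquiv.ofRingEquiv (f := (Algebra.TensorProduct.comm E.D E.C D₃).toRingEquiv) fun x => rfl)
  let J : Ideal E.S' := RingHom.ker (algebraMap E.S' E.C)
  let kl : (E.S' ⧸ J) →+* E.C := RingHom.kerLift (algebraMap E.S' E.C)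
  letI : Algebra (E.S' ⧸ J) C₃ := ((algebraMap E.C C₃).comp kl).toAlgebra
  letI : Algebra E.S' C₃ := ((algebraMap E.C C₃).comp (algebraMap E.S' E.C)).toAlgebra
  haveI : IsScalarTower E.S' (E.S' ⧸ J) C₃ := IsScalarTower.of_algebraMap_eq fun s => rfl
  haveI : Algebra.Etale (E.S' ⧸ J) C₃ := by
    refine RingHom.etale_algebraMap.mp ?_
    have hb : Function.Bijective kl := ⟨RingHom.kerLift_injective _, fun c => by
      obtain ⟨s, rfl⟩ := E.surjC c
      exact ⟨Ideal.Quotient.mk J s, rfl⟩⟩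
    exact RingHom.Etale.stableUnderComposition kl (algebraMap E.C C₃) (RingHom.Etale.of_bijective hb)
      (RingHom.etale_algebraMap.mpr inferInstance)
  haveI : IsScalarTower E.R' R₃ C₃ := inferInstance
  have comm₃ : (algebraMap R₃ C₃).comp (algebraMap E.R' R₃) = (algebraMap E.S' C₃).comp (algebraMap E.R' E.S') := by
    ext r₀
    show algebraMap R₃ C₃ (algebraMap E.R' R₃ r₀) = algebraMap E.C C₃ (algebraMap E.S' E.C (algebraMap E.R' E.S' r₀))
    rw [← IsScalarTower.algebraMap_apply E.R' E.S' E.C, IsScalarTower.algebraMap_apply E.R' E.D E.C,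
      ← IsScalarTower.algebraMap_apply E.D E.C C₃, IsScalarTower.algebraMap_apply E.D D₃ C₃,
      ← IsScalarTower.algebraMap_apply E.R' E.D D₃, IsScalarTower.algebraMap_apply R₃ D₃ C₃,
      ← IsScalarTower.algebraMap_apply E.R' R₃ D₃]
  obtain ⟨S₃, _, _, ψ, j, hS₃, hψ, hker, hψj, hj⟩ :=
    EtaleLiftBase.exists_lift_over E.R' R₃ E.S' C₃ J comm₃
  haveI := hS₃
  letI : Algebra S₃ C₃ := ψ.toRingHom.toAlgebra
  letI : Algebra R₃ S₃ := j.toAlgebra
  letI : Algebra E.R' S₃ := ((algebraMap E.S' S₃).comp (algebraMap E.R' E.S')).toAlgebra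
  haveI : IsScalarTower E.R' R₃ S₃ := IsScalarTower.of_algebraMap_eq fun a => (RingHom.congr_fun hj a).symm
  haveI : IsScalarTower R₃ S₃ C₃ := IsScalarTower.of_algebraMap_eq fun a => (RingHom.congr_fun hψj a).symm
  have hcomm : (algebraMap S₃ C₃).comp (algebraMap E.S' S₃) = (algebraMap E.C C₃).comp (algebraMap E.S' E.C) :=
    ψ.comp_algebraMap
  obtain ⟨z₃, hz₃, hz₃y, hz₃z, hz₃b, hz₃u⟩ := DevOps.exists_point (S := E.C) (S' := C₃) E.y y₃ E.z etD₃.2.2
  haveI := hz₃
  let q₃ : Ideal S₃ := z₃.comap (algebraMap S₃ C₃)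
  have hq₃ : E.q' = q₃.comap (algebraMap E.S' S₃) := by
    show E.q' = (z₃.comap (algebraMap S₃ C₃)).comap (algebraMap E.S' S₃)
    rw [Ideal.comap_comap, hcomm, ← Ideal.comap_comap, hz₃z]
    exact E.zOver.over
  have etS₃ : FlatCA.IsEtaleNhd E.S' S₃ E.q' q₃ := by
    refine ⟨hS₃, ⟨hq₃⟩, ?_⟩
    have hqz : E.q' = z₃.comap (algebraMap E.S' C₃) := by
      show E.q' = z₃.comap ((algebraMap E.C C₃).comp (algebraMap E.S' E.C))
      rw [← Ideal.comap_comap, hz₃z]
      exact E.zOver.over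
    refine S1249.bijective_map_left (algebraMap E.S' S₃) (algebraMap S₃ C₃) (algebraMap E.S' C₃)
      (hcomm.trans rfl) hq₃ rfl hqz ?_
    exact LocalStruct.bijective_map_comp (algebraMap E.S' E.C) (algebraMap E.C C₃) E.zOver.over hz₃z.symm hqz
      (S1249.bijective_map_of_surjective _ E.surjC E.q' E.z E.zOver.over) (hz₃b hz₃z.symm)
  have hgen : ∃ Q : Ideal D₃, Q.IsPrime ∧ Q.comap (algebraMap R₃ D₃) = p₃ ∧
      Q.comap (algebraMap E.D D₃) = E.p'.map (algebraMap E.R' E.D) := by
    obtain ⟨Q, hQy, hQ, hQη⟩ := Ideal.exists_ideal_le_liesOver_of_le (R := E.D)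
      (p := E.p'.map (algebraMap E.R' E.D)) (q := E.y) y₃ (Ideal.map_le_iff_le_comap.mpr (E.y.over_def E.p').le)
    refine ⟨Q, hQ, ?_, hQη.over.symm⟩
    refine Algebra.QuasiFinite.eq_of_le_of_under_eq (R := E.R') _ _
      ((Ideal.comap_mono hQy).trans (y₃.over_def p₃).ge) ?_
    rw [Ideal.under_def, Ideal.comap_comap, ← IsScalarTower.algebraMap_eq, IsScalarTower.algebraMap_eq E.R' E.D D₃,
      ← Ideal.comap_comap, show Q.comap (algebraMap E.D D₃) = E.p'.map (algebraMap E.R' E.D) from hQη.over.symm,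
      DevDim.comap_map_eq E.p' E.y]
    exact p₃.over_def E.p'
  letI : Algebra R R₃ := ((algebraMap E.R' R₃).comp (algebraMap R E.R')).toAlgebra
  haveI : IsScalarTower R E.R' R₃ := IsScalarTower.of_algebraMap_eq fun _ => rfl
  letI : Algebra S S₃ := ((algebraMap E.S' S₃).comp (algebraMap S E.S')).toAlgebra
  haveI : IsScalarTower S E.S' S₃ := IsScalarTower.of_algebraMap_eq fun _ => rfl
  letI : Algebra R S₃ := ((algebraMap S S₃).comp (algebraMap R S)).toAlgebra
  haveI : IsScalarTower R S S₃ := IsScalarTower.of_algebraMap_eq fun _ => rfl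
  haveI : IsScalarTower R R₃ S₃ := IsScalarTower.of_algebraMap_eq fun a => by
    show algebraMap E.S' S₃ (algebraMap S E.S' (algebraMap R S a)) = algebraMap R₃ S₃ (algebraMap E.R' R₃ (algebraMap R E.R' a))
    rw [← IsScalarTower.algebraMap_apply R S E.S', IsScalarTower.algebraMap_apply R E.R' E.S',
      ← IsScalarTower.algebraMap_apply E.R' R₃ S₃]
    rfl
  refine ⟨R₃, S₃, inferInstance, inferInstance, inferInstance, inferInstance, inferInstance, inferInstance,
    inferInstance, inferInstance, p₃, q₃, inferInstance, inferInstance,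
    isEtaleNhd_comp p E.p' p₃ E.etaleR etR₃, isEtaleNhd_comp q E.q' q₃ E.etaleS etS₃, ⟨?_⟩, ?_⟩
  · show p₃ = (z₃.comap (algebraMap S₃ C₃)).comap (algebraMap R₃ S₃)
    rw [Ideal.comap_comap, ← IsScalarTower.algebraMap_eq, IsScalarTower.algebraMap_eq R₃ D₃ C₃, ← Ideal.comap_comap,
      hz₃y]
    exact y₃.over_def p₃
  intro N' _ _ _ _ f hf
  letI : Module E.S' N' := Module.compHom N' (algebraMap E.S' S₃)
  haveI : IsScalarTower E.S' S₃ N' := IsScalarTower.of_algebraMap_smul fun _ _ => rfl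
  haveI : IsScalarTower S E.S' N' := IsScalarTower.of_algebraMap_smul fun a v => by
    show algebraMap E.S' S₃ (algebraMap S E.S' a) • v = a • v
    rw [← IsScalarTower.algebraMap_apply, algebraMap_smul]
  let g : E.N' →ₗ[E.S'] N' := E.isBaseChange.lift f
  have hg : IsBaseChange S₃ g := by
    refine IsBaseChange.of_comp E.isBaseChange ?_
    rwa [show g.restrictScalars S ∘ₗ E.f = f from LinearMap.ext fun v => E.isBaseChange.lift_eq f v]
  exact ⟨k + 1, DevOps.transfer st p₃ etR₃.2.2 (D' := D₃) hsm₃ hirr₃ hgen y₃ etD₃.2.2 (C' := C₃) (S' := S₃)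
    hcomm hψ hker q₃ (fun z' hz' h1 h2 => by rw [hz₃u z' hz' h1 h2]) g hg k hk⟩

end Groth.Agent.FlatMor62.DevMain
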