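import Groth.Agent.FlatMor62.DevChain
import Groth.Agent.FlatMor62.FieldFib
import Groth.Agent.S12243
import Groth.Agent.CAlg76.SmoothRelDim

/-!
# Operations on dévissage chains
-/

set_option autoImplicit false
set_option linter.style.haveILetI false
set_option linter.style.longLine false

universe u

open TensorProduct

namespace Groth.Agent.FlatMor62.DevOps

open Groth.Agent.FlatMor62.DevChain

theorem isPushout_self (R D : Type u) [CommRing R] [CommRing D] [Algebra R D] : Algebra.IsPushout R D R D := by
  refine Algebra.IsPushout.symm ⟨?_⟩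
  exact IsBaseChange.of_equiv (TensorProduct.lid R D) fun x => by simp

theorem isPrime_map_self {R D : Type u} [CommRing R] [CommRing D] [Algebra R D] {n : ℕ}
    (hsm : FlatCA.SmoothRelDim n R D) (hirr : FlatCA.GeomIrredFibres R D) (p : Ideal R) [p.IsPrime] :
    (p.map (algebraMap R D)).IsPrime := by
  haveI := CAlg76.SmoothRelDim.smooth_of_rel hsm
  haveI := isPushout_self R D
  exact RG.FreeBlow.isPrime_map (S := D)
    (fun K _ _ => RG.ContentExists.isDomain_fibre (HP.DevStep.geomIntegral hirr) K) R D p

section pushout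

variable {R R' S S' : Type u} [CommRing R] [CommRing R'] [CommRing S] [CommRing S']
  [Algebra R R'] [Algebra R S] [Algebra R S'] [Algebra R' S'] [Algebra S S'] [IsScalarTower R R' S']
  [IsScalarTower R S S'] [Algebra.IsPushout R R' S S']
  (p : Ideal R) [p.IsPrime] (p' : Ideal R') [p'.IsPrime] [p'.LiesOver p] (q : Ideal S) [q.IsPrime] [q.LiesOver p]

/-- The point of a pushout over a point with trivial residue extension. -/
theorem exists_point (hκ : Function.Bijective (Ideal.ResidueField.mapₐ p p' (Algebra.ofId R R') (p'.over_def p))) :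
    ∃ Q : Ideal S', Q.IsPrime ∧ Q.comap (algebraMap R' S') = p' ∧ Q.comap (algebraMap S S') = q ∧
      (∀ [Q.IsPrime] (h : q = Q.comap (algebraMap S S')),
        Function.Bijective (Ideal.ResidueField.map q Q (algebraMap S S') h)) ∧
      ∀ Q' : Ideal S', Q'.IsPrime → Q'.comap (algebraMap R' S') = p' → Q'.comap (algebraMap S S') = q → Q' = Q := by
  obtain ⟨Q₀, hQ₀, h1, h2, h3, h4⟩ := FieldFib.existsUnique_prime (S := S) p p' q hκ
  haveI := hQ₀
  let e := Algebra.IsPushout.equiv R R' S S'
  let g : S' →+* R' ⊗[R] S := e.symm.toRingEquiv.toRingHom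
  have hgR : g.comp (algebraMap R' S') = algebraMap R' (R' ⊗[R] S) := RingHom.ext fun x => e.symm.commutes x
  have hgS : g.comp (algebraMap S S') = (Algebra.TensorProduct.includeRight : S →ₐ[R] R' ⊗[R] S).toRingHom :=
    RingHom.ext fun x => Algebra.IsPushout.equiv_symm_algebraMap_right R R' S S' x
  have hq : (Q₀.comap g).comap (algebraMap S S') = q := by rw [Ideal.comap_comap, hgS]; exact h2
  refine ⟨Q₀.comap g, inferInstance, by rw [Ideal.comap_comap, hgR]; exact h1, hq, fun {_} h => ?_,
    fun Q' hQ' ha hb => ?_⟩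
  · have hb := h3 (h2.symm : q = Q₀.comap _)
    have e1 : Ideal.ResidueField.map q Q₀ (Algebra.TensorProduct.includeRight : S →ₐ[R] R' ⊗[R] S).toRingHom h2.symm =
        (Ideal.ResidueField.map (Q₀.comap g) Q₀ g rfl).comp (Ideal.ResidueField.map q (Q₀.comap g) (algebraMap S S') h) := by
      refine Ideal.ResidueField.ringHom_ext (RingHom.ext fun a => ?_)
      simp only [RingHom.comp_apply, Ideal.ResidueField.map_algebraMap, ← hgS]
    rw [e1] at hb
    refine ⟨RingHom.injective _, fun w => ?_⟩
    obtain ⟨v, hv⟩ := hb.2 (Ideal.ResidueField.map (Q₀.comap g) Q₀ g rfl w)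
    exact ⟨v, (Ideal.ResidueField.map (Q₀.comap g) Q₀ g rfl).injective hv⟩
  · let g' : R' ⊗[R] S →+* S' := e.toRingEquiv.toRingHom
    have hgg : g'.comp g = RingHom.id S' := RingHom.ext fun x => e.apply_symm_apply x
    have h5 : Q'.comap g' = Q₀ := by
      refine h4 _ inferInstance ?_ ?_
      · rw [Ideal.comap_comap, show g'.comp (algebraMap R' (R' ⊗[R] S)) = algebraMap R' S' from RingHom.ext fun x => e.commutes x]
        exact ha
      · rw [Ideal.comap_comap, show g'.comp (Algebra.TensorProduct.includeRight : S →ₐ[R] R' ⊗[R] S).toRingHom = algebraMap S S' from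
          RingHom.ext fun x => by rw [← hgS]; exact RingHom.congr_fun hgg _]
        exact hb
    rw [← h5, Ideal.comap_comap, hgg, Ideal.comap_id]

end pushout

theorem isPushout_quotient {S S' C C' : Type u} [CommRing S] [CommRing S'] [CommRing C] [CommRing C']
    [Algebra S S'] [Algebra S C] [Algebra S' C'] [Algebra C C'] [Algebra S C'] [IsScalarTower S S' C']
    [IsScalarTower S C C'] (hsurj : Function.Surjective (algebraMap S C))
    (hsurj' : Function.Surjective (algebraMap S' C'))
    (hker : RingHom.ker (algebraMap S' C') = (RingHom.ker (algebraMap S C)).map (algebraMap S S')) :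
    Algebra.IsPushout S S' C C' := by
  let μ : S' ⊗[S] C →ₐ[S'] C' :=
    Algebra.TensorProduct.lift (Algebra.ofId S' C') (IsScalarTower.toAlgHom S C C') fun _ _ => Commute.all _ _
  have hμ : ∀ s', μ (s' ⊗ₜ 1) = algebraMap S' C' s' := fun s' => by simp [μ, Algebra.ofId_apply]
  have hrep : ∀ w : S' ⊗[S] C, ∃ s' : S', w = s' ⊗ₜ 1 := by
    intro w
    induction w using TensorProduct.induction_on with
    | zero => exact ⟨0, (TensorProduct.zero_tmul _ _).symm⟩
    | add a b ha hb =>
      obtain ⟨a', rfl⟩ := ha
      obtain ⟨b', rfl⟩ := hb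
      exact ⟨a' + b', (TensorProduct.add_tmul _ _ _).symm⟩
    | tmul a c =>
      obtain ⟨s, rfl⟩ := hsurj c
      exact ⟨s • a, by rw [Algebra.algebraMap_eq_smul_one, TensorProduct.smul_tmul]⟩
  have hbij : Function.Bijective μ := by
    refine ⟨(injective_iff_map_eq_zero μ).mpr fun w hw => ?_, fun c => ?_⟩
    · obtain ⟨s', rfl⟩ := hrep w
      have hmem : s' ∈ (RingHom.ker (algebraMap S C)).map (algebraMap S S') := by
        rw [← hker]; exact (hμ s').symm.trans hw
      have hle : (RingHom.ker (algebraMap S C)).map (algebraMap S S') ≤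
          RingHom.ker (Algebra.TensorProduct.includeLeft : S' →ₐ[S'] S' ⊗[S] C).toRingHom := by
        refine Ideal.map_le_iff_le_comap.mpr fun i hi => ?_
        show algebraMap S S' i ⊗ₜ[S] (1 : C) = 0
        rw [Algebra.algebraMap_eq_smul_one, TensorProduct.smul_tmul, ← Algebra.algebraMap_eq_smul_one,
          RingHom.mem_ker.mp hi, TensorProduct.tmul_zero]
      exact hle hmem
    · obtain ⟨s', rfl⟩ := hsurj' c
      exact ⟨_, hμ s'⟩
  exact ⟨IsBaseChange.of_equiv ((AlgEquiv.ofBijective μ hbij).toLinearEquiv) fun x => by simp [μ]⟩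

variable {R S : Type u} [CommRing R] [CommRing S] [Algebra R S] {N : Type u} [AddCommGroup N]
  [Module S N] {p : Ideal R} [p.IsPrime] {q : Ideal S}

set_option maxHeartbeats 1000000 in
/-- Transfer of a step along compatible maps. -/
theorem transfer (st : Step R S N p q)
    {R' : Type u} [CommRing R'] [Algebra R R'] (p' : Ideal R') [p'.IsPrime] [p'.LiesOver p]
    (hκ : Function.Bijective (Ideal.ResidueField.mapₐ p p' (Algebra.ofId R R') (p'.over_def p)))
    {D' : Type u} [CommRing D'] [Algebra st.D D'] [Algebra R' D'] [Algebra R D'] [IsScalarTower R R' D']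
    [IsScalarTower R st.D D']
    (hsm : FlatCA.SmoothRelDim st.d R' D') (hirr : FlatCA.GeomIrredFibres R' D')
    (hgen : ∃ Q : Ideal D', Q.IsPrime ∧ Q.comap (algebraMap R' D') = p' ∧
      Q.comap (algebraMap st.D D') = p.map (algebraMap R st.D))
    (y' : Ideal D') [y'.IsPrime] [y'.LiesOver p'] [y'.LiesOver st.y]
    (hy : Function.Bijective (Ideal.ResidueField.mapₐ st.y y' (Algebra.ofId st.D D') (y'.over_def st.y)))
    {C' : Type u} [CommRing C'] [Algebra st.C C'] [Algebra D' C'] [Algebra st.D C']
    [IsScalarTower st.D D' C'] [IsScalarTower st.D st.C C'] [Algebra.IsPushout st.D D' st.C C']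
    [Algebra R' C'] [IsScalarTower R' D' C']
    {S' : Type u} [CommRing S'] [Algebra S S'] [Algebra R' S'] [Algebra S' C'] [IsScalarTower R' S' C']
    (hcomm : (algebraMap S' C').comp (algebraMap S S') = (algebraMap st.C C').comp (algebraMap S st.C))
    (hsurj : Function.Surjective (algebraMap S' C'))
    (hker : RingHom.ker (algebraMap S' C') = (RingHom.ker (algebraMap S st.C)).map (algebraMap S S'))
    (q' : Ideal S')
    (hq' : ∀ z' : Ideal C', z'.IsPrime → z'.comap (algebraMap D' C') = y' → z'.comap (algebraMap st.C C') = st.z →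
      z'.comap (algebraMap S' C') = q')
    {N' : Type u} [AddCommGroup N'] [Module S' N'] [Module S N'] [IsScalarTower S S' N'] (f : N →ₗ[S] N')
    (hf : IsBaseChange S' f) (k : ℕ)
    (hK : Subsingleton (D' ⊗[st.D] st.K) ∨ Dev k R' D' (D' ⊗[st.D] st.K) p' y') :
    Dev (k + 1) R' S' N' p' q' := by
  classical
  haveI := st.finD
  haveI := st.finG
  haveI := st.fp
  haveI hP' : (p'.map (algebraMap R' D')).IsPrime := isPrime_map_self hsm hirr p'
  letI : Algebra S C' := ((algebraMap st.C C').comp (algebraMap S st.C)).toAlgebra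
  haveI : IsScalarTower S st.C C' := IsScalarTower.of_algebraMap_eq fun _ => rfl
  haveI : IsScalarTower S S' C' := IsScalarTower.of_algebraMap_eq fun x => (RingHom.congr_fun hcomm x).symm
  haveI := isPushout_quotient st.surj hsurj hker
  haveI : Algebra.FinitePresentation S' C' := by
    refine Algebra.FinitePresentation.of_surjective (f := Algebra.ofId S' C') hsurj ?_
    rw [show RingHom.ker (Algebra.ofId S' C').toRingHom = _ from hker]
    exact (Algebra.FinitePresentation.ker_fG_of_surjective (Algebra.ofId S st.C) st.surj).map _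
  haveI : Module.Finite D' C' := Module.Finite.equiv (Algebra.IsPushout.equiv st.D D' st.C C').toLinearEquiv
  let G' : Type u := C' ⊗[st.C] st.G
  haveI : IsScalarTower st.D D' G' := IsScalarTower.of_algebraMap_smul fun a x => by
    rw [← algebraMap_smul C' (algebraMap st.D D' a) x, ← IsScalarTower.algebraMap_apply, algebraMap_smul]
  haveI : IsScalarTower st.D st.C G' := IsScalarTower.of_algebraMap_smul fun a x => by
    rw [← algebraMap_smul C' (algebraMap st.D st.C a) x, ← IsScalarTower.algebraMap_apply, algebraMap_smul]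
  let g : st.G →ₗ[st.C] G' := (TensorProduct.mk st.C C' st.G) 1
  have hg : IsBaseChange C' g := TensorProduct.isBaseChange st.C st.G C'
  have hgD : IsBaseChange D' (g.restrictScalars st.D) := S12243.isBaseChange_restrict g hg
  haveI : IsScalarTower S S' G' := IsScalarTower.of_algebraMap_smul fun a x => by
    rw [← algebraMap_smul C' (algebraMap S S' a) x, ← IsScalarTower.algebraMap_apply, algebraMap_smul]
  haveI : IsScalarTower S st.C G' := IsScalarTower.of_algebraMap_smul fun a x => by
    rw [← algebraMap_smul C' (algebraMap S st.C a) x, ← IsScalarTower.algebraMap_apply, algebraMap_smul]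
  have hgS : IsBaseChange S' (g.restrictScalars S) := S12243.isBaseChange_restrict g hg
  let eN : N' ≃ₗ[S'] G' := hf.equiv.symm ≪≫ₗ (LinearEquiv.baseChange S S' _ _ st.iso) ≪≫ₗ hgS.equiv
  let α' : (Fin st.r → D') →ₗ[D'] G' := Fintype.linearCombination D' fun m => g (st.α (Pi.single m 1))
  have hα' : ∀ m, α' (Pi.single m 1) = (g.restrictScalars st.D) (st.α (Pi.single m 1)) := fun m => by
    simp only [α']
    rw [Fintype.linearCombination_apply_single, one_smul]
    rfl
  let P : Ideal st.D := p.map (algebraMap R st.D)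
  let P' : Ideal D' := p'.map (algebraMap R' D')
  have hPP : P = P'.comap (algebraMap st.D D') := by
    refine le_antisymm (Ideal.map_le_iff_le_comap.mpr fun x hx => ?_) ?_
    · show algebraMap st.D D' (algebraMap R st.D x) ∈ P'
      rw [← IsScalarTower.algebraMap_apply, IsScalarTower.algebraMap_apply R R' D']
      exact Ideal.mem_map_of_mem _ ((Ideal.mem_of_liesOver p' p x).mp hx)
    · obtain ⟨Q, _, h1, h2⟩ := hgen
      exact (Ideal.comap_mono (Ideal.map_le_iff_le_comap.mpr h1.ge)).trans h2.le
  letI : Algebra P.ResidueField P'.ResidueField :=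
    (Ideal.ResidueField.map P P' (algebraMap st.D D') hPP).toAlgebra
  haveI : IsScalarTower st.D P.ResidueField P'.ResidueField := IsScalarTower.of_algebraMap_eq fun x => by
    rw [RingHom.algebraMap_toAlgebra, IsScalarTower.algebraMap_apply st.D D' P'.ResidueField]
    exact (Ideal.ResidueField.map_algebraMap _ _ _ _ _).symm
  have hbij : Function.Bijective (α'.baseChange P'.ResidueField) :=
    S12243.bijective_baseChange_fibre (g.restrictScalars st.D) hgD st.α α' hα' P.ResidueField P'.ResidueField st.bij
  obtain ⟨z', hz', hzy', hzz, -, hzu⟩ := exists_point (S := st.C) (S' := C') st.y y' st.z hy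
  haveI := hz'
  haveI : z'.LiesOver y' := ⟨hzy'.symm⟩
  have huniq : ∀ (z₁ : Ideal C') [z₁.IsPrime], z₁.LiesOver y' → z₁ = z' := by
    intro z₁ _ h₁
    refine hzu z₁ inferInstance h₁.over.symm (st.uniq _ ⟨?_⟩)
    rw [Ideal.under_def, Ideal.comap_comap, ← IsScalarTower.algebraMap_eq, IsScalarTower.algebraMap_eq st.D D' C',
      ← Ideal.comap_comap, show z₁.comap (algebraMap D' C') = y' from h₁.over.symm]
    exact y'.over_def st.y
  have hpt : FlatCA.PurelyTranscendental p' y' := by
    refine FieldFib.purelyTranscendental_of_equiv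
      (Ideal.ResidueField.mapₐ p p' (Algebra.ofId R R') (p'.over_def p)).toRingHom hκ
      (Ideal.ResidueField.mapₐ st.y y' (Algebra.ofId st.D D') (y'.over_def st.y)).toRingHom hy (fun a => ?_) st.pureTrans
    let g₁ := ((Ideal.ResidueField.mapₐ st.y y' (Algebra.ofId st.D D') (y'.over_def st.y)).restrictScalars R).comp
      (Ideal.ResidueField.mapₐ p st.y (Algebra.ofId R st.D) (st.y.over_def p))
    let g₂ := ((Ideal.ResidueField.mapₐ p' y' (Algebra.ofId R' D') (y'.over_def p')).restrictScalars R).comp
      (Ideal.ResidueField.mapₐ p p' (Algebra.ofId R R') (p'.over_def p))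
    have e : g₁.toRingHom = g₂.toRingHom :=
      Ideal.ResidueField.ringHom_ext (RingHom.ext fun x => (g₁.commutes x).trans (g₂.commutes x).symm)
    exact RingHom.congr_fun e a
  let st' : Step R' S' N' p' q' :=
    { C := C', D := D', G := G', d := st.d, r := st.r, α := α', z := z', y := y'
      zq := hq' z' hz' hzy' hzz
      surj := hsurj, fp := inferInstance, finD := inferInstance, finG := inferInstance
      smooth := hsm, irred := hirr, uniq := huniq, pureTrans := hpt, iso := eN, bij := hbij, rpos := st.rpos }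
  refine ⟨st', ?_⟩
  have hrange : LinearMap.range α' =
      Submodule.span D' ((g.restrictScalars st.D) '' (LinearMap.range st.α : Set st.G)) := by
    refine le_antisymm ?_ (Submodule.span_le.mpr ?_)
    · rintro _ ⟨v, rfl⟩
      rw [pi_eq_sum_univ' v, map_sum]
      refine Submodule.sum_mem _ fun m _ => ?_
      rw [map_smul, hα']
      exact Submodule.smul_mem _ _ (Submodule.subset_span ⟨_, ⟨_, rfl⟩, rfl⟩)
    · rintro _ ⟨_, ⟨v, rfl⟩, rfl⟩
      rw [pi_eq_sum_univ' v, map_sum, map_sum]
      refine Submodule.sum_mem _ fun m _ => ?_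
      rw [map_smul, map_smul, ← algebraMap_smul D']
      exact Submodule.smul_mem _ _ ⟨Pi.single m 1, hα' m⟩
  obtain ⟨e⟩ := S12243.coker_baseChange (g.restrictScalars st.D) hgD ((TensorProduct.mk st.D D' st.K) 1)
    (TensorProduct.isBaseChange st.D st.K D') (LinearMap.range st.α).mkQ (Submodule.mkQ_surjective _)
  rw [Submodule.ker_mkQ] at e
  let e' : (G' ⧸ LinearMap.range α') ≃ₗ[D'] D' ⊗[st.D] st.K := (Submodule.quotEquivOfEq _ _ hrange).trans e
  rcases hK with h | h
  · left
    haveI := e'.injective.subsingleton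
    exact LinearMap.range_eq_top.mp (Submodule.Quotient.subsingleton_iff.mp inferInstance)
  · exact Or.inr (h.congr e'.symm)

end Groth.Agent.FlatMor62.DevOps
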