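import Groth.Agent.FlatMor62.DevOps
import Groth.Agent.FlatMor62.LocalStruct
import Mathlib.RingTheory.Flat.Stability

/-!
# Base change and shrinking of dévissage chains
-/

set_option autoImplicit false
set_option linter.style.haveILetI false
set_option linter.style.longLine false

universe u

open TensorProduct

namespace Groth.Agent.FlatMor62.DevOps

open Groth.Agent.FlatMor62.DevChain

attribute [local instance] Algebra.TensorProduct.rightAlgebra

set_option maxHeartbeats 1000000 in
/-- Dévissages are stable under base change with trivial residue extension. -/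
theorem baseChange : ∀ (k : ℕ) {R S : Type u} [CommRing R] [CommRing S] [Algebra R S] {N : Type u} [AddCommGroup N]
    [Module S N] {p : Ideal R} [p.IsPrime] {q : Ideal S}, Dev k R S N p q →
    ∀ {R' : Type u} [CommRing R'] [Algebra R R'] (p' : Ideal R') [p'.IsPrime] [p'.LiesOver p],
    Function.Bijective (Ideal.ResidueField.mapₐ p p' (Algebra.ofId R R') (p'.over_def p)) →
    ∀ {S' : Type u} [CommRing S'] [Algebra R' S'] [Algebra R S'] [Algebra S S'] [IsScalarTower R R' S']
      [IsScalarTower R S S'] [Algebra.IsPushout R R' S S'] (q' : Ideal S') [q'.IsPrime],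
      q'.comap (algebraMap R' S') = p' → q'.comap (algebraMap S S') = q →
    ∀ {N' : Type u} [AddCommGroup N'] [Module S' N'] [Module S N'] [IsScalarTower S S' N'] (f : N →ₗ[S] N'),
      IsBaseChange S' f → Dev k R' S' N' p' q' := by
  intro k
  induction k with
  | zero =>
    exact fun h => h.elim
  | succ k ih =>
    intro R S _ _ _ N _ _ p _ q h R' _ _ p' _ _ hκ S' _ _ _ _ _ _ _ q' _ hq1 hq2 N' _ _ _ _ f hf
    obtain ⟨st, hst⟩ := h
    haveI hqP : q.IsPrime := st.zq ▸ inferInstance
    haveI : q.LiesOver p := ⟨by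
      rw [Ideal.under_def, ← st.zq, Ideal.comap_comap, ← IsScalarTower.algebraMap_eq,
        IsScalarTower.algebraMap_eq R st.D st.C, ← Ideal.comap_comap, show st.z.comap (algebraMap st.D st.C) = st.y from
          (Ideal.LiesOver.over (p := st.y) (P := st.z)).symm]
      exact st.yp.over⟩
    let D' := R' ⊗[R] st.D
    let C' := R' ⊗[R] st.C
    letI aDC' : Algebra D' C' :=
      (Algebra.TensorProduct.map (AlgHom.id R' R') (IsScalarTower.toAlgHom R st.D st.C)).toRingHom.toAlgebra
    haveI : IsScalarTower R' D' C' := IsScalarTower.of_algebraMap_eq fun x => (AlgHom.commutes _ x).symm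
    letI : Algebra st.D C' := ((algebraMap st.C C').comp (algebraMap st.D st.C)).toAlgebra
    haveI : IsScalarTower st.D st.C C' := IsScalarTower.of_algebraMap_eq fun _ => rfl
    haveI : IsScalarTower st.D D' C' := IsScalarTower.of_algebraMap_eq fun x => by
      show (1 : R') ⊗ₜ[R] algebraMap st.D st.C x = (Algebra.TensorProduct.map (AlgHom.id R' R') (IsScalarTower.toAlgHom R st.D st.C)) ((1 : R') ⊗ₜ[R] x)
      rfl
    haveI : IsScalarTower R D' C' := IsScalarTower.of_algebraMap_eq fun x => by
      rw [IsScalarTower.algebraMap_apply R R' C', IsScalarTower.algebraMap_apply R' D' C',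
        ← IsScalarTower.algebraMap_apply R R' D']
    haveI : Algebra.IsPushout st.D D' st.C C' :=
      haveI : Algebra.IsPushout R st.D R' D' := Algebra.IsPushout.symm inferInstance
      Algebra.IsPushout.symm ((Algebra.IsPushout.comp_iff (R := R) (S := st.D) (R' := R') (S' := D')
        (T := st.C) (T' := C')).mp (Algebra.IsPushout.symm inferInstance))
    have hsm : FlatCA.SmoothRelDim st.d R' D' := by
      haveI := AlgebraicGeometry.smoothOfRelativeDimension_isStableUnderBaseChange.{u} (n := st.d)
      exact S12231.of_isPushout_spec _ R R' st.D D' st.smooth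
    have hirr : FlatCA.GeomIrredFibres R' D' := S12231.of_isPushout_spec _ R R' st.D D' st.irred
    obtain ⟨y', hy', hy1, hy2, hyb, -⟩ := exists_point (S := st.D) (S' := D') p p' st.y hκ
    haveI := hy'
    haveI : y'.LiesOver p' := ⟨hy1.symm⟩
    haveI : y'.LiesOver st.y := ⟨hy2.symm⟩
    have hPc : (p.map (algebraMap R st.D)).comap (algebraMap R st.D) = p := DevDim.comap_map_eq p st.y
    haveI : Algebra.IsPushout R st.D R' D' := Algebra.IsPushout.symm inferInstance
    obtain ⟨Q, hQ, hQ1, hQ2⟩ := FlatMor.FlatAtBC.exists_prime_of_pushout p (p.map (algebraMap R st.D)) p' (S' := D') hPc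
      (p'.over_def p).symm
    let eS := Algebra.IsPushout.equiv R R' S S'
    let m : R' ⊗[R] S →ₐ[R'] C' :=
      Algebra.TensorProduct.map (AlgHom.id R' R') (IsScalarTower.toAlgHom R S st.C)
    let ψ : S' →ₐ[R'] C' := m.comp eS.symm.toAlgHom
    letI : Algebra S' C' := ψ.toRingHom.toAlgebra
    haveI : IsScalarTower R' S' C' := IsScalarTower.of_algebraMap_eq' ψ.comp_algebraMap.symm
    have hm : Function.Surjective m :=
      Algebra.TensorProduct.map_surjective (AlgHom.id R' R') _ Function.surjective_id st.surj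
    have hcomm : (algebraMap S' C').comp (algebraMap S S') = (algebraMap st.C C').comp (algebraMap S st.C) := by
      ext x
      show m (eS.symm (algebraMap S S' x)) = (1 : R') ⊗ₜ[R] algebraMap S st.C x
      rw [Algebra.IsPushout.equiv_symm_algebraMap_right]
      rfl
    have hker : RingHom.ker (algebraMap S' C') = (RingHom.ker (algebraMap S st.C)).map (algebraMap S S') := by
      let m₀ : R' ⊗[R] S →ₐ[R] C' := Algebra.TensorProduct.map (AlgHom.id R R') (IsScalarTower.toAlgHom R S st.C)
      have h0 := Algebra.TensorProduct.lTensor_ker (A := R') (IsScalarTower.toAlgHom R S st.C) st.surj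
      ext x
      show m (eS.symm x) = 0 ↔ _
      have h1 : m (eS.symm x) = 0 ↔ eS.symm x ∈ (RingHom.ker (algebraMap S st.C)).map
          (Algebra.TensorProduct.includeRight : S →ₐ[R] R' ⊗[R] S).toRingHom :=
        Iff.of_eq (congrArg (eS.symm x ∈ ·) h0)
      have h3 : eS.symm x ∈ (RingHom.ker (algebraMap S st.C)).map
          (Algebra.TensorProduct.includeRight : S →ₐ[R] R' ⊗[R] S).toRingHom ↔
          x ∈ ((RingHom.ker (algebraMap S st.C)).map
            (Algebra.TensorProduct.includeRight : S →ₐ[R] R' ⊗[R] S).toRingHom).comap eS.symm.toRingEquiv.toRingHom :=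
        Iff.rfl
      rw [h1, h3]
      have h2 : eS.symm.toRingEquiv.toRingHom.comp (algebraMap S S') =
          (Algebra.TensorProduct.includeRight : S →ₐ[R] R' ⊗[R] S).toRingHom :=
        RingHom.ext fun s => Algebra.IsPushout.equiv_symm_algebraMap_right R R' S S' s
      rw [← h2, ← Ideal.map_map, Ideal.comap_map_of_bijective eS.symm.toRingEquiv.toRingHom eS.symm.toRingEquiv.bijective]
    refine transfer st p' hκ hsm hirr ⟨Q, hQ, hQ2, hQ1⟩ y' (hyb hy2.symm) hcomm (hm.comp eS.symm.surjective) hker q'
      (fun z' hz' hzy hzz => ?_) f hf k ?_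
    · obtain ⟨Q₁, _, -, -, -, hu⟩ := exists_point (S := S) (S' := S') p p' q hκ
      rw [hu q' inferInstance hq1 hq2]
      refine hu _ inferInstance ?_ ?_
      · rw [Ideal.comap_comap, ← IsScalarTower.algebraMap_eq, IsScalarTower.algebraMap_eq R' D' C', ← Ideal.comap_comap,
          hzy]
        exact hy1
      · rw [Ideal.comap_comap, hcomm, ← Ideal.comap_comap, hzz]
        exact st.zq
    · rcases hst with hs | hs
      · left
        haveI : Subsingleton st.K := Submodule.Quotient.subsingleton_iff.mpr (LinearMap.range_eq_top.mpr hs)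
        infer_instance
      · exact Or.inr (ih hs p' hκ y' hy1 hy2 ((TensorProduct.mk st.D D' st.K) 1)
          (TensorProduct.isBaseChange st.D st.K D'))

set_option maxHeartbeats 1000000 in
/-- Standard shrinking of a dévissage inside `D(u)`. -/
theorem shrink : ∀ (k : ℕ) {R S : Type u} [CommRing R] [CommRing S] [Algebra R S] {N : Type u} [AddCommGroup N]
    [Module S N] {p : Ideal R} [p.IsPrime] {q : Ideal S}, Dev k R S N p q →
    ∀ u : S, u ∉ q → ∃ g : R, g ∉ p ∧ ∃ h : S, h ∉ q ∧ u ∣ h ∧
      ∀ g' : R, g' ∉ p → g ∣ g' →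
      ∀ {R' : Type u} [CommRing R'] [Algebra R R'] [IsLocalization.Away g' R'] (p' : Ideal R') [p'.IsPrime]
        [p'.LiesOver p] {S' : Type u} [CommRing S'] [Algebra S S'] [IsLocalization.Away (h * algebraMap R S g') S']
        [Algebra R' S'] [Algebra R S'] [IsScalarTower R R' S'] [IsScalarTower R S S']
        (q' : Ideal S') [q'.IsPrime], q'.comap (algebraMap S S') = q →
      ∀ {N' : Type u} [AddCommGroup N'] [Module S' N'] [Module S N'] [IsScalarTower S S' N'] (f : N →ₗ[S] N'),
        IsBaseChange S' f → Dev k R' S' N' p' q' := by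
  intro k
  induction k with
  | zero => exact fun h => h.elim
  | succ k ih =>
    intro R S _ _ _ N _ _ p _ q h u hu
    obtain ⟨st, hst⟩ := h
    haveI := st.finD
    haveI hqP : q.IsPrime := st.zq ▸ inferInstance
    obtain ⟨w, c, hwc, hwy⟩ : ∃ w c, algebraMap S st.C u * c = algebraMap st.D st.C w ∧ w ∉ st.y := by
      by_contra hne
      push Not at hne
      have hle : (Ideal.span {algebraMap S st.C u}).comap (algebraMap st.D st.C) ≤ st.y := fun w hw => by
        obtain ⟨c, hc⟩ := Ideal.mem_span_singleton'.mp hw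
        exact hne w c (by rw [mul_comm]; exact hc)
      obtain ⟨z₁, hz₁u, hz₁, hz₁y⟩ := Ideal.exists_ideal_over_prime_of_isIntegral st.y _ hle
      haveI := hz₁
      have hz₁z : z₁ = st.z := st.uniq z₁ ⟨hz₁y.symm⟩
      refine hu ?_
      rw [← st.zq, ← hz₁z]
      exact hz₁u (Ideal.mem_span_singleton_self _)
    have htail : ∃ g₁ : R, g₁ ∉ p ∧ ∃ h₁ : st.D, h₁ ∉ st.y ∧ w ∣ h₁ ∧
        ∀ g' : R, g' ∉ p → g₁ ∣ g' →
        ∀ {R' : Type u} [CommRing R'] [Algebra R R'] [IsLocalization.Away g' R'] (p' : Ideal R') [p'.IsPrime]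
          [p'.LiesOver p] {D' : Type u} [CommRing D'] [Algebra st.D D']
          [IsLocalization.Away (h₁ * algebraMap R st.D g') D'] [Algebra R' D'] [Algebra R D']
          [IsScalarTower R R' D'] [IsScalarTower R st.D D'] (y' : Ideal D') [y'.IsPrime],
          y'.comap (algebraMap st.D D') = st.y →
          Subsingleton (D' ⊗[st.D] st.K) ∨ Dev k R' D' (D' ⊗[st.D] st.K) p' y' := by
      rcases hst with hs | hs
      · refine ⟨1, fun h1 => (inferInstance : p.IsPrime).ne_top ((Ideal.eq_top_iff_one _).mpr h1), w, hwy,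
          dvd_rfl, fun _ _ _ => ?_⟩
        intro _ _ _ _ _ _ _ _ _ _ _ _ _ _ _ _ _ _
        left
        haveI : Subsingleton st.K := Submodule.Quotient.subsingleton_iff.mpr (LinearMap.range_eq_top.mpr hs)
        infer_instance
      · obtain ⟨g₁, hg₁, h₁, hh₁, hdvd, H⟩ := ih hs w hwy
        refine ⟨g₁, hg₁, h₁, hh₁, hdvd, fun g' hg' hgg => ?_⟩
        intro R' _ _ _ p' _ _ D' _ _ _ _ _ _ _ y' _ hy'
        exact Or.inr (H g' hg' hgg p' y' hy' ((TensorProduct.mk st.D D' st.K) 1)
          (TensorProduct.isBaseChange st.D st.K D'))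
    obtain ⟨g₁, hg₁, h₁, hh₁, hwh₁, htail⟩ := htail
    haveI := CAlg76.SmoothRelDim.smooth_of_rel st.smooth
    obtain ⟨g₂, hg₂, hne₂⟩ : ∃ g₂ : R, g₂ ∉ p ∧ ∀ P : PrimeSpectrum R, g₂ ∉ P.asIdeal →
        ∃ Q : PrimeSpectrum st.D, h₁ ∉ Q.asIdeal ∧ PrimeSpectrum.comap (algebraMap R st.D) Q = P := by
      have hW : IsOpen (PrimeSpectrum.comap (algebraMap R st.D) '' (PrimeSpectrum.basicOpen h₁ : Set (PrimeSpectrum st.D))) :=
        PrimeSpectrum.isOpenMap_comap_of_hasGoingDown_of_finitePresentation _ (PrimeSpectrum.basicOpen _).2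
      obtain ⟨_, ⟨g₂, rfl⟩, hpg, hsub⟩ := PrimeSpectrum.isTopologicalBasis_basic_opens.exists_subset_of_mem_open
        (show (⟨p, inferInstance⟩ : PrimeSpectrum R) ∈
          (PrimeSpectrum.comap (algebraMap R st.D) '' (PrimeSpectrum.basicOpen h₁ : Set (PrimeSpectrum st.D))) from
          ⟨⟨st.y, inferInstance⟩, hh₁, PrimeSpectrum.ext (st.y.over_def p).symm⟩) hW
      refine ⟨g₂, hpg, fun P hP => ?_⟩
      obtain ⟨Q, hQ1, hQ2⟩ := hsub hP
      exact ⟨Q, hQ1, hQ2⟩
    obtain ⟨σ, hσ⟩ := st.surj (algebraMap st.D st.C h₁)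
    have hσq : σ ∉ q := fun hσ' => hh₁ (by
      rw [← st.zq, Ideal.mem_comap, hσ] at hσ'
      exact (Ideal.mem_of_liesOver st.z st.y h₁).mpr hσ')
    refine ⟨g₁ * g₂, fun hmem => ((inferInstance : p.IsPrime).mem_or_mem hmem).elim hg₁ hg₂, u * σ,
      fun hmem => (hqP.mem_or_mem hmem).elim hu hσq, dvd_mul_right u σ, fun g' hg' hgg => ?_⟩
    intro R' _ _ _ p' _ _ S' _ _ _ _ _ _ _ q' _ hq' N' _ _ _ _ f hf
    let δ : st.D := h₁ * algebraMap R st.D g'
    let D' := Localization.Away δ
    have hgD : IsUnit (algebraMap R D' g') := by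
      rw [IsScalarTower.algebraMap_apply R st.D D']
      exact isUnit_of_dvd_unit (map_dvd _ (dvd_mul_left _ _)) (IsLocalization.Away.algebraMap_isUnit δ)
    letI : Algebra R' D' := (IsLocalization.Away.lift (S := R') g' hgD).toAlgebra
    haveI : IsScalarTower R R' D' := IsScalarTower.of_algebraMap_eq fun x => (IsLocalization.Away.lift_eq g' hgD x).symm
    obtain ⟨hsm, hirr⟩ := S12242.smooth_geomIrred_shrink st.d st.smooth st.irred g' h₁ R' D' fun P hP =>
      hne₂ P fun hmem => hP (Ideal.mem_of_dvd _ ((dvd_mul_left g₂ g₁).trans hgg) hmem)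
    have hδy : δ ∉ st.y := fun hmem => ((inferInstance : st.y.IsPrime).mem_or_mem hmem).elim hh₁
      fun hmem' => hg' ((Ideal.mem_of_liesOver st.y p g').mpr hmem')
    have hdisj : Disjoint (Submonoid.powers δ : Set st.D) st.y :=
      (Ideal.disjoint_powers_iff_notMem_of_isPrime δ).mpr hδy
    let y' : Ideal D' := st.y.map (algebraMap st.D D')
    haveI : y'.IsPrime := IsLocalization.isPrime_of_isPrime_disjoint (Submonoid.powers δ) D' st.y inferInstance hdisj
    have hy' : y'.comap (algebraMap st.D D') = st.y :=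
      IsLocalization.under_map_of_isPrime_disjoint (Submonoid.powers δ) D' inferInstance hdisj
    haveI : y'.LiesOver st.y := ⟨hy'.symm⟩
    have hover : ∀ P : Ideal R', P.IsPrime → P.comap (algebraMap R R') = p → P = p' := fun P hP h => by
      have := PrimeSpectrum.localization_comap_injective R' (Submonoid.powers g')
        (show PrimeSpectrum.comap (algebraMap R R') ⟨P, hP⟩ = PrimeSpectrum.comap (algebraMap R R') ⟨p', inferInstance⟩ from
          PrimeSpectrum.ext (h.trans (p'.over_def p)))
      exact congrArg PrimeSpectrum.asIdeal this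
    have hyp : y'.comap (algebraMap R' D') = p' := hover _ inferInstance (by
      rw [Ideal.comap_comap, ← IsScalarTower.algebraMap_eq, IsScalarTower.algebraMap_eq R st.D D', ← Ideal.comap_comap, hy']
      exact (st.y.over_def p).symm)
    haveI : y'.LiesOver p' := ⟨hyp.symm⟩
    haveI : Module.Flat st.D D' := IsLocalization.flat D' (Submonoid.powers δ)
    let P := p.map (algebraMap R st.D)
    obtain ⟨Q, hQy, hQ, hQP⟩ := Ideal.exists_ideal_le_liesOver_of_le (R := st.D) (p := P) (q := st.y) y'
      (Ideal.map_le_iff_le_comap.mpr (st.y.over_def p).le)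
    have hQp : Q.comap (algebraMap R' D') = p' := hover _ (Ideal.comap_isPrime _ _) (by
      rw [Ideal.comap_comap, ← IsScalarTower.algebraMap_eq, IsScalarTower.algebraMap_eq R st.D D', ← Ideal.comap_comap,
        show Q.comap (algebraMap st.D D') = P from hQP.over.symm]
      exact DevDim.comap_map_eq p st.y)
    let C' := D' ⊗[st.D] st.C
    have hwu : IsUnit (algebraMap st.D D' w) :=
      isUnit_of_dvd_unit (map_dvd _ (hwh₁.trans (dvd_mul_right _ _))) (IsLocalization.Away.algebraMap_isUnit δ)
    have hDC : ∀ x : st.D, algebraMap st.C C' (algebraMap st.D st.C x) = algebraMap D' C' (algebraMap st.D D' x) := fun x => by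
      rw [← IsScalarTower.algebraMap_apply, ← IsScalarTower.algebraMap_apply]
    let v : S := (u * σ) * algebraMap R S g'
    have hunit : IsUnit (algebraMap st.C C' (algebraMap S st.C v)) := by
      have h1 : IsUnit (algebraMap st.C C' (algebraMap S st.C u)) := by
        refine isUnit_of_dvd_unit (map_dvd _ ⟨c, hwc.symm⟩) ?_
        rw [hDC]
        exact hwu.map _
      have h2 : IsUnit (algebraMap st.C C' (algebraMap S st.C (σ * algebraMap R S g'))) := by
        rw [map_mul (algebraMap S st.C), hσ, ← IsScalarTower.algebraMap_apply R S st.C,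
          IsScalarTower.algebraMap_apply R st.D st.C, ← map_mul, hDC]
        exact (IsLocalization.Away.algebraMap_isUnit δ).map _
      simp only [v, map_mul] at h2 ⊢
      rw [mul_assoc]
      exact h1.mul h2
    let ψ : S' →+* C' := IsLocalization.Away.lift (S := S') v (g := (algebraMap st.C C').comp (algebraMap S st.C)) hunit
    have hψ : ∀ s : S, ψ (algebraMap S S' s) = algebraMap st.C C' (algebraMap S st.C s) :=
      fun s => IsLocalization.Away.lift_eq v hunit s
    letI : Algebra S' C' := ψ.toAlgebra
    haveI : IsScalarTower R' D' C' := inferInstance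
    haveI : IsScalarTower R' S' C' := IsScalarTower.of_algebraMap_eq' (IsLocalization.ringHom_ext (Submonoid.powers g') (by
      ext x
      show algebraMap D' C' (algebraMap R' D' (algebraMap R R' x)) = ψ (algebraMap R' S' (algebraMap R R' x))
      rw [← IsScalarTower.algebraMap_apply R R' S', IsScalarTower.algebraMap_apply R S S', hψ,
        ← IsScalarTower.algebraMap_apply R R' D', IsScalarTower.algebraMap_apply R st.D D', ← hDC,
        ← IsScalarTower.algebraMap_apply R st.D st.C, ← IsScalarTower.algebraMap_apply R S st.C]))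
    have hcomm : (algebraMap S' C').comp (algebraMap S S') = (algebraMap st.C C').comp (algebraMap S st.C) :=
      RingHom.ext hψ
    have hσu : IsUnit (algebraMap S S' (σ * algebraMap R S g')) :=
      isUnit_of_dvd_unit (map_dvd _ ⟨u, by ring⟩) (IsLocalization.Away.algebraMap_isUnit v)
    have hψσ : ψ (algebraMap S S' (σ * algebraMap R S g')) = algebraMap D' C' (algebraMap st.D D' δ) := by
      rw [hψ, map_mul (algebraMap S st.C), hσ, ← IsScalarTower.algebraMap_apply R S st.C,
        IsScalarTower.algebraMap_apply R st.D st.C, ← map_mul, hDC]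
    have hsurj : Function.Surjective (algebraMap S' C') := by
      intro x
      show x ∈ ψ.range
      induction x using TensorProduct.induction_on with
      | zero => exact zero_mem _
      | add a b ha hb => exact add_mem ha hb
      | tmul d cc =>
        obtain ⟨⟨a, ⟨_, n, rfl⟩⟩, hd⟩ := IsLocalization.surj (Submonoid.powers δ) d
        obtain ⟨sa, hsa⟩ := st.surj (algebraMap st.D st.C a * cc)
        obtain ⟨t, ht⟩ := hσu.pow n
        refine ⟨(t⁻¹ : S'ˣ) * algebraMap S S' sa, ?_⟩
        have hu' : IsUnit (algebraMap D' C' (algebraMap st.D D' δ) ^ n) :=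
          ((IsLocalization.Away.algebraMap_isUnit δ).map _).pow n
        refine hu'.mul_left_cancel ?_
        conv_lhs => rw [← hψσ, ← map_pow, ← ht, ← map_mul, ← mul_assoc, Units.mul_inv, one_mul, hψ, hsa, map_mul, hDC]
        rw [← map_pow, ← map_pow, ← hd, map_mul]
        show (d ⊗ₜ[st.D] (1 : st.C)) * (algebraMap st.D D' (δ ^ n) ⊗ₜ[st.D] (1 : st.C)) * ((1 : D') ⊗ₜ[st.D] cc) =
          (algebraMap st.D D' (δ ^ n) ⊗ₜ[st.D] (1 : st.C)) * (d ⊗ₜ[st.D] cc)
        rw [Algebra.TensorProduct.tmul_mul_tmul, Algebra.TensorProduct.tmul_mul_tmul,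
          Algebra.TensorProduct.tmul_mul_tmul, one_mul, one_mul, mul_one, mul_comm d]
    have hker : RingHom.ker (algebraMap S' C') = (RingHom.ker (algebraMap S st.C)).map (algebraMap S S') := by
      refine le_antisymm (fun x hx => ?_) (Ideal.map_le_iff_le_comap.mpr fun i hi => ?_)
      · obtain ⟨⟨s, t⟩, hst'⟩ := IsLocalization.surj (Submonoid.powers v) x
        have h0 : (TensorProduct.mk st.D D' st.C) 1 (algebraMap S st.C s) = (TensorProduct.mk st.D D' st.C) 1 0 := by
          rw [map_zero]
          show algebraMap st.C C' (algebraMap S st.C s) = 0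
          rw [← hψ, ← hst', map_mul, show ψ x = 0 from hx, zero_mul]
        haveI : IsLocalizedModule (Submonoid.powers δ) ((TensorProduct.mk st.D D' st.C) 1) :=
          (isLocalizedModule_iff_isBaseChange (Submonoid.powers δ) D' _).mpr (TensorProduct.isBaseChange st.D st.C D')
        obtain ⟨⟨_, n, rfl⟩, hn⟩ := IsLocalizedModule.exists_of_eq (S := Submonoid.powers δ) h0
        simp only [smul_zero, Submonoid.smul_def, Algebra.smul_def] at hn
        have hsI : (σ * algebraMap R S g') ^ n * s ∈ RingHom.ker (algebraMap S st.C) := by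
          rw [RingHom.mem_ker, map_mul, map_pow, map_mul, hσ, ← IsScalarTower.algebraMap_apply R S st.C,
            IsScalarTower.algebraMap_apply R st.D st.C, ← map_mul, ← map_pow]
          exact hn
        have hmem := Ideal.mem_map_of_mem (algebraMap S S') hsI
        rw [map_mul, map_pow, ← hst'] at hmem
        exact (Ideal.mul_unit_mem_iff_mem _ (IsLocalization.map_units S' t)).mp
          ((Ideal.unit_mul_mem_iff_mem _ (hσu.pow n)).mp hmem)
      · show ψ (algebraMap S S' i) = 0
        rw [hψ, RingHom.mem_ker.mp hi, map_zero]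
    refine transfer st p' (LocalStruct.bijective_map_of_isLocalization (Submonoid.powers g') p p' (p'.over_def p))
      hsm hirr ⟨Q, hQ, hQp, hQP.over.symm⟩ y'
      (LocalStruct.bijective_map_of_isLocalization (Submonoid.powers δ) st.y y' (y'.over_def st.y))
      hcomm hsurj hker q' (fun z' hz' hzy hzz => ?_) f hf k
      (htail g' hg' ((dvd_mul_right g₁ g₂).trans hgg) p' y' hy')
    have e : (z'.comap (algebraMap S' C')).comap (algebraMap S S') = q'.comap (algebraMap S S') := by
      rw [Ideal.comap_comap, hcomm, ← Ideal.comap_comap, hzz, hq']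
      exact st.zq
    have := PrimeSpectrum.localization_comap_injective S' (Submonoid.powers v)
      (show PrimeSpectrum.comap (algebraMap S S') ⟨z'.comap (algebraMap S' C'), inferInstance⟩ =
          PrimeSpectrum.comap (algebraMap S S') ⟨q', inferInstance⟩ from PrimeSpectrum.ext e)
    exact congrArg PrimeSpectrum.asIdeal this

end Groth.Agent.FlatMor62.DevOps
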