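import Groth.Prelude.Def_FlatCA
import Groth.Agent.CycLib.DimFormula
import Mathlib.RingTheory.Flat.Tensor
import Mathlib.RingTheory.Localization.BaseChange

/-!
# Flatness at primes and in dimensions `≥ n`: transfer along finite algebras and universally injective maps
-/

set_option autoImplicit false
set_option linter.style.haveILetI false

universe u

open TensorProduct

namespace Groth.Agent.FlatMor62.DimGE

section Crit

variable {A S : Type u} [CommRing A] [CommRing S] [Algebra A S] {G : Type u} [AddCommGroup G] [Module S G]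
  [Module A G] [IsScalarTower A S G]

/-- Flatness at a prime, element by element. -/
theorem flatAt_iff (Q : Ideal S) [Q.IsPrime] :
    FlatCA.FlatAt A Q G ↔ ∀ (J : Ideal A) (y : G ⊗[A] J),
      LinearMap.lTensor G J.subtype y = 0 → ∃ c ∉ Q, c • y = 0 := by
  let T := Q.primeCompl
  let L := LocalizedModule T G
  let η := LocalizedModule.mkLinearMap T G
  have hsq : ∀ (J : Ideal A) (y : G ⊗[A] J), AlgebraTensorModule.rTensor A A η (LinearMap.lTensor G J.subtype y) =
      LinearMap.lTensor L J.subtype (AlgebraTensorModule.rTensor A J η y) := fun J y => by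
    induction y using TensorProduct.induction_on with
    | zero => simp
    | tmul a b => simp
    | add a b ha hb => rw [map_add, map_add, map_add, map_add, ha, hb]
  constructor
  · intro h J y hy
    haveI : Module.Flat A L := h
    have h1 : AlgebraTensorModule.rTensor A J η y = 0 :=
      Module.Flat.lTensor_preserves_injective_linearMap (M := L) J.subtype J.injective_subtype
        (by rw [← hsq, hy, map_zero, map_zero])
    obtain ⟨c, hc⟩ := IsLocalizedModule.exists_of_eq (S := T) (f := AlgebraTensorModule.rTensor A J η)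
      (h1.trans (map_zero _).symm)
    exact ⟨c, c.2, by simpa [Submonoid.smul_def] using hc⟩
  · intro h
    show Module.Flat A L
    rw [Module.Flat.iff_lTensor_injective']
    intro J
    rw [injective_iff_map_eq_zero]
    intro z hz
    obtain ⟨⟨y, s⟩, hs⟩ := IsLocalizedModule.surj T (AlgebraTensorModule.rTensor A J η) z
    have h1 : AlgebraTensorModule.rTensor A A η (LinearMap.lTensor G J.subtype y) = 0 := by
      rw [hsq, ← hs, Submonoid.smul_def]
      show AlgebraTensorModule.lTensor S L J.subtype ((s : S) • z) = 0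
      rw [map_smul, show AlgebraTensorModule.lTensor S L J.subtype z = 0 from hz, smul_zero]
    obtain ⟨c, hc⟩ := IsLocalizedModule.exists_of_eq (S := T) (f := AlgebraTensorModule.rTensor A A η)
      (h1.trans (map_zero _).symm)
    obtain ⟨c', hc', h2⟩ := h J ((c : S) • y) (by
      show AlgebraTensorModule.lTensor S G J.subtype ((c : S) • y) = 0
      rw [map_smul]
      simpa [Submonoid.smul_def] using hc)
    have h3 : AlgebraTensorModule.rTensor A J η y = 0 := by
      refine ((Module.End.isUnit_iff _).mp (IsLocalizedModule.map_units (AlgebraTensorModule.rTensor A J η)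
        (⟨c' * c, T.mul_mem hc' c.2⟩ : T))).1 ?_
      show (c' * c : S) • AlgebraTensorModule.rTensor A J η y = (c' * c : S) • (0 : L ⊗[A] J)
      rw [smul_zero, ← map_smul, mul_smul, h2, map_zero]
    rw [h3] at hs
    exact ((Module.End.isUnit_iff _).mp (IsLocalizedModule.map_units (AlgebraTensorModule.rTensor A J η) s)).1
      (((show (s : S) • z = 0 from hs)).trans (map_zero _).symm)

theorem flatAt_congr {G' : Type u} [AddCommGroup G'] [Module S G'] [Module A G'] [IsScalarTower A S G']
    (e : G ≃ₗ[S] G') (Q : Ideal S) [Q.IsPrime] (h : FlatCA.FlatAt A Q G) : FlatCA.FlatAt A Q G' := by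
  rw [flatAt_iff] at h ⊢
  intro J y hy
  let eJ := AlgebraTensorModule.rTensor A J e.toLinearMap
  let eJ' := AlgebraTensorModule.rTensor A J e.symm.toLinearMap
  have hsq : ∀ y, LinearMap.lTensor G J.subtype (eJ' y) =
      AlgebraTensorModule.rTensor A A e.symm.toLinearMap (LinearMap.lTensor G' J.subtype y) := fun y => by
    induction y using TensorProduct.induction_on with
    | zero => simp
    | tmul a b => simp [eJ']
    | add a b ha hb => rw [map_add, map_add, map_add, map_add, ha, hb]
  have hinv : ∀ y, eJ (eJ' y) = y := fun y => by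
    induction y using TensorProduct.induction_on with
    | zero => simp
    | tmul a b => simp [eJ, eJ']
    | add a b ha hb => rw [map_add, map_add, ha, hb]
  obtain ⟨c, hc, hcy⟩ := h J (eJ' y) (by rw [hsq y, hy, map_zero])
  exact ⟨c, hc, by rw [← hinv (c • y), map_smul eJ', hcy, map_zero]⟩

/-- A universally injective map from a flat module does not change the flat locus of the target and cokernel. -/
theorem flatAt_coker_iff {F : Type u} [AddCommGroup F] [Module S F] [Module A F] [IsScalarTower A S F]
    [Module.Flat A F] {K : Type u} [AddCommGroup K] [Module S K] [Module A K] [IsScalarTower A S K]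
    (α : F →ₗ[S] G) (π : G →ₗ[S] K) (hex : Function.Exact α π) (hπ : Function.Surjective π)
    (Q : Ideal S) [Q.IsPrime]
    (hui : ∀ (L : Type u) [AddCommGroup L] [Module A L] (x : F ⊗[A] L),
      AlgebraTensorModule.rTensor A L α x = 0 → ∃ c ∉ Q, c • x = 0) :
    FlatCA.FlatAt A Q G ↔ FlatCA.FlatAt A Q K := by
  have hexL : ∀ (L : Type u) [AddCommGroup L] [Module A L],
      Function.Exact (AlgebraTensorModule.rTensor A L α) (AlgebraTensorModule.rTensor A L π) :=
    fun L _ _ => rTensor_exact (f := α.restrictScalars A) (g := π.restrictScalars A) L hex hπ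
  have hnat : ∀ {M N : Type u} [AddCommGroup M] [Module S M] [Module A M] [IsScalarTower A S M]
      [AddCommGroup N] [Module S N] [Module A N] [IsScalarTower A S N] (f : M →ₗ[S] N) (L L' : Type u)
      [AddCommGroup L] [Module A L] [AddCommGroup L'] [Module A L'] (u : L →ₗ[A] L') (y : M ⊗[A] L),
      LinearMap.lTensor N u (AlgebraTensorModule.rTensor A L f y) =
        AlgebraTensorModule.rTensor A L' f (LinearMap.lTensor M u y) := by
    intro M N _ _ _ _ _ _ _ _ f L L' _ _ _ _ u y
    induction y using TensorProduct.induction_on with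
    | zero => simp
    | tmul a b => simp
    | add a b ha hb => rw [map_add, map_add, map_add, map_add, ha, hb]
  simp only [flatAt_iff]
  constructor
  · intro h J y hy
    obtain ⟨z, rfl⟩ := (LinearMap.rTensor_surjective J (g := π.restrictScalars A) hπ) y
    change LinearMap.lTensor K J.subtype (AlgebraTensorModule.rTensor A J π z) = 0 at hy
    rw [hnat π] at hy
    obtain ⟨x, hx⟩ := ((hexL A) _).mp hy
    obtain ⟨e, he, hex0⟩ := hui (A ⧸ J) (LinearMap.lTensor F J.mkQ x) (by
      rw [← hnat α, hx, ← LinearMap.lTensor_comp_apply,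
        (LinearMap.exact_subtype_mkQ J).linearMap_comp_eq_zero, LinearMap.lTensor_zero, LinearMap.zero_apply])
    have h1 : LinearMap.lTensor F J.mkQ (e • x) = 0 := by
      show AlgebraTensorModule.lTensor S F J.mkQ (e • x) = 0
      rw [map_smul]
      exact hex0
    obtain ⟨x', hx'⟩ := ((lTensor_exact F (LinearMap.exact_subtype_mkQ J) J.mkQ_surjective) _).mp h1
    obtain ⟨c, hc, hcz⟩ := h J (e • z - AlgebraTensorModule.rTensor A J α x') (by
      rw [map_sub, hnat α, hx', map_smul (AlgebraTensorModule.rTensor A A α), hx]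
      show AlgebraTensorModule.lTensor S G J.subtype (e • z) - e • LinearMap.lTensor G J.subtype z = 0
      rw [map_smul]
      exact sub_self _)
    refine ⟨c * e, fun hm => ((inferInstance : Q.IsPrime).mem_or_mem hm).elim hc he, ?_⟩
    have h2 := congrArg (AlgebraTensorModule.rTensor A J π) hcz
    rw [map_zero, map_smul, map_sub, (hexL J).apply_apply_eq_zero, sub_zero, map_smul, ← mul_smul] at h2
    exact h2
  · intro h J y hy
    obtain ⟨c, hc, hcy⟩ := h J (AlgebraTensorModule.rTensor A J π y) (by rw [hnat π, hy, map_zero])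
    rw [← map_smul] at hcy
    obtain ⟨x, hx⟩ := ((hexL J) _).mp hcy
    obtain ⟨e, he, he0⟩ := hui A (LinearMap.lTensor F J.subtype x) (by
      rw [← hnat α, hx]
      show AlgebraTensorModule.lTensor S G J.subtype (c • y) = 0
      rw [map_smul, show AlgebraTensorModule.lTensor S G J.subtype y = 0 from hy, smul_zero])
    have h2 : e • x = 0 := Module.Flat.lTensor_preserves_injective_linearMap (M := F) J.subtype J.injective_subtype (by
      show AlgebraTensorModule.lTensor S F J.subtype (e • x) = LinearMap.lTensor F J.subtype 0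
      rw [map_smul, map_zero]
      exact he0)
    refine ⟨e * c, fun hm => ((inferInstance : Q.IsPrime).mem_or_mem hm).elim he hc, ?_⟩
    rw [mul_smul, ← hx, ← map_smul, h2, map_zero]

end Crit

section Finite

variable {A D C : Type u} [CommRing A] [CommRing D] [CommRing C] [Algebra A D] [Algebra A C] [Algebra D C]
  [IsScalarTower A D C]

set_option maxHeartbeats 800000 in
theorem trdeg_residue (t : Ideal A) (Q : Ideal D) [t.IsPrime] [Q.IsPrime] [h : Q.LiesOver t] :
    (letI : Algebra t.ResidueField Q.ResidueField :=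
      (Ideal.ResidueField.mapₐ t Q (Algebra.ofId A D) h.over).toRingHom.toAlgebra
     Algebra.trdeg t.ResidueField Q.ResidueField) = Algebra.trdeg (A ⧸ t) (D ⧸ Q) := by
  let φ := Ideal.ResidueField.mapₐ t Q (Algebra.ofId A D) h.over
  letI : Algebra t.ResidueField Q.ResidueField := φ.toRingHom.toAlgebra
  have hfrac : ∀ {R : Type u} [CommRing R] (I : Ideal R) [I.IsPrime] (z : I.ResidueField),
      ∃ x y, z = algebraMap R I.ResidueField x / algebraMap R I.ResidueField y := by
    intro R _ I _ z
    obtain ⟨a, b, -, hab⟩ := IsFractionRing.div_surjective (A := R ⧸ I) z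
    obtain ⟨x, rfl⟩ := Ideal.Quotient.mk_surjective a
    obtain ⟨y, rfl⟩ := Ideal.Quotient.mk_surjective b
    exact ⟨x, y, hab.symm⟩
  refine CycLib.trdeg_eq_of_eval t Q (algebraMap A t.ResidueField) (algebraMap D Q.ResidueField)
    (fun a => ?_) (Ideal.ker_algebraMap_residueField t) (Ideal.ker_algebraMap_residueField Q) (hfrac t) (hfrac Q)
  exact (IsScalarTower.algebraMap_apply A D Q.ResidueField a).symm.trans (φ.commutes a).symm

theorem trdeg_over (t : Ideal A) (Q : Ideal D) (P : Ideal C) [t.IsPrime] [Q.IsPrime] [P.IsPrime]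
    [Q.LiesOver t] [P.LiesOver Q] [P.LiesOver t] [Algebra.IsIntegral D C] :
    Algebra.trdeg (A ⧸ t) (C ⧸ P) = Algebra.trdeg (A ⧸ t) (D ⧸ Q) := by
  haveI : IsScalarTower (A ⧸ t) (D ⧸ Q) (C ⧸ P) := IsScalarTower.of_algebraMap_eq fun x => by
    obtain ⟨a, rfl⟩ := Ideal.Quotient.mk_surjective x
    show Ideal.Quotient.mk P (algebraMap A C a) = Ideal.Quotient.mk P (algebraMap D C (algebraMap A D a))
    rw [← IsScalarTower.algebraMap_apply]
  haveI : Algebra.IsIntegral (D ⧸ Q) (C ⧸ P) := ⟨fun x => by
    obtain ⟨c, rfl⟩ := Ideal.Quotient.mk_surjective x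
    exact (Algebra.IsIntegral.isIntegral (R := D) c).map_of_comp_eq (Ideal.Quotient.mk Q) (Ideal.Quotient.mk P)
      (RingHom.ext fun _ => rfl)⟩
  haveI : FaithfulSMul (A ⧸ t) (D ⧸ Q) := (faithfulSMul_iff_algebraMap_injective _ _).2
    (by
      rw [injective_iff_map_eq_zero]
      intro x hx
      obtain ⟨a, rfl⟩ := Ideal.Quotient.mk_surjective x
      exact Ideal.Quotient.eq_zero_iff_mem.mpr ((Ideal.mem_of_liesOver Q t a).mpr (Ideal.Quotient.eq_zero_iff_mem.mp hx)))
  haveI : FaithfulSMul (D ⧸ Q) (C ⧸ P) := (faithfulSMul_iff_algebraMap_injective _ _).2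
    (by
      rw [injective_iff_map_eq_zero]
      intro x hx
      obtain ⟨a, rfl⟩ := Ideal.Quotient.mk_surjective x
      exact Ideal.Quotient.eq_zero_iff_mem.mpr ((Ideal.mem_of_liesOver P Q a).mpr (Ideal.Quotient.eq_zero_iff_mem.mp hx)))
  rw [← trdeg_add_eq (A ⧸ t) (D ⧸ Q) (A := C ⧸ P), trdeg_eq_zero (R := D ⧸ Q) (A := C ⧸ P), add_zero]

variable [Algebra.IsIntegral D C] {G : Type u} [AddCommGroup G] [Module C G] [Module D G] [IsScalarTower D C G]
  [Module A G] [IsScalarTower A D G] [IsScalarTower A C G]

omit [IsScalarTower A D C] [Algebra.IsIntegral D C] in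
theorem flatAt_of_over (Q : Ideal D) [Q.IsPrime] (P : Ideal C) [P.IsPrime] [P.LiesOver Q]
    (h : FlatCA.FlatAt A Q G) : FlatCA.FlatAt A P G := by
  rw [flatAt_iff] at h ⊢
  intro J y hy
  obtain ⟨c, hc, hcy⟩ := h J y hy
  exact ⟨algebraMap D C c, fun hm => hc ((Ideal.mem_of_liesOver P Q c).mpr hm), by rw [algebraMap_smul, hcy]⟩

theorem flatAt_of_forall_over (Q : Ideal D) [Q.IsPrime]
    (h : ∀ (P : Ideal C) [P.IsPrime], P.LiesOver Q → FlatCA.FlatAt A P G) : FlatCA.FlatAt A Q G := by
  rw [flatAt_iff]
  intro J y hy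
  by_contra hcon
  push_neg at hcon
  let I : Ideal C := LinearMap.ker (LinearMap.toSpanSingleton C (G ⊗[A] J) y)
  have hle : I.comap (algebraMap D C) ≤ Q := fun c hc => by
    by_contra hcQ
    refine hcon c hcQ ?_
    rw [← algebraMap_smul C c y]
    exact hc
  obtain ⟨P, hIP, hP, hPQ⟩ := Ideal.exists_ideal_over_prime_of_isIntegral Q I hle
  haveI := hP
  obtain ⟨c, hc, hcy⟩ := (flatAt_iff P).mp (h P ⟨hPQ.symm⟩) J y hy
  exact hc (hIP hcy)

theorem flatInDimGE_iff (n : ℕ) : FlatCA.FlatInDimGE n A D G ↔ FlatCA.FlatInDimGE n A C G := by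
  constructor
  · intro h t P _ _ hP hnf
    let Q := P.comap (algebraMap D C)
    haveI : P.LiesOver Q := ⟨rfl⟩
    haveI : Q.LiesOver t := ⟨by
      rw [Ideal.under_def, Ideal.comap_comap, ← IsScalarTower.algebraMap_eq]; exact hP.over⟩
    have := h t Q (fun hfl => hnf (flatAt_of_over Q P hfl))
    rw [trdeg_residue, ← trdeg_over (C := C) t Q P] at this
    rw [trdeg_residue]
    exact this
  · intro h t Q _ _ hQ hnf
    obtain ⟨P, hP, hPQ, hPnf⟩ : ∃ (P : Ideal C) (_ : P.IsPrime) (_ : P.LiesOver Q), ¬ FlatCA.FlatAt A P G := by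
      by_contra hcon
      push_neg at hcon
      exact hnf (flatAt_of_forall_over Q fun P hP hPQ => hcon P hP hPQ)
    haveI := hPQ
    haveI : P.LiesOver t := Ideal.LiesOver.trans P Q t
    have := h t P hPnf
    rw [trdeg_residue, trdeg_over (C := C) t Q P] at this
    rw [trdeg_residue]
    exact this

end Finite

theorem flatInDimGE_congr {A S : Type u} [CommRing A] [CommRing S] [Algebra A S] {G G' : Type u} [AddCommGroup G]
    [Module S G] [Module A G] [IsScalarTower A S G] [AddCommGroup G'] [Module S G'] [Module A G']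
    [IsScalarTower A S G'] (e : G ≃ₗ[S] G') (n : ℕ) :
    FlatCA.FlatInDimGE n A S G ↔ FlatCA.FlatInDimGE n A S G' :=
  ⟨fun h t Q _ _ _ hnf => h t Q fun hfl => hnf (flatAt_congr e Q hfl),
    fun h t Q _ _ _ hnf => h t Q fun hfl => hnf (flatAt_congr e.symm Q hfl)⟩

end Groth.Agent.FlatMor62.DimGE
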