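import Groth.Agent.FlatMor62.DimGEModels

/-!
# Kernels of a split map after localising the base
-/

set_option autoImplicit false
set_option linter.style.haveILetI false
set_option linter.unusedSectionVars false

universe u

open TensorProduct

namespace Groth.Agent.FlatMor62.DimGEAway

attribute [local instance] Algebra.TensorProduct.rightAlgebra

variable {A D : Type u} [CommRing A] [CommRing D] [Algebra A D] [Module.Projective A D]

/-- An element regular on the fibres over `D(g)` is regular after inverting `g`. -/
theorem exists_pow_smul (hdom : ∀ (K : Type u) [Field K] [Algebra A K], IsDomain (K ⊗[A] D)) (g : A) (h : D)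
    (hcov : ∀ (t : Ideal A) [t.IsPrime], g ∉ t → ∃ P : Ideal D, P.IsPrime ∧ P.comap (algebraMap A D) = t ∧ h ∉ P)
    (L : Type u) [AddCommGroup L] [Module A L] (x : D ⊗[A] L) (hx : h • x = 0) :
    ∃ k : ℕ, algebraMap A D (g ^ k) • x = 0 := by
  let A' := Localization.Away g
  let L' := A' ⊗[A] L
  let mh : D →ₗ[A] D := LinearMap.mulLeft A h
  have hinj : Function.Injective (mh.rTensor L') := by
    let m' : (A' ⊗[A] D) →ₗ[A'] (A' ⊗[A] D) := mh.baseChange A'
    haveI : Module.Projective A' (A' ⊗[A] D) := inferInstance
    have hu := Content.univInj_of_projective m' (fun m _ => ?_) L'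
    · let c₁ : (A' ⊗[A] D) ⊗[A'] L' ≃ₗ[A] D ⊗[A] L' :=
        ((TensorProduct.comm A' (A' ⊗[A] D) L').trans (AlgebraTensorModule.cancelBaseChange A A' A' L' D)).restrictScalars A
          ≪≫ₗ TensorProduct.comm A L' D
      have hsq : ∀ w, mh.rTensor L' (c₁ w) = c₁ (m'.rTensor L' w) := fun w => by
        induction w using TensorProduct.induction_on with
        | zero => simp
        | add a b ha hb => simp only [map_add, ha, hb]
        | tmul a b =>
          induction a using TensorProduct.induction_on with
          | zero => simp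
          | add a a' ha ha' => simp only [TensorProduct.add_tmul, map_add, ha, ha']
          | tmul c d =>
            simp only [c₁, LinearEquiv.trans_apply, LinearEquiv.restrictScalars_apply, LinearMap.rTensor_tmul, m',
              LinearMap.baseChange_tmul, TensorProduct.comm_tmul]
            erw [AlgebraTensorModule.cancelBaseChange_tmul, AlgebraTensorModule.cancelBaseChange_tmul]
            simp
      intro a b hab
      obtain ⟨a', rfl⟩ := c₁.surjective a
      obtain ⟨b', rfl⟩ := c₁.surjective b
      rw [hsq, hsq] at hab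
      rw [hu (c₁.injective hab)]
    -- injectivity on the fibres
    let K := A' ⧸ m
    letI : Field K := Ideal.Quotient.field m
    haveI := hdom K
    let e : K ⊗[A'] (A' ⊗[A] D) ≃ₗ[A'] K ⊗[A] D := AlgebraTensorModule.cancelBaseChange A A' A' K D
    have hne : (1 : K) ⊗ₜ[A] h ≠ (0 : K ⊗[A] D) := by
      intro h0
      let t := m.comap (algebraMap A A')
      obtain ⟨P, hP, hPt, hhP⟩ := hcov t fun hgt => ‹m.IsMaximal›.ne_top
        (Ideal.eq_top_of_isUnit_mem m hgt (IsLocalization.Away.algebraMap_isUnit g))
      haveI := hP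
      haveI : Algebra.IsPushout A D K (K ⊗[A] D) := Algebra.IsPushout.symm inferInstance
      have hbot : (⊥ : Ideal K).comap (algebraMap A K) = t := by
        ext a
        show algebraMap A K a = 0 ↔ algebraMap A A' a ∈ m
        rw [IsScalarTower.algebraMap_apply A A' K]
        exact Ideal.Quotient.eq_zero_iff_mem
      obtain ⟨Q, hQ, h1, -⟩ := FlatMor.FlatAtBC.exists_prime_of_pushout (R := A) (S := D) (R' := K)
        (S' := K ⊗[A] D) t P (⊥ : Ideal K) hPt hbot
      exact hhP (h1 ▸ (show algebraMap D (K ⊗[A] D) h ∈ Q from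
        (show algebraMap D (K ⊗[A] D) h = 0 from h0).symm ▸ Q.zero_mem))
    have hsq : ∀ w, e (m'.lTensor K w) = ((1 : K) ⊗ₜ[A] h) * e w := fun w => by
      induction w using TensorProduct.induction_on with
      | zero => simp
      | add a b ha hb => simp only [map_add, mul_add, ha, hb]
      | tmul c d =>
        induction d using TensorProduct.induction_on with
        | zero => simp
        | add a a' ha ha' => simp only [TensorProduct.tmul_add, map_add, mul_add, ha, ha']
        | tmul a d' =>
          simp only [e, m', LinearMap.lTensor_tmul, LinearMap.baseChange_tmul]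
          erw [AlgebraTensorModule.cancelBaseChange_tmul, AlgebraTensorModule.cancelBaseChange_tmul,
            Algebra.TensorProduct.tmul_mul_tmul]
          simp [mh]
    rw [injective_iff_map_eq_zero]
    intro w hw
    have h2 : ((1 : K) ⊗ₜ[A] h) * e w = 0 := by rw [← hsq, hw, map_zero]
    exact (map_eq_zero_iff e e.injective).mp ((mul_eq_zero.mp h2).resolve_left hne)
  let η : L →ₗ[A] L' := (TensorProduct.mk A A' L) 1
  haveI : IsLocalizedModule (Submonoid.powers g) η :=
    (isLocalizedModule_iff_isBaseChange (Submonoid.powers g) A' η).mpr (TensorProduct.isBaseChange A L A')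
  haveI : IsLocalizedModule (Submonoid.powers g) (η.lTensor D) := by
    have hr : IsLocalizedModule (Submonoid.powers g) (AlgebraTensorModule.rTensor A D η) := inferInstance
    have e : η.lTensor D = (TensorProduct.comm A L' D).toLinearMap ∘ₗ AlgebraTensorModule.rTensor A D η ∘ₗ
        (TensorProduct.comm A D L).toLinearMap := by ext; simp
    rw [e]
    infer_instance
  have h1 : η.lTensor D x = 0 := by
    refine hinj ?_
    rw [map_zero, ← LinearMap.comp_apply, LinearMap.rTensor_comp_lTensor, ← LinearMap.lTensor_comp_rTensor,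
      LinearMap.comp_apply]
    have : ∀ y, mh.rTensor L y = h • y := fun y => by
      induction y using TensorProduct.induction_on with
      | zero => simp
      | tmul a b => simp [mh, TensorProduct.smul_tmul']
      | add a b ha hb => rw [map_add, smul_add, ha, hb]
    rw [this, hx, map_zero]
  obtain ⟨⟨_, k, rfl⟩, hc⟩ := IsLocalizedModule.exists_of_eq (S := Submonoid.powers g) (f := η.lTensor D)
    (h1.trans (map_zero _).symm)
  refine ⟨k, ?_⟩
  rw [IsScalarTower.algebraMap_smul]
  simpa [Submonoid.smul_def] using hc

/-- Kernels of a split map are killed outside `V(g)`. -/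
theorem exists_smul_eq_zero (hdom : ∀ (K : Type u) [Field K] [Algebra A K], IsDomain (K ⊗[A] D)) (g : A) {r : ℕ}
    {G : Type u} [AddCommGroup G] [Module D G] [Module A G] [IsScalarTower A D G]
    (α : (Fin r → D) →ₗ[D] G) (h : D) (β : G →ₗ[D] (Fin r → D)) (hβ : ∀ x, β (α x) = h • x)
    (hcov : ∀ (t : Ideal A) [t.IsPrime], g ∉ t → ∃ P : Ideal D, P.IsPrime ∧ P.comap (algebraMap A D) = t ∧ h ∉ P)
    (Q : Ideal D) [Q.IsPrime] (hgQ : algebraMap A D g ∉ Q)
    (L : Type u) [AddCommGroup L] [Module A L] (x : (Fin r → D) ⊗[A] L)
    (hx : AlgebraTensorModule.rTensor A L α x = 0) : ∃ c ∉ Q, c • x = 0 := by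
  classical
  let pr : Fin r → (Fin r → D) ⊗[A] L →ₗ[D] D ⊗[A] L := fun i =>
    AlgebraTensorModule.rTensor A L (LinearMap.proj (R := D) (φ := fun _ : Fin r => D) i)
  let inj : Fin r → D ⊗[A] L →ₗ[D] (Fin r → D) ⊗[A] L := fun i =>
    AlgebraTensorModule.rTensor A L (LinearMap.single D (fun _ : Fin r => D) i)
  have hhx : h • x = 0 := by
    have : ∀ y, AlgebraTensorModule.rTensor A L β (AlgebraTensorModule.rTensor A L α y) = h • y := fun y => by
      induction y using TensorProduct.induction_on with
      | zero => simp
      | tmul a b => simp [hβ, TensorProduct.smul_tmul']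
      | add a b ha hb => simp only [map_add, smul_add, ha, hb]
    rw [← this, hx, map_zero]
  have hex : ∀ i, ∃ k : ℕ, algebraMap A D (g ^ k) • pr i x = 0 := fun i =>
    exists_pow_smul hdom g h hcov L (pr i x) (by rw [← map_smul, hhx, map_zero])
  choose k hk using hex
  let N := ∑ i, k i
  refine ⟨algebraMap A D (g ^ N), fun hm => hgQ (‹Q.IsPrime›.mem_of_pow_mem N (by rwa [← map_pow])), ?_⟩
  have hsum : ∀ y : (Fin r → D) ⊗[A] L, y = ∑ i, inj i (pr i y) := fun y => by
    induction y using TensorProduct.induction_on with
    | zero => simp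
    | tmul a b =>
      simp only [inj, pr, AlgebraTensorModule.rTensor_tmul, ← TensorProduct.sum_tmul, LinearMap.coe_proj,
        Function.eval, LinearMap.coe_single, Finset.univ_sum_single]
    | add a b ha hb => simp only [map_add, Finset.sum_add_distrib, ← ha, ← hb]
  rw [hsum (algebraMap A D (g ^ N) • x)]
  refine Finset.sum_eq_zero fun i _ => ?_
  obtain ⟨j, hj⟩ := Nat.exists_eq_add_of_le (Finset.single_le_sum (fun i _ => Nat.zero_le (k i)) (Finset.mem_univ i))
  rw [map_smul (pr i), show N = k i + j from hj, pow_add, map_mul, mul_comm, mul_smul, hk i, smul_zero, map_zero]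

end Groth.Agent.FlatMor62.DimGEAway
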