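import Groth.Agent.FlatMor62.DimGEStep
import Groth.Agent.S12243

/-!
# Base change models for flatness in dimensions `≥ d`
-/

set_option autoImplicit false
set_option linter.style.haveILetI false
set_option linter.unusedSectionVars false

universe u

open TensorProduct

namespace Groth.Agent.FlatMor62.DimGEModels

attribute [local instance] Algebra.TensorProduct.rightAlgebra

/-- On the rings where `g` is a unit, `Q` describes when the base change of `G` is flat in dimensions `≥ d`. -/
def Reps (A : Type u) [CommRing A] (g : A) (d : ℕ) (D : Type u) [CommRing D] [Algebra A D] (G : Type u) [AddCommGroup G]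
    [Module D G] (Q : (A' : Type u) → [CommRing A'] → [Algebra A A'] → Prop) : Prop :=
  ∀ (A' D' G' : Type u) [CommRing A'] [CommRing D'] [Algebra A A'] [Algebra D D'] [Algebra A' D'] [Algebra A D']
    [IsScalarTower A D D'] [IsScalarTower A A' D'] [Algebra.IsPushout A D A' D']
    [AddCommGroup G'] [Module D' G'] [Module D G'] [IsScalarTower D D' G'] [Module A' G'] [IsScalarTower A' D' G']
    (φ : G →ₗ[D] G'), IsBaseChange D' φ → IsUnit (algebraMap A A' g) →
    (FlatCA.FlatInDimGE d A' D' G' ↔ Q A')

variable {A : Type u} [CommRing A] {g : A} {d : ℕ} {D : Type u} [CommRing D] [Algebra A D]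
  {G : Type u} [AddCommGroup G] [Module D G] {Q : (A' : Type u) → [CommRing A'] → [Algebra A A'] → Prop}

theorem Reps.mul (h : Reps A g d D G Q) (g' : A) : Reps A (g * g') d D G Q := by
  intro A' D' G' _ _ _ _ _ _ _ _ _ _ _ _ _ _ _ φ hφ hg
  rw [map_mul] at hg
  exact h A' D' G' φ hφ (isUnit_of_mul_isUnit_left hg)

theorem Reps.congr {G₂ : Type u} [AddCommGroup G₂] [Module D G₂] (e : G ≃ₗ[D] G₂) (h : Reps A g d D G Q) :
    Reps A g d D G₂ Q := by
  intro A' D' G' _ _ _ _ _ _ _ _ _ _ _ _ _ _ _ φ hφ hg
  refine h A' D' G' (φ ∘ₗ e.toLinearMap) ?_ hg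
  exact IsBaseChange.of_equiv (LinearEquiv.baseChange D D' _ _ e ≪≫ₗ hφ.equiv) fun x => by
    simp [hφ.equiv_tmul, LinearEquiv.baseChange]

section Finite

variable {C : Type u} [CommRing C] [Algebra A C] [Algebra D C] [IsScalarTower A D C] [Module.Finite D C]
  [Module C G] [IsScalarTower D C G]

theorem reps_down (h : Reps A g d C G Q) : Reps A g d D G Q := by
  intro A' D' G' _ _ _ _ _ _ _ _ _ _ _ _ _ _ _ φ hφ hg
  let C' : Type u := D' ⊗[D] C
  haveI : IsScalarTower A C C' := IsScalarTower.of_algebraMap_eq fun a => by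
    show algebraMap A D' a ⊗ₜ[D] (1 : C) = (1 : D') ⊗ₜ[D] algebraMap A C a
    rw [IsScalarTower.algebraMap_apply A D D', IsScalarTower.algebraMap_apply A D C,
      Algebra.algebraMap_eq_smul_one (A := D'), Algebra.algebraMap_eq_smul_one (A := C), TensorProduct.smul_tmul]
  haveI : IsScalarTower A' D' C' := inferInstance
  haveI : IsScalarTower A A' C' := IsScalarTower.of_algebraMap_eq fun a => by
    show algebraMap A D' a ⊗ₜ[D] (1 : C) = algebraMap A' D' (algebraMap A A' a) ⊗ₜ[D] (1 : C)
    rw [← IsScalarTower.algebraMap_apply]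
  haveI : IsScalarTower A D' C' := inferInstance
  haveI : Algebra.IsPushout D C D' C' := Algebra.IsPushout.symm inferInstance
  haveI hpo : Algebra.IsPushout A C A' C' :=
    (Algebra.IsPushout.comp_iff (R := A) (S := D) (R' := A') (S' := D') (T := C) (T' := C')).mpr inferInstance
  let G'' : Type u := C' ⊗[C] G
  haveI : IsScalarTower D D' G'' := IsScalarTower.of_algebraMap_smul fun a x => by
    rw [← algebraMap_smul C' (algebraMap D D' a) x, ← IsScalarTower.algebraMap_apply, algebraMap_smul]
  haveI : IsScalarTower A' D' G'' := IsScalarTower.of_algebraMap_smul fun a x => by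
    rw [← algebraMap_smul C' (algebraMap A' D' a) x, ← IsScalarTower.algebraMap_apply, algebraMap_smul]
  haveI : IsScalarTower D C G'' := IsScalarTower.of_algebraMap_smul fun a x => by
    rw [← algebraMap_smul C' (algebraMap D C a) x, ← IsScalarTower.algebraMap_apply, algebraMap_smul]
  let ψ : G →ₗ[C] G'' := (TensorProduct.mk C C' G) 1
  have hψ : IsBaseChange C' ψ := TensorProduct.isBaseChange C G C'
  haveI : Algebra.IsPushout D D' C C' := inferInstance
  have hψD : IsBaseChange D' (ψ.restrictScalars D) := S12243.isBaseChange_restrict ψ hψ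
  let e : G' ≃ₗ[D'] G'' := hφ.equiv.symm ≪≫ₗ hψD.equiv
  rw [DimGE.flatInDimGE_congr e, DimGE.flatInDimGE_iff (C := C')]
  exact h A' C' G'' ψ hψ hg

theorem reps_up (h : Reps A g d D G Q) : Reps A g d C G Q := by
  intro A' C' G' _ _ _ _ _ _ _ _ _ _ _ _ _ _ _ φ hφ hg
  let D' : Type u := A' ⊗[A] D
  letI : Algebra D C' := ((algebraMap C C').comp (algebraMap D C)).toAlgebra
  haveI : IsScalarTower D C C' := IsScalarTower.of_algebraMap_eq fun _ => rfl
  haveI : IsScalarTower A D C' := IsScalarTower.of_algebraMap_eq fun a => by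
    show _ = algebraMap C C' (algebraMap D C (algebraMap A D a))
    rw [← IsScalarTower.algebraMap_apply A D C, ← IsScalarTower.algebraMap_apply A C C']
  let μ : D' →ₐ[A'] C' :=
    Algebra.TensorProduct.lift (Algebra.ofId A' C')
      ({ algebraMap D C' with commutes' := fun a => (IsScalarTower.algebraMap_apply A D C' a).symm } : D →ₐ[A] C')
      fun _ _ => Commute.all _ _
  letI : Algebra D' C' := μ.toRingHom.toAlgebra
  haveI : IsScalarTower A' D' C' := IsScalarTower.of_algebraMap_eq fun a => (μ.commutes a).symm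
  haveI : IsScalarTower D D' C' := IsScalarTower.of_algebraMap_eq fun x => by
    show algebraMap D C' x = μ (1 ⊗ₜ x)
    refine Eq.symm ((Algebra.TensorProduct.lift_tmul _ _ _ _ _).trans ?_)
    rw [map_one, one_mul]
    rfl
  haveI : IsScalarTower A A' D' := inferInstance
  haveI : IsScalarTower A D D' := IsScalarTower.of_algebraMap_eq fun a => by
    show algebraMap A A' a ⊗ₜ[A] (1 : D) = (1 : A') ⊗ₜ[A] algebraMap A D a
    rw [Algebra.algebraMap_eq_smul_one (A := A'), Algebra.algebraMap_eq_smul_one (A := D), TensorProduct.smul_tmul]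
  haveI : IsScalarTower A D' C' := IsScalarTower.of_algebraMap_eq fun a => by
    rw [IsScalarTower.algebraMap_apply A A' C', IsScalarTower.algebraMap_apply A A' D',
      ← IsScalarTower.algebraMap_apply A' D' C']
  haveI : Algebra.IsPushout A D A' D' := Algebra.IsPushout.symm inferInstance
  haveI hDC : Algebra.IsPushout D C D' C' :=
    (Algebra.IsPushout.comp_iff (R := A) (S := D) (R' := A') (S' := D') (T := C) (T' := C')).mp ‹_›
  haveI : Algebra.IsPushout D D' C C' := Algebra.IsPushout.symm hDC
  haveI : Module.Finite D' C' := Module.Finite.equiv (Algebra.IsPushout.equiv D D' C C').toLinearEquiv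
  letI : Module D G' := Module.compHom G' (algebraMap D C)
  haveI : IsScalarTower D C G' := IsScalarTower.of_algebraMap_smul fun _ _ => rfl
  letI : Module D' G' := Module.compHom G' (algebraMap D' C')
  haveI : IsScalarTower D' C' G' := IsScalarTower.of_algebraMap_smul fun _ _ => rfl
  haveI : IsScalarTower D D' G' := IsScalarTower.of_algebraMap_smul fun a x => by
    show algebraMap D' C' (algebraMap D D' a) • x = algebraMap D C a • x
    rw [← IsScalarTower.algebraMap_apply, IsScalarTower.algebraMap_apply D C C', algebraMap_smul]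
  haveI : IsScalarTower A' D' G' := IsScalarTower.of_algebraMap_smul fun a x => by
    show algebraMap D' C' (algebraMap A' D' a) • x = a • x
    rw [← IsScalarTower.algebraMap_apply, algebraMap_smul]
  rw [← DimGE.flatInDimGE_iff (D := D') (C := C')]
  exact h A' D' G' (φ.restrictScalars D) (S12243.isBaseChange_restrict φ hφ) hg

end Finite

theorem reps_subsingleton [Subsingleton G] : Reps A g d D G (fun _ => True) := by
  intro A' D' G' _ _ _ _ _ _ _ _ _ _ _ _ _ _ _ φ hφ _
  haveI : Subsingleton G' := hφ.equiv.symm.injective.subsingleton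
  refine iff_of_true (fun t P _ _ _ hnf => absurd ?_ hnf) trivial
  haveI : Subsingleton (LocalizedModule P.primeCompl G') := ⟨fun a b => by
    induction a using LocalizedModule.induction_on with
    | h x s => induction b using LocalizedModule.induction_on with
      | h y t => rw [Subsingleton.elim x 0, Subsingleton.elim y 0, LocalizedModule.zero_mk, LocalizedModule.zero_mk]⟩
  show Module.Flat A' (LocalizedModule P.primeCompl G')
  infer_instance

section Step

variable [Module.Projective A D]

theorem reps_step (hdom : ∀ (K : Type u) [Field K] [Algebra A K], IsDomain (K ⊗[A] D))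
    {r : ℕ} (α : (Fin r → D) →ₗ[D] G) (h : D) (β : G →ₗ[D] (Fin r → D)) (hβ : ∀ x, β (α x) = h • x)
    (hcov : ∀ (t : Ideal A) [t.IsPrime], g ∉ t → ∃ P : Ideal D, P.IsPrime ∧ P.comap (algebraMap A D) = t ∧ h ∉ P)
    (hK : Reps A g d D (G ⧸ LinearMap.range α) Q) : Reps A g d D G Q := by
  classical
  intro A' D' G' _ _ _ _ _ _ _ _ _ _ _ _ _ _ _ φ hφ hg
  let α' : (Fin r → D') →ₗ[D'] G' := Fintype.linearCombination D' fun m => φ (α (Pi.single m 1))
  have hα' : ∀ m, α' (Pi.single m 1) = φ (α (Pi.single m 1)) := fun m => by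
    simp only [α']
    rw [Fintype.linearCombination_apply_single, one_smul]
  let ι : (Fin r → D) →ₗ[D] (Fin r → D') := (Algebra.linearMap D D').compLeft (Fin r)
  let β' : G' →ₗ[D'] (Fin r → D') := hφ.lift (ι ∘ₗ β)
  let h' := algebraMap D D' h
  have hβ' : ∀ x, β' (α' x) = h' • x := fun x => by
    have : β' ∘ₗ α' = h' • LinearMap.id := by
      refine (Pi.basisFun D' (Fin r)).ext fun m => ?_
      simp only [Pi.basisFun_apply, LinearMap.comp_apply, LinearMap.smul_apply, LinearMap.id_apply]
      rw [hα', hφ.lift_eq, LinearMap.comp_apply, hβ, map_smul, algebraMap_smul]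
      congr 1
      funext j
      show algebraMap D D' ((Pi.single m (1 : D) : Fin r → D) j) = (Pi.single m (1 : D') : Fin r → D') j
      rcases eq_or_ne j m with rfl | hne
      · simp
      · simp [Pi.single_eq_of_ne hne]
    exact LinearMap.congr_fun this x
  haveI : Algebra.IsPushout A A' D D' := Algebra.IsPushout.symm inferInstance
  haveI : Module.Projective A' D' :=
    Module.Projective.of_equiv (Algebra.IsPushout.equiv A A' D D').toLinearEquiv
  haveI : Module.Flat A D := inferInstance
  have hui := DimGEStep.ui_of_split (A := A') α' h' β' hβ'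
    (fun m _ => RG.FreeBlow.isPrime_map (S := D) hdom A' D' m) (fun m hm => by
      haveI := hm.isPrime
      exact DimGEStep.notMem_map h m (hcov _ fun hgm => hm.ne_top (Ideal.eq_top_of_isUnit_mem m hgm hg)))
  haveI : Module.Flat A' (Fin r → D') :=
    Module.Flat.of_linearEquiv (DFinsupp.linearEquivFunOnFintype (R := A') (M := fun _ : Fin r => D')).symm
  have hrange : LinearMap.range α' = Submodule.span D' (φ '' (LinearMap.range α : Set G)) := by
    refine le_antisymm ?_ (Submodule.span_le.mpr ?_)
    · rintro _ ⟨v, rfl⟩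
      rw [pi_eq_sum_univ' v, map_sum]
      refine Submodule.sum_mem _ fun m _ => ?_
      rw [map_smul, hα']
      exact Submodule.smul_mem _ _ (Submodule.subset_span ⟨_, ⟨_, rfl⟩, rfl⟩)
    · rintro _ ⟨_, ⟨v, rfl⟩, rfl⟩
      rw [pi_eq_sum_univ' v, map_sum, map_sum]
      refine Submodule.sum_mem _ fun m _ => ?_
      rw [map_smul, map_smul, ← algebraMap_smul D']
      exact Submodule.smul_mem _ _ ⟨Pi.single m 1, hα' m⟩
  let ψ := (TensorProduct.mk D D' (G ⧸ LinearMap.range α)) 1
  obtain ⟨e⟩ := S12243.coker_baseChange φ hφ ψ (TensorProduct.isBaseChange D _ D')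
    (LinearMap.range α).mkQ (Submodule.mkQ_surjective _)
  rw [Submodule.ker_mkQ] at e
  let e' : (G' ⧸ LinearMap.range α') ≃ₗ[D'] D' ⊗[D] (G ⧸ LinearMap.range α) :=
    (Submodule.quotEquivOfEq _ _ hrange).trans e
  rw [← hK A' D' (D' ⊗[D] (G ⧸ LinearMap.range α)) ψ (TensorProduct.isBaseChange D _ D') hg,
    ← DimGE.flatInDimGE_congr e']
  have key : ∀ (P : Ideal D') [P.IsPrime],
      FlatCA.FlatAt A' P G' ↔ FlatCA.FlatAt A' P (G' ⧸ LinearMap.range α') := fun P _ =>
    DimGE.flatAt_coker_iff α' (LinearMap.range α').mkQ (LinearMap.exact_map_mkQ_range α')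
      (Submodule.mkQ_surjective _) P fun L _ _ x hx =>
        ⟨1, P.primeCompl.one_mem, by rw [one_smul]; exact hui L (hx.trans (map_zero _).symm)⟩
  exact ⟨fun H t P _ _ _ hnf => H t P fun hfl => hnf ((key P).mp hfl),
    fun H t P _ _ _ hnf => H t P fun hfl => hnf ((key P).mpr hfl)⟩

end Step

end Groth.Agent.FlatMor62.DimGEModels
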