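import Groth.Agent.DiagRig.WeilLocus.Closed
import Groth.Agent.FittLib.Rank
import Groth.Agent.FittLib.Sheaf
import Groth.Agent.LimLib.ClosedApprox
import Groth.Agent.GrpdLib.SepDense
import Groth.Agent.SchDense.Dense
import Groth.Agent.BigOpen12.Dense
import Groth.Agent.KFlat.LocFree
import Groth.Agent.Props.QFP
import Groth.Prelude.Def_FlatFun
import Groth.Prelude.Def_Fitting
import Groth.Prelude.Def_FGA

/-!
# The locus where a module is free of rank `p` at the generic points of the fibres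
-/

set_option autoImplicit false
set_option linter.style.haveILetI false

universe u

open CategoryTheory CategoryTheory.Limits AlgebraicGeometry TopologicalSpace

namespace Groth.Agent.FlatMor62.GenRankLocus

section Near

variable {X Y : Scheme.{u}}

/-- Free near a point is preserved by inverse image. -/
theorem near_pullback (k : Y ⟶ X) {M : X.Modules} {p : ℕ} {z : Y}
    (h : FlatFun.IsFreeOfRankNear M p (k z)) :
    FlatFun.IsFreeOfRankNear ((Scheme.Modules.pullback k).obj M) p z := by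
  obtain ⟨U, hz, ⟨φ⟩⟩ := h
  exact ⟨k ⁻¹ᵁ U, hz, ⟨KFlat.LocFree.restrictPullIso k U (k ⁻¹ᵁ U) le_rfl M ≪≫
    (Scheme.Modules.pullback _).mapIso φ ≪≫ KFlat.LocFree.pullFreeIso _ p⟩⟩

theorem near_iso {M N : X.Modules} (e : M ≅ N) {p : ℕ} {x : X} (h : FlatFun.IsFreeOfRankNear M p x) :
    FlatFun.IsFreeOfRankNear N p x := by
  obtain ⟨U, hx, ⟨φ⟩⟩ := h
  exact ⟨U, hx, ⟨((Scheme.Modules.restrictFunctor U.ι).mapIso e).symm ≪≫ φ⟩⟩

/-- Free near a point descends along an open immersion. -/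
theorem near_of_pullback (j : Y ⟶ X) [IsOpenImmersion j] {M : X.Modules} {p : ℕ} {z : Y}
    (h : FlatFun.IsFreeOfRankNear ((Scheme.Modules.pullback j).obj M) p z) :
    FlatFun.IsFreeOfRankNear M p (j z) := by
  obtain ⟨U, hz, ⟨φ⟩⟩ := h
  let e := (U.ι ≫ j).isoOpensRange
  have he : e.inv ≫ (U.ι ≫ j) = (U.ι ≫ j).opensRange.ι := Scheme.Hom.isoOpensRange_inv_comp _
  refine ⟨(U.ι ≫ j).opensRange, ⟨⟨z, hz⟩, rfl⟩, ⟨?_⟩⟩
  exact (Scheme.Modules.restrictFunctorIsoPullback _).app M ≪≫
    (Scheme.Modules.pullbackCongr he.symm).app M ≪≫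
    ((Scheme.Modules.pullbackComp e.inv (U.ι ≫ j)).app M).symm ≪≫
    (Scheme.Modules.pullback e.inv).mapIso
      (((Scheme.Modules.pullbackComp U.ι j).app M).symm ≪≫
        ((Scheme.Modules.restrictFunctorIsoPullback U.ι).app _).symm ≪≫ φ) ≪≫
    KFlat.LocFree.pullFreeIso _ p

end Near

section Fitting

variable {X Z : Scheme.{u}} (F : X.Modules) (p : ℕ)

/-- The open where `F` is generated by `p` sections. -/
noncomputable def genOpen : X.Opens :=
  (Fitt.sheafIdeal F p).support.compl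

/-- The ideal of relations among `p` generators. -/
noncomputable def relIdeal : X.IdealSheafData :=
  if p = 0 then ⊥ else Fitt.sheafIdeal F (p - 1)

theorem mem_genOpen {x : X} : x ∈ genOpen F p ↔ x ∉ (Fitt.sheafIdeal F p).support := Iff.rfl

variable [F.IsQuasicoherent] [F.IsFiniteType]

theorem sheafIdeal_mono {k k' : ℕ} (h : k ≤ k') : Fitt.sheafIdeal F k ≤ Fitt.sheafIdeal F k' := fun U => by
  haveI : Module.Finite Γ(X, U.1) Γ(F, U.1) := QCoh.finite_sections_of_isFiniteType F U.2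
  rw [FittLib.sheafIdeal_ideal, FittLib.sheafIdeal_ideal]
  exact FittLib.ideal_mono h

/-- Local freeness of an inverse image in terms of the Fitting ideals. -/
theorem locFree_iff (b : Z ⟶ X) :
    FlatMod.IsFinLocFreeOfRank p ((Scheme.Modules.pullback b).obj F) ↔
      (∀ z, b z ∈ genOpen F p) ∧ (relIdeal F p).comap b = ⊥ := by
  haveI := QCoh.isQuasicoherent_pullback b F
  haveI := FittLib.isFiniteType_pullback F b
  rw [FittLib.isFinLocFreeOfRank_iff, relIdeal]
  constructor
  · rintro ⟨hbot, htop⟩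
    refine ⟨fun z hz => ?_, ?_⟩
    · have h1 : z ∈ ((Fitt.sheafIdeal F p).comap b).support := by
        rw [Scheme.IdealSheafData.support_comap]; exact hz
      rw [FittLib.comap_sheafIdeal, htop p le_rfl, Scheme.IdealSheafData.support_top] at h1
      exact h1
    · split
      · exact Scheme.IdealSheafData.comap_bot b
      · rw [FittLib.comap_sheafIdeal]; exact hbot _ (by omega)
  · rintro ⟨hgen, hrel⟩
    refine ⟨fun k hk => ?_, fun k hk => ?_⟩
    · rw [if_neg (by omega)] at hrel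
      rw [← FittLib.comap_sheafIdeal F b k, eq_bot_iff, ← hrel]
      exact (Scheme.IdealSheafData.map_gc b).monotone_l (sheafIdeal_mono F (show k ≤ p - 1 by omega))
    · rw [← FittLib.comap_sheafIdeal F b k, ← Scheme.IdealSheafData.support_eq_bot_iff]
      refine SetLike.ext' (Set.eq_empty_iff_forall_notMem.mpr fun z hz => ?_)
      rw [Scheme.IdealSheafData.support_comap] at hz
      exact hgen z (Scheme.IdealSheafData.support_antitone (sheafIdeal_mono F hk) hz)

theorem mem_genOpen_of_near {x : X} (h : FlatFun.IsFreeOfRankNear F p x) : x ∈ genOpen F p := by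
  obtain ⟨U, hx, ⟨φ⟩⟩ := h
  have h1 : FlatMod.IsFinLocFreeOfRank p ((Scheme.Modules.pullback U.ι).obj F) := fun v =>
    near_iso ((Scheme.Modules.restrictFunctorIsoPullback U.ι).app F ≪≫ Iso.refl _)
      (near_iso φ.symm ⟨⊤, trivial, ⟨(Scheme.Modules.restrictFunctorIsoPullback _).app _ ≪≫
        KFlat.LocFree.pullFreeIso _ p⟩⟩)
  exact ((locFree_iff F p U.ι).mp h1).1 ⟨x, hx⟩

theorem lfp_relIdeal (hF : CohB1.IsFP F) : LocallyOfFinitePresentation (relIdeal F p).subschemeι := by
  rw [LimLib.lfp_subschemeι_iff, relIdeal]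
  intro U
  haveI : SheafOfModules.IsFinitePresentation.{u} F := hF
  haveI : Module.Finite Γ(X, U.1) Γ(F, U.1) := QCoh.finite_sections_of_isFiniteType F U.2
  haveI := Props.QFP.finitePresentation_sections_of_isFP F U.2
  split
  · rw [Scheme.IdealSheafData.ideal_bot]; exact Submodule.fg_bot
  · rw [FittLib.sheafIdeal_ideal]; exact FittLib.ideal_eq_G_rel _

theorem isCompact_inter_genOpen (hF : CohB1.IsFP F) {U : X.Opens} (hU : IsAffineOpen U) :
    IsCompact ((U : Set X) ∩ genOpen F p) := by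
  haveI : SheafOfModules.IsFinitePresentation.{u} F := hF
  haveI : Module.Finite Γ(X, U) Γ(F, U) := QCoh.finite_sections_of_isFiniteType F hU
  haveI := Props.QFP.finitePresentation_sections_of_isFP F hU
  obtain ⟨T, hT⟩ := FittLib.ideal_eq_G_rel (R := Γ(X, U)) (M := Γ(F, U)) p
  have e : (U : Set X) ∩ genOpen F p = ⋃ a ∈ (T : Set Γ(X, U)), (X.basicOpen a : Set X) := by
    ext x
    simp only [Set.mem_inter_iff, Set.mem_iUnion₂, SetLike.mem_coe]
    constructor
    · rintro ⟨hxU, hx⟩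
      rw [mem_genOpen, FittLib.mem_support_iff F p ⟨U, hU⟩ x hxU, ← hT, Ideal.span_le] at hx
      obtain ⟨a, ha, hna⟩ := Set.not_subset.mp hx
      exact ⟨a, ha, (RegImm44.mem_basicOpen_iff hU ⟨x, hxU⟩ a).2 hna⟩
    · rintro ⟨a, ha, hxa⟩
      have hxU : x ∈ U := X.basicOpen_le a hxa
      refine ⟨hxU, ?_⟩
      rw [mem_genOpen, FittLib.mem_support_iff F p ⟨U, hU⟩ x hxU, ← hT, Ideal.span_le]
      exact fun hall => (RegImm44.mem_basicOpen_iff hU ⟨x, hxU⟩ a).1 hxa (hall ha)
  rw [e]
  exact T.finite_toSet.isCompact_biUnion fun a _ => (hU.basicOpen a).isCompact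

end Fitting

section Main

variable {X S : Scheme.{u}}

theorem exists_generic (q : X ⟶ S) [GeometricallyIrreducible q] (t : S) :
    ∃ x : X, q x = t ∧ FlatFun.IsGenericPtOfFibre q x := by
  refine ⟨q.fiberι t (genericPoint ↥(q.fiber t)), ?_, fun x' hx' => ?_⟩
  · have : q.fiberι t (genericPoint ↥(q.fiber t)) ∈ Set.range (q.fiberι t) := ⟨_, rfl⟩
    rwa [Scheme.Hom.range_fiberι] at this
  · have h0 : q.fiberι t (genericPoint ↥(q.fiber t)) ∈ Set.range (q.fiberι t) := ⟨_, rfl⟩
    obtain ⟨z, rfl⟩ : x' ∈ Set.range (q.fiberι t) := by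
      rw [Scheme.Hom.range_fiberι] at h0 ⊢
      exact hx'.trans h0
    exact (genericPoint_specializes z).map (q.fiberι t).continuous

/-- A base change of the part of `f` over `W ⟶ V` is an open piece of the base change of `f`. -/
theorem exists_openImm (f : X ⟶ S) {W : X.Opens} {V : S.Opens} (q : (W : Scheme.{u}) ⟶ V)
    (hq : q ≫ V.ι = W.ι ≫ f) {T Z : Scheme.{u}} {g : T ⟶ S} {g' : T ⟶ V} (hg : g' ≫ V.ι = g)
    {a : Z ⟶ W} {b : Z ⟶ T} (h : IsPullback a b q g') :
    ∃ k : Z ⟶ pullback f g, IsOpenImmersion k ∧ k ≫ pullback.fst f g = a ≫ W.ι ∧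
      k ≫ pullback.snd f g = b := by
  subst hg
  have hout : IsPullback b a (g' ≫ V.ι) (W.ι ≫ f) := by
    refine IsPullback.mk' (by rw [← hq, reassoc_of% h.w]) (fun _ _ _ h1 h2 => h.hom_ext h2 h1)
      fun {A} c d w => ?_
    have w' : d ≫ q = c ≫ g' := by
      rw [← cancel_mono V.ι, Category.assoc, Category.assoc, hq, w]
    exact ⟨h.lift d c w', h.lift_snd .., h.lift_fst ..⟩
  refine ⟨pullback.lift (a ≫ W.ι) b (by rw [Category.assoc, hout.w]), ?_, pullback.lift_fst _ _ _,
    pullback.lift_snd _ _ _⟩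
  have hsq : IsPullback (pullback.lift (a ≫ W.ι) b (by rw [Category.assoc, hout.w])) a
      (pullback.fst f (g' ≫ V.ι)) W.ι :=
    IsPullback.of_right (h₁₂ := pullback.snd f (g' ≫ V.ι)) (v₁₃ := g' ≫ V.ι) (h₂₂ := f)
      (by rw [pullback.lift_snd]; exact hout) (pullback.lift_fst _ _ _)
      (IsPullback.of_hasPullback f (g' ≫ V.ι)).flip
  exact MorphismProperty.of_isPullback hsq.flip (inferInstance : IsOpenImmersion W.ι)

theorem map_injective_of_eq {X : Scheme.{u}} {G : X.Opens} (hG : CInt.IsSchematicallyDense G)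
    {V V' : X.Opens} (e : V' = V ⊓ G) (h : V' ≤ V) :
    Function.Injective (X.presheaf.map (homOfLE h).op) := by
  subst e; exact hG V

/-- A dense open detects the kernel of a morphism. -/
theorem le_ker_of_dense {Z W : Scheme.{u}} (a : Z ⟶ W) {G : Z.Opens}
    (hG : CInt.IsSchematicallyDense G) {J : W.IdealSheafData} (h : J ≤ (G.ι ≫ a).ker) : J ≤ a.ker := by
  refine Scheme.IdealSheafData.le_ofIdeals_iff.2 fun U x hx => ?_
  have h1 : (G.ι ≫ a).app U.1 x = 0 := Scheme.IdealSheafData.ideal_ofIdeals_le _ U (h U hx)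
  rw [Scheme.Hom.comp_app] at h1
  change (G.ι.app (a ⁻¹ᵁ U.1)) (a.app U.1 x) = 0 at h1
  rw [Scheme.Opens.ι_app] at h1
  refine RingHom.mem_ker.mpr (map_injective_of_eq hG ?_ _ (h1.trans (map_zero _).symm))
  exact Opens.ext (by
    rw [Scheme.Hom.coe_image, Scheme.Hom.coe_preimage, Set.image_preimage_eq_inter_range,
      Scheme.Opens.range_ι]
    rfl)

variable (f : X ⟶ S) [Smooth f] [GeometricallyIrreducible f]

/-- The condition is representable by an immersion. -/
theorem exists_immersion (F : X.Modules) [F.IsQuasicoherent] [F.IsFiniteType] (p : ℕ) :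
    ∃ (Z : Scheme.{u}) (i : Z ⟶ S), IsImmersion i ∧
      (∀ T : Over S, (∃ l : T.left ⟶ Z, l ≫ i = T.hom) ↔
        FlatFun.FreeAtGenericPts (PicF.XTproj f T) (FGA.ET f F T) p) ∧
      (CohB1.IsFP F → LocallyOfFinitePresentation i ∧ QuasiCompact i ∧ QuasiSeparated i) := by
  classical
  let W : X.Opens := genOpen F p
  let V : S.Opens := ⟨f '' W, f.isOpenMap _ W.2⟩
  have hrange : Set.range (W.ι ≫ f) ⊆ Set.range V.ι := by
    rw [Scheme.Opens.range_ι]
    rintro _ ⟨w, rfl⟩
    exact ⟨W.ι w, w.2, rfl⟩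
  let q : (W : Scheme.{u}) ⟶ V := IsOpenImmersion.lift V.ι (W.ι ≫ f) hrange
  have hq : q ≫ V.ι = W.ι ≫ f := IsOpenImmersion.lift_fac _ _ _
  haveI : Smooth (q ≫ V.ι) := by rw [hq]; infer_instance
  haveI : Smooth q := by
    have hpb : IsPullback q (𝟙 _) V.ι (q ≫ V.ι) :=
      IsPullback.mk' (by simp) (fun _ _ _ _ h2 => by simpa using h2) fun _ a b w =>
        ⟨b, by rw [← cancel_mono V.ι, w, Category.assoc], Category.comp_id _⟩
    exact MorphismProperty.of_isPullback hpb.flip ‹Smooth (q ≫ V.ι)›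
  haveI : Surjective q := ⟨fun v => by
    obtain ⟨w, hw, he⟩ := v.2
    exact ⟨⟨w, hw⟩, V.ι.isOpenEmbedding.injective
      (((congrArg (fun φ : (W : Scheme.{u}) ⟶ S => φ ⟨w, hw⟩) hq).trans he) :)⟩⟩
  haveI : GeometricallyIrreducible q := ⟨fun K _ y Z fst snd h => by
    obtain ⟨k, hk, -, -⟩ := exists_openImm f q hq rfl h
    haveI := hk
    haveI : IrreducibleSpace ↥(pullback f (y ≫ V.ι)) :=
      GeometricallyIrreducible.geometrically_irreducibleSpace _ _ _ (IsPullback.of_hasPullback f (y ≫ V.ι))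
    obtain ⟨w, hw⟩ := q.surjective (y default)
    obtain ⟨z, -, -⟩ := Scheme.exists_preimage_of_isPullback h w default hw
    haveI : Nonempty ↥Z := ⟨z⟩
    exact k.isOpenEmbedding.irreducibleSpace⟩
  let K := (relIdeal F p).comap W.ι
  have hconn : ∀ v : (V : Scheme.{u}), ConnectedSpace ↥(pullback q (Red.geomPt v)) := fun v => by
    haveI : IrreducibleSpace ↥(pullback q (Red.geomPt v)) :=
      GeometricallyIrreducible.geometrically_irreducibleSpace _ _ _ (IsPullback.of_hasPullback q (Red.geomPt v))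
    infer_instance
  obtain ⟨Z, t, ht, hZ, hfp⟩ := DiagRig.WeilLocus.exists_closed_lands q K.subschemeι hconn
  refine ⟨Z, t ≫ V.ι, inferInstance, fun T => ⟨?_, ?_⟩, fun hF => ?_⟩
  · rintro ⟨l, hl⟩
    have hg : (l ≫ t) ≫ V.ι = T.hom := by rw [Category.assoc]; exact hl
    obtain ⟨m, hm⟩ := (hZ T.left (l ≫ t)).1 ⟨l, rfl⟩
    obtain ⟨k, hk, hk1, hk2⟩ := exists_openImm f q hq hg (IsPullback.of_hasPullback q (l ≫ t))
    haveI := hk
    have hK : K ≤ (pullback.fst q (l ≫ t)).ker := by
      rw [← hm]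
      exact (le_of_eq (Scheme.IdealSheafData.ker_subschemeι K).symm).trans (Scheme.Hom.le_ker_comp _ _)
    have hfree : FlatMod.IsFinLocFreeOfRank p
        ((Scheme.Modules.pullback (pullback.fst q (l ≫ t) ≫ W.ι)).obj F) := by
      refine (locFree_iff F p _).mpr ⟨fun z => (pullback.fst q (l ≫ t) z).2, ?_⟩
      rw [Scheme.IdealSheafData.comap_comp, eq_bot_iff]
      refine Scheme.IdealSheafData.le_map_iff_comap_le.mp ?_
      rw [Scheme.IdealSheafData.map_bot]
      exact hK
    intro s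
    obtain ⟨ξ, hξ, hgen⟩ := exists_generic (PicF.XTproj f T) s
    obtain ⟨z, hz⟩ := (pullback.snd q (l ≫ t)).surjective s
    have hkz : PicF.XTproj f T (k z) = PicF.XTproj f T ξ := by
      rw [← Scheme.Hom.comp_apply]
      exact ((congrArg (fun φ : pullback q (l ≫ t) ⟶ T.left => φ z) hk2).trans hz).trans hξ.symm
    obtain ⟨z', rfl⟩ : ξ ∈ Set.range k :=
      (hgen (k z) hkz).mem_open k.opensRange.2 ⟨z, rfl⟩
    exact ⟨k z', hξ, hgen, near_of_pullback k (near_iso
      ((Scheme.Modules.pullbackCongr hk1.symm).app F ≪≫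
        ((Scheme.Modules.pullbackComp k (pullback.fst f T.hom)).app F).symm) (hfree z'))⟩
  · intro hP
    haveI := QCoh.isQuasicoherent_pullback (pullback.fst f T.hom) F
    haveI := FittLib.isFiniteType_pullback F (pullback.fst f T.hom)
    have hgT : Set.range T.hom ⊆ Set.range V.ι := by
      rw [Scheme.Opens.range_ι]
      rintro _ ⟨s, rfl⟩
      obtain ⟨ξ, hξ, -, U, hU, ⟨φ⟩⟩ := hP s
      have hloc : FlatMod.IsFinLocFreeOfRank p
          ((Scheme.Modules.pullback (U.ι ≫ pullback.fst f T.hom)).obj F) := fun v =>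
        near_iso ((Scheme.Modules.pullbackComp U.ι (pullback.fst f T.hom)).app F)
          (near_pullback U.ι ⟨U, v.2, ⟨φ⟩⟩)
      refine ⟨pullback.fst f T.hom ξ, ((locFree_iff F p _).mp hloc).1 ⟨ξ, hU⟩, ?_⟩
      rw [← Scheme.Hom.comp_apply, pullback.condition, Scheme.Hom.comp_apply]
      exact congrArg T.hom hξ
    let g' := IsOpenImmersion.lift V.ι T.hom hgT
    have hg : g' ≫ V.ι = T.hom := IsOpenImmersion.lift_fac _ _ _
    suffices hL : DiagRig.WeilLocus.Lands q K.subschemeι g' by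
      obtain ⟨l, hl⟩ := (hZ T.left g').2 hL
      exact ⟨l, by rw [reassoc_of% hl, hg]⟩
    obtain ⟨k, hk, hk1, hk2⟩ := exists_openImm f q hq hg (IsPullback.of_hasPullback q g')
    haveI := hk
    let a := pullback.fst q g'
    let G₀ : (PicF.XT f T).Opens :=
      ⟨{x | FlatFun.IsFreeOfRankNear (FGA.ET f F T) p x}, isOpen_iff_forall_mem_open.mpr
        fun x ⟨U, hx, hU⟩ => ⟨U, fun y hy => ⟨U, hy, hU⟩, U.2, hx⟩⟩
    let G := k ⁻¹ᵁ G₀
    haveI : GeometricallyIrreducible (pullback.snd q g') := inferInstance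
    haveI := GrpdLib.SepDense.geometricallyReduced_of_smooth (pullback.snd q g')
    have hdense : CInt.IsSchematicallyDense G := by
      refine BigOpen12.isSchematicallyDense_of_fibres (pullback.snd q g') G fun s => ?_
      refine SchDense.schDense_of_dense ((Opens.isOpen _).dense ?_)
      obtain ⟨ξ, hξ, hgen, hnear⟩ := hP s
      obtain ⟨z, hz⟩ := (pullback.snd q g').surjective s
      have hkz : PicF.XTproj f T (k z) = PicF.XTproj f T ξ := by
        rw [← Scheme.Hom.comp_apply]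
        exact ((congrArg (fun φ : pullback q g' ⟶ T.left => φ z) hk2).trans hz).trans hξ.symm
      obtain ⟨z', rfl⟩ : ξ ∈ Set.range k := (hgen (k z) hkz).mem_open k.opensRange.2 ⟨z, rfl⟩
      have hz' : pullback.snd q g' z' = s := by
        rw [← hk2, Scheme.Hom.comp_apply]; exact hξ
      obtain ⟨w, hw⟩ : z' ∈ Set.range ((pullback.snd q g').fiberι s) := by
        rw [Scheme.Hom.range_fiberι]; exact hz'
      exact ⟨w, show k ((pullback.snd q g').fiberι s w) ∈ G₀ by rw [hw]; exact hnear⟩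
    have hfreeG : FlatMod.IsFinLocFreeOfRank p ((Scheme.Modules.pullback (G.ι ≫ a ≫ W.ι)).obj F) := fun v =>
      near_iso ((Scheme.Modules.pullbackComp G.ι (a ≫ W.ι)).app F)
        (near_pullback G.ι (near_iso ((Scheme.Modules.pullbackComp k (pullback.fst f T.hom)).app F ≪≫
          (Scheme.Modules.pullbackCongr hk1).app F) (near_pullback k v.2)))
    have hbot := ((locFree_iff F p _).mp hfreeG).2
    rw [← Category.assoc, Scheme.IdealSheafData.comap_comp] at hbot
    have hle : K ≤ (G.ι ≫ a).ker := by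
      rw [← Scheme.IdealSheafData.map_bot]
      exact Scheme.IdealSheafData.le_map_iff_comap_le.mpr hbot.le
    have hle' : K.subschemeι.ker ≤ a.ker := by
      rw [Scheme.IdealSheafData.ker_subschemeι]; exact le_ker_of_dense a hdense hle
    exact ⟨IsClosedImmersion.lift K.subschemeι a hle', IsClosedImmersion.lift_fac _ _ _⟩
  · haveI := lfp_relIdeal F p hF
    haveI := hfp (inferInstance : LocallyOfFinitePresentation K.subschemeι)
    haveI : QuasiCompact V.ι := by
      rw [quasiCompact_iff_forall_isAffineOpen]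
      intro U hU
      rw [V.ι.isOpenEmbedding.isEmbedding.isCompact_iff, Scheme.Hom.coe_preimage,
        Set.image_preimage_eq_inter_range, Scheme.Opens.range_ι]
      have hex : ∀ s : U, ∃ O : X.Opens, IsAffineOpen O ∧ O ≤ f ⁻¹ᵁ U ∧ ∃ x, x ∈ O ∧ f x = (s : S) := fun s => by
        obtain ⟨x, hx⟩ := f.surjective (s : S)
        obtain ⟨O, hO, hxO, hle⟩ := exists_isAffineOpen_mem_and_subset (U := f ⁻¹ᵁ U) (x := x)
          (show f x ∈ U by rw [hx]; exact s.2)
        exact ⟨O, hO, hle, x, hxO, hx⟩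
      choose O hO hOU hsO using hex
      obtain ⟨I, hI⟩ := hU.isCompact.elim_finite_subcover (fun s : U => f '' (O s : Set X))
        (fun s => f.isOpenMap _ (O s).2) (fun s hs => Set.mem_iUnion.mpr ⟨⟨s, hs⟩, hsO ⟨s, hs⟩⟩)
      have e : (U : Set S) ∩ (V : Set S) = ⋃ s ∈ I, f '' ((O s : Set X) ∩ genOpen F p) := by
        ext y
        simp only [Set.mem_inter_iff, Set.mem_iUnion₂, SetLike.mem_coe]
        constructor
        · rintro ⟨hyU, w, hw, rfl⟩
          obtain ⟨s, hs, x, hxO, hxy⟩ := Set.mem_iUnion₂.mp (hI hyU)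
          obtain ⟨ξ, hξ, hgen⟩ := exists_generic f (f w)
          exact ⟨s, hs, ξ, ⟨(hgen x (hxy.trans hξ.symm)).mem_open (O s).2 hxO,
            (hgen w hξ.symm).mem_open W.2 hw⟩, hξ⟩
        · rintro ⟨s, -, x, ⟨hxO, hxW⟩, rfl⟩
          exact ⟨hOU s hxO, x, hxW, rfl⟩
      rw [e]
      exact I.isCompact_biUnion fun s _ =>
        (isCompact_inter_genOpen F p hF (hO s)).image f.continuous
    exact ⟨inferInstance, inferInstance, inferInstance⟩

end Main

end Groth.Agent.FlatMor62.GenRankLocus
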