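import Groth.Agent.FlatMor62.DimGE
import Groth.Agent.FlatMor62.GenRankLocus
import Groth.Agent.FlatMor.PullTilde
import Groth.Agent.S9029
import Groth.Agent.AlgSpD.RelDim
import Groth.Agent.FDesc.Stalk
import Groth.Agent.FlatOpen.Scheme

/-!
# Flatness in dimensions `≥ e` for smooth algebras of relative dimension `e`
-/

set_option autoImplicit false
set_option linter.style.haveILetI false
set_option linter.unusedSectionVars false
set_option backward.isDefEq.respectTransparency false
set_option backward.isDefEq.respectTransparency.types false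

universe u

open CategoryTheory CategoryTheory.Limits AlgebraicGeometry
open scoped TensorProduct

namespace Groth.Agent.FlatMor62.DimGEScheme

/-- A coproduct of monomorphisms with disjoint images is a monomorphism. -/
theorem mono_sigmaDesc {σ : Type u} {A : σ → Scheme.{u}} {B : Scheme.{u}} (φ : ∀ i, A i ⟶ B) [∀ i, Mono (φ i)]
    (hd : ∀ i j x y, φ i x = φ j y → i = j) : Mono (Sigma.desc φ) := by
  refine ⟨fun {W} a b hab => ?_⟩
  let V : σ → W.Opens := fun i => a ⁻¹ᵁ (Sigma.ι A i).opensRange
  have hV : ⨆ i, V i = ⊤ := by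
    rw [eq_top_iff]
    intro w _
    obtain ⟨⟨i, x⟩, hx⟩ := (sigmaMk A).surjective (a w)
    rw [sigmaMk_mk] at hx
    exact TopologicalSpace.Opens.mem_iSup.2 ⟨i, ⟨x, hx⟩⟩
  refine (W.openCoverOfIsOpenCover V hV).hom_ext _ _ fun i => ?_
  show (V i).ι ≫ a = (V i).ι ≫ b
  have ha : Set.range ((V i).ι ≫ a) ⊆ Set.range (Sigma.ι A i) := by
    rintro _ ⟨w, rfl⟩
    exact w.2
  have hb : Set.range ((V i).ι ≫ b) ⊆ Set.range (Sigma.ι A i) := by
    rintro _ ⟨w, rfl⟩
    obtain ⟨x, hx⟩ := (w.2 : a w.1 ∈ Set.range (Sigma.ι A i))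
    obtain ⟨⟨j, y⟩, hy⟩ := (sigmaMk A).surjective (b w.1)
    rw [sigmaMk_mk] at hy
    have h : φ i x = φ j y := by
      rw [← Sigma.ι_desc φ i, ← Sigma.ι_desc φ j, Scheme.Hom.comp_apply, Scheme.Hom.comp_apply, hx, hy,
        ← Scheme.Hom.comp_apply, ← Scheme.Hom.comp_apply, hab]
    obtain rfl := hd i j x y h
    exact ⟨y, hy⟩
  rw [← IsOpenImmersion.lift_fac (Sigma.ι A i) _ ha, ← IsOpenImmersion.lift_fac (Sigma.ι A i) _ hb]
  congr 1
  rw [← cancel_mono (φ i), ← Sigma.ι_desc φ i, IsOpenImmersion.lift_fac_assoc, IsOpenImmersion.lift_fac_assoc,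
    Category.assoc, Category.assoc, hab]

section Bridge

variable (A D : Type u) [CommRing A] [CommRing D] [Algebra A D]

/-- The morphism of spectra of an algebra. -/
noncomputable abbrev str : Spec (CommRingCat.of D) ⟶ Spec (CommRingCat.of A) := Spec.map (CommRingCat.ofHom (algebraMap A D))

/-- Residual transcendence degrees on spectra. -/
theorem resTrdeg_eq (z : Spec (CommRingCat.of D)) (t : Ideal A) (P : Ideal D) [t.IsPrime] [P.IsPrime] [P.LiesOver t]
    (hP : z.asIdeal = P) :
    Dual3.resTrdeg (str A D) z = Algebra.trdeg (A ⧸ t) (D ⧸ P) := by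
  let f := str A D
  have ht : (f z).asIdeal = t := by
    show z.asIdeal.comap (algebraMap A D) = t
    rw [hP]; exact (P.over_def t).symm
  letI := (f.residueFieldMap z).hom.toAlgebra
  let eA : A →+* (Spec (CommRingCat.of A)).residueField (f z) :=
    ((Scheme.ΓSpecIso (CommRingCat.of A)).inv ≫ (Spec (CommRingCat.of A)).evaluation ⊤ (f z) trivial).hom
  let eD : D →+* (Spec (CommRingCat.of D)).residueField z :=
    ((Scheme.ΓSpecIso (CommRingCat.of D)).inv ≫ (Spec (CommRingCat.of D)).evaluation ⊤ z trivial).hom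
  have hker : ∀ (R : CommRingCat.{u}) (x : Spec R),
      RingHom.ker ((Scheme.ΓSpecIso R).inv ≫ (Spec R).evaluation ⊤ x trivial).hom = x.asIdeal ∧
      ∀ w, ∃ a b, w = ((Scheme.ΓSpecIso R).inv ≫ (Spec R).evaluation ⊤ x trivial).hom a /
        ((Scheme.ΓSpecIso R).inv ≫ (Spec R).evaluation ⊤ x trivial).hom b := by
    intro R x
    haveI : x.asIdeal.IsPrime := x.2
    have he : (Scheme.ΓSpecIso R).inv ≫ (Spec R).evaluation ⊤ x trivial =
        CommRingCat.ofHom (algebraMap R x.asIdeal.ResidueField) ≫ (Scheme.Spec.residueFieldIso R x).inv :=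
      (Scheme.Spec.algebraMap_residueFieldIso_inv R x).symm
    rw [he]
    let e := (Scheme.Spec.residueFieldIso R x).symm.commRingCatIsoToRingEquiv
    refine ⟨?_, fun w => ?_⟩
    · ext a
      rw [RingHom.mem_ker]
      show e (algebraMap R _ a) = 0 ↔ _
      rw [map_eq_zero_iff e e.injective, Ideal.algebraMap_residueField_eq_zero]
    · obtain ⟨a, b, -, hab⟩ := IsFractionRing.div_surjective (A := (R : Type u) ⧸ x.asIdeal) (e.symm w)
      obtain ⟨a', rfl⟩ := Ideal.Quotient.mk_surjective a
      obtain ⟨b', rfl⟩ := Ideal.Quotient.mk_surjective b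
      refine ⟨a', b', ?_⟩
      show w = e (algebraMap R x.asIdeal.ResidueField a') / e (algebraMap R x.asIdeal.ResidueField b')
      rw [← map_div₀ e]
      exact (e.apply_symm_apply w).symm.trans (congrArg e hab.symm)
  refine CycLib.trdeg_eq_of_eval t P eA eD (fun a => ?_) ((hker _ _).1.trans ht) ((hker _ _).1.trans hP)
    (hker _ _).2 (hker _ _).2
  show (Spec (CommRingCat.of D)).evaluation ⊤ z trivial ((Scheme.ΓSpecIso (CommRingCat.of D)).inv
      (CommRingCat.ofHom (algebraMap A D) a)) =
    f.residueFieldMap z ((Spec (CommRingCat.of A)).evaluation ⊤ (f z) trivial ((Scheme.ΓSpecIso (CommRingCat.of A)).inv a))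
  rw [Scheme.evaluation_naturality_apply]
  exact congrArg _ (congr($(Scheme.ΓSpecIso_inv_naturality (CommRingCat.ofHom (algebraMap A D))) a))

variable (G : Type u) [AddCommGroup G] [Module D G] [Module A G] [IsScalarTower A D G]

/-- Flatness of the sheaf of a module at a point is flatness at the prime. -/
theorem isFlatOverAt_tilde (z : Spec (CommRingCat.of D)) :
    FlatMod.IsFlatOverAt (str A D) (tilde (R := CommRingCat.of D) (ModuleCat.of D G)) z ↔
      (haveI : z.asIdeal.IsPrime := z.2; FlatCA.FlatAt A z.asIdeal G) := by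
  haveI : z.asIdeal.IsPrime := z.2
  let f := str A D
  haveI : (f z).asIdeal.IsPrime := (f z).2
  let M := tilde (R := CommRingCat.of D) (ModuleCat.of D G)
  let N := M.presheaf.stalk z
  letI : Module ((Spec (CommRingCat.of A)).presheaf.stalk (f z)) N := FlatMod.moduleStalkOver f M z
  let X := Spec (CommRingCat.of D)
  let γ : D →+* X.presheaf.stalk z :=
    ((Scheme.ΓSpecIso (CommRingCat.of D)).inv ≫ X.presheaf.germ ⊤ z trivial).hom
  letI : Algebra D (X.presheaf.stalk z) := γ.toAlgebra
  haveI : IsLocalization.AtPrime (X.presheaf.stalk z) z.asIdeal := by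
    exact StructureSheaf.IsLocalization.to_stalk (CommRingCat.of D) z
  letI : Module D N := Module.compHom N γ
  letI : Module A N := Module.compHom N (algebraMap A D)
  haveI : IsScalarTower A D N := IsScalarTower.of_algebraMap_smul fun _ _ => rfl
  let eM := Props.QTilde.topEquiv (R := CommRingCat.of D) (ModuleCat.of D G)
  let eR := Props.QTilde.topRingEquiv (CommRingCat.of D)
  let β : G →ₗ[D] N :=
    { toFun := fun m => PullStalk.Sky.germM M ⊤ z trivial (eM m)
      map_add' := fun m m' => by rw [← AssSch.Stalk.germM_add]; exact congrArg _ (map_add eM m m')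
      map_smul' := fun d m => by
        refine Eq.trans (congrArg (PullStalk.Sky.germM M ⊤ z trivial)
          ((eM.map_smul d m).trans (Props.QTilde.topRingEquiv_smul (R := CommRingCat.of D) M d (eM m)).symm)) ?_
        exact PullStalk.Sky.germM_smul M ⊤ z trivial (eR d) (eM m) }
  have hunit : ∀ d : D, eR d ∉ AssSch.Stalk.primeOf (isAffineOpen_top X) z trivial ↔ d ∉ z.asIdeal := fun d => by
    rw [← AssSch.Stalk.isUnit_germ_iff (isAffineOpen_top X) z trivial]
    exact IsLocalization.AtPrime.isUnit_to_map_iff (X.presheaf.stalk z) z.asIdeal d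
  haveI : IsLocalizedModule z.asIdeal.primeCompl β := by
    refine ⟨fun d => ?_, fun n => ?_, fun {m m'} hm => ?_⟩
    · obtain ⟨v, hv⟩ := IsLocalization.map_units (X.presheaf.stalk z) d
      have e : ∀ n : N, algebraMap D (Module.End D N) (d : D) n = (v : X.presheaf.stalk z) • n :=
        fun n => congrArg (· • n) hv.symm
      rw [Module.End.isUnit_iff]
      refine ⟨fun a b hab => ?_, fun n => ⟨(↑v⁻¹ : X.presheaf.stalk z) • n, ?_⟩⟩
      · rw [e, e] at hab
        simpa [smul_smul] using congrArg ((↑v⁻¹ : X.presheaf.stalk z) • ·) hab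
      · rw [e, smul_smul, Units.mul_inv, one_smul]
    · obtain ⟨g, s, hg, hs⟩ := AssSch.Stalk.exists_germ_smul_eq M (isAffineOpen_top X) z trivial n
      refine ⟨⟨eM.symm s, ⟨eR.symm g, (hunit _).mp (by rwa [eR.apply_symm_apply])⟩⟩, ?_⟩
      show γ (eR.symm g) • n = PullStalk.Sky.germM M ⊤ z trivial (eM (eM.symm s))
      rw [eM.apply_symm_apply, ← hs]
      exact congrArg (· • n) (congrArg (X.presheaf.germ ⊤ z trivial) (eR.apply_symm_apply g))
    · obtain ⟨g, hg, hgs⟩ := (AssSch.Stalk.germM_eq_zero_iff M (isAffineOpen_top X) z trivial (eM m - eM m')).mp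
        ((map_sub _ _ _).trans (sub_eq_zero.mpr hm))
      refine ⟨⟨eR.symm g, (hunit _).mp (by rwa [eR.apply_symm_apply])⟩, ?_⟩
      show eR.symm g • m = eR.symm g • m'
      refine eM.injective ((eM.map_smul (eR.symm g) m).trans ?_)
      refine ((Props.QTilde.topRingEquiv_smul (R := CommRingCat.of D) M (eR.symm g) (eM m)).symm.trans ?_).trans
        ((Props.QTilde.topRingEquiv_smul (R := CommRingCat.of D) M (eR.symm g) (eM m')).trans (eM.map_smul (eR.symm g) m').symm)
      show eR (eR.symm g) • eM m = eR (eR.symm g) • eM m'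
      rw [eR.apply_symm_apply]
      exact sub_eq_zero.mp ((smul_sub _ _ _).symm.trans hgs)
  letI : Algebra A ((Spec (CommRingCat.of A)).presheaf.stalk (f z)) :=
    (((Scheme.ΓSpecIso (CommRingCat.of A)).inv ≫ (Spec (CommRingCat.of A)).presheaf.germ ⊤ (f z) trivial).hom).toAlgebra
  haveI : IsLocalization (f z).asIdeal.primeCompl ((Spec (CommRingCat.of A)).presheaf.stalk (f z)) := by
    exact StructureSheaf.IsLocalization.to_stalk (CommRingCat.of A) (f z)
  haveI : IsScalarTower A ((Spec (CommRingCat.of A)).presheaf.stalk (f z)) N := by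
    refine IsScalarTower.of_algebraMap_smul fun a n => ?_
    show (f.stalkMap z).hom ((Spec (CommRingCat.of A)).presheaf.germ ⊤ (f z) trivial
      ((Scheme.ΓSpecIso (CommRingCat.of A)).inv a)) • n = γ (algebraMap A D a) • n
    congr 1
    refine (Scheme.Hom.germ_stalkMap_apply f ⊤ z trivial _).trans ?_
    exact congrArg _ (congr($(Scheme.ΓSpecIso_inv_naturality (CommRingCat.ofHom (algebraMap A D))) a)).symm
  exact FlatOpen.Scheme.flat_iff_flatAt (f z).asIdeal.primeCompl z.asIdeal G N β

end Bridge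

end Groth.Agent.FlatMor62.DimGEScheme
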