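import Groth.Agent.FlatMor62.DimGE
import Groth.Agent.FlatMor62.DevExist
import Groth.Agent.FlatMor.FlatAtBC
import Groth.Agent.Content.UnivInj
import Groth.Agent.RG.FreeBlow

/-!
# One dévissage step and flatness in dimensions `≥ n`
-/

set_option autoImplicit false
set_option linter.style.haveILetI false

universe u

open TensorProduct

namespace Groth.Agent.FlatMor62.DimGEStep

section UI

variable {A D : Type u} [CommRing A] [CommRing D] [Algebra A D]

/-- A map split up to an element which is regular on every fibre is universally injective. -/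
theorem ui_of_split [Module.Projective A D] {r : ℕ} {G : Type u} [AddCommGroup G] [Module D G] [Module A G]
    [IsScalarTower A D G] (α : (Fin r → D) →ₗ[D] G) (h : D)
    (β : G →ₗ[D] (Fin r → D)) (hβ : ∀ x, β (α x) = h • x)
    (hp : ∀ (m : Ideal A) [m.IsMaximal], (m.map (algebraMap A D)).IsPrime)
    (hh : ∀ (m : Ideal A) [m.IsMaximal], h ∉ m.map (algebraMap A D)) :
    ∀ (L : Type u) [AddCommGroup L] [Module A L], Function.Injective ((α.restrictScalars A).rTensor L) := by
  intro L _ _
  let μ : (Fin r → D) →ₗ[A] (Fin r → D) := (β ∘ₗ α).restrictScalars A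
  suffices hμ : Function.Injective (μ.rTensor L) by
    intro a b hab
    refine hμ ?_
    show ((β.restrictScalars A) ∘ₗ (α.restrictScalars A)).rTensor L a = ((β.restrictScalars A) ∘ₗ (α.restrictScalars A)).rTensor L b
    rw [LinearMap.rTensor_comp_apply, LinearMap.rTensor_comp_apply, hab]
  haveI : Module.Projective A (Fin r → D) :=
    Module.Projective.of_equiv (DFinsupp.linearEquivFunOnFintype (R := A) (M := fun _ : Fin r => D))
  refine Content.univInj_of_projective μ (fun m _ => ?_) L
  rw [injective_iff_map_eq_zero]
  intro z hz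
  obtain ⟨x, rfl⟩ := TensorProduct.mk_surjective A (Fin r → D) (A ⧸ m) Ideal.Quotient.mk_surjective z
  have hμx : μ x = h • x := hβ x
  have h0 : h • x ∈ m • (⊤ : Submodule A (Fin r → D)) := by
    have := congrArg (TensorProduct.quotTensorEquivQuotSMul (Fin r → D) m) hz
    rw [map_zero, show LinearMap.lTensor (A ⧸ m) μ ((TensorProduct.mk A (A ⧸ m) (Fin r → D)) 1 x) =
      (1 : A ⧸ m) ⊗ₜ[A] μ x from rfl, TensorProduct.quotTensorEquivQuotSMul_mk_one_tmul,
      Submodule.Quotient.mk_eq_zero, hμx] at this
    exact this
  have hx : ∀ i, x i ∈ m.map (algebraMap A D) := fun i => by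
    refine ((hp m).mem_or_mem ?_).resolve_left (hh m)
    refine Submodule.smul_induction_on (p := fun v : Fin r → D => v i ∈ m.map (algebraMap A D)) h0
      (fun a ha v _ => ?_) fun v w hv hw => add_mem hv hw
    show a • v i ∈ _
    rw [Algebra.smul_def]
    exact Ideal.mul_mem_right _ _ (Ideal.mem_map_of_mem _ ha)
  show (1 : A ⧸ m) ⊗ₜ[A] x = 0
  rw [pi_eq_sum_univ' x, TensorProduct.tmul_sum]
  refine Finset.sum_eq_zero fun i _ => ?_
  have hi : x i ∈ m • (⊤ : Submodule A D) := by rw [Ideal.smul_top_eq_map]; exact hx i
  refine Submodule.smul_induction_on (p := fun b => (1 : A ⧸ m) ⊗ₜ[A] (b • (Pi.single i 1 : Fin r → D)) = 0) hi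
    (fun a ha b _ => ?_) fun a b ha hb => by rw [add_smul, TensorProduct.tmul_add, ha, hb, add_zero]
  rw [smul_assoc, ← TensorProduct.smul_tmul, Algebra.smul_def, mul_one]
  show Ideal.Quotient.mk m a ⊗ₜ[A] _ = 0
  rw [Ideal.Quotient.eq_zero_iff_mem.mpr ha, TensorProduct.zero_tmul]

/-- Regularity on the fibres is stable under base change. -/
theorem notMem_map {A' D' : Type u} [CommRing A'] [CommRing D'] [Algebra A A'] [Algebra D D'] [Algebra A' D']
    [Algebra A D'] [IsScalarTower A D D'] [IsScalarTower A A' D'] [Algebra.IsPushout A D A' D']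
    (h : D) (m : Ideal A') [m.IsPrime]
    (hh : ∃ Q : Ideal D, Q.IsPrime ∧ Q.comap (algebraMap A D) = m.comap (algebraMap A A') ∧ h ∉ Q) :
    algebraMap D D' h ∉ m.map (algebraMap A' D') := by
  obtain ⟨Q, hQ, hQm, hhQ⟩ := hh
  haveI := hQ
  obtain ⟨Q', hQ', h1, h2⟩ := FlatMor.FlatAtBC.exists_prime_of_pushout (R := A) (S := D) (R' := A') (S' := D')
    (m.comap (algebraMap A A')) Q m hQm rfl
  intro hm
  exact hhQ (h1 ▸ (Ideal.map_le_iff_le_comap.mpr h2.ge) hm)

end UI

section Split

variable {A D : Type u} [CommRing A] [CommRing D] [Algebra A D] [Module.Flat A D]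

/-- A map bijective modulo the generic point of the fibre, into a module flat there, splits near it. -/
theorem exists_split (s : Ideal A) [(s.map (algebraMap A D)).IsPrime]
    {G : Type u} [AddCommGroup G] [Module D G] [Module A G] [IsScalarTower A D G] [Module.FinitePresentation D G]
    {r : ℕ} (α : (Fin r → D) →ₗ[D] G) (hbij : Function.Bijective (α.baseChange (s.map (algebraMap A D)).ResidueField))
    (hflat : FlatCA.FlatAt A (s.map (algebraMap A D)) G) :
    ∃ h ∉ s.map (algebraMap A D), ∃ β : G →ₗ[D] (Fin r → D), ∀ x, β (α x) = h • x := by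
  classical
  let η := s.map (algebraMap A D)
  let T := η.primeCompl
  let R' := Localization T
  let F' := LocalizedModule T (Fin r → D)
  let G' := LocalizedModule T G
  let iF := LocalizedModule.mkLinearMap T (Fin r → D)
  let iG := LocalizedModule.mkLinearMap T G
  let f : F' →ₗ[R'] G' := LocalizedModule.map T α
  have hfi : ∀ x, f (iF x) = iG (α x) := fun x => LocalizedModule.map_mk T α x 1
  have hsurj : Function.Surjective f := by
    have hex := LocalizedModule.map_exact T α (LinearMap.range α).mkQ (LinearMap.exact_map_mkQ_range α)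
    haveI : Subsingleton (LocalizedModule T (G ⧸ LinearMap.range α)) :=
      Module.notMem_support_iff.mp (DevExist.notMem_support_coker η α hbij.2)
    exact fun y => (hex y).mp (Subsingleton.elim _ _)
  haveI : Module.FinitePresentation R' G' := inferInstance
  haveI : Module.Finite R' F' := Module.Finite.of_isLocalizedModule T (Rₚ := R') iF
  have hK : (LinearMap.ker f).FG := Module.FinitePresentation.fg_ker f hsurj
  haveI : Module.Flat A (Fin r → D) := Module.Flat.of_linearEquiv (DFinsupp.linearEquivFunOnFintype (R := A) (M := fun _ : Fin r => D)).symm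
  haveI : Module.Flat A F' := FlatMor.FlatAtBC.flat_localizedModule A T (Fin r → D)
  haveI : Module.Flat A G' := hflat
  haveI : IsScalarTower A R' F' := IsScalarTower.of_algebraMap_smul fun a x => by
    rw [IsScalarTower.algebraMap_apply A D R', IsScalarTower.algebraMap_smul, IsScalarTower.algebraMap_smul]
  haveI : IsScalarTower A R' G' := IsScalarTower.of_algebraMap_smul fun a x => by
    rw [IsScalarTower.algebraMap_apply A D R', IsScalarTower.algebraMap_smul, IsScalarTower.algebraMap_smul]
  let I : Ideal R' := IsLocalRing.maximalIdeal (Localization.AtPrime η)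
  have hker : LinearMap.ker f = ⊥ := by
    refine Submodule.eq_bot_of_le_smul_of_le_jacobson_bot I _ hK (fun x hx => ?_)
      (IsLocalRing.maximalIdeal_le_jacobson ⊥)
    obtain ⟨⟨y, t⟩, hxy⟩ := IsLocalizedModule.surj T iF x
    -- the coordinates of `y` vanish at the generic point of the fibre
    have h1 : iG (α y) = 0 := by
      rw [← hfi, ← hxy, Submonoid.smul_def]
      show f ((t : D) • x) = 0
      rw [LinearMap.map_smul_of_tower, LinearMap.mem_ker.mp hx, smul_zero]
    obtain ⟨c, hc⟩ := IsLocalizedModule.exists_of_eq (S := T) (f := iG) (h1.trans (map_zero _).symm)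
    have hy : ∀ i, y i ∈ η := fun i => by
      have h2 : α.baseChange η.ResidueField ((1 : η.ResidueField) ⊗ₜ[D] ((c : D) • y)) = 0 := by
        rw [LinearMap.baseChange_tmul, map_smul, show (c : D) • α y = 0 by simpa [Submonoid.smul_def] using hc,
          TensorProduct.tmul_zero]
      have h3 := congrArg ((TensorProduct.rid D η.ResidueField).toLinearMap ∘ₗ
        (LinearMap.proj (R := D) (φ := fun _ : Fin r => D) i).lTensor η.ResidueField)
        (hbij.1 (h2.trans (map_zero _).symm))
      simp only [map_zero, LinearMap.comp_apply, LinearMap.lTensor_tmul, LinearMap.coe_proj, Function.eval,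
        LinearEquiv.coe_coe, TensorProduct.rid_tmul, Pi.smul_apply, smul_eq_mul] at h3
      rw [Algebra.smul_def, mul_one] at h3
      exact ((inferInstance : η.IsPrime).mem_or_mem (Ideal.algebraMap_residueField_eq_zero.mp h3)).resolve_left c.2
    have hy' : y ∈ s • (⊤ : Submodule A (Fin r → D)) := by
      rw [pi_eq_sum_univ' y]
      refine Submodule.sum_mem _ fun i _ => ?_
      have hi : y i ∈ s • (⊤ : Submodule A D) := by rw [Ideal.smul_top_eq_map]; exact hy i
      exact Submodule.smul_induction_on (p := fun b => b • (Pi.single i 1 : Fin r → D) ∈ s • (⊤ : Submodule A (Fin r → D))) hi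
        (fun a ha b _ => by rw [smul_assoc]; exact Submodule.smul_mem_smul ha trivial)
        fun a b ha hb => by rw [add_smul]; exact add_mem ha hb
    have hx' : x ∈ LinearMap.range ((TensorProduct.rid A F').toLinearMap ∘ₗ LinearMap.lTensor F' s.subtype) := by
      have e : x = LocalizedModule.mk y t := by
        refine ((Module.End.isUnit_iff _).mp (IsLocalizedModule.map_units iF t)).1 ?_
        show (t : D) • x = (t : D) • LocalizedModule.mk y t
        rw [LocalizedModule.smul'_mk]
        exact (show (t : D) • x = iF y from hxy).trans (LocalizedModule.mk_cancel t y).symm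
      rw [e]
      refine Submodule.smul_induction_on (p := fun v => LocalizedModule.mk v t ∈ _) hy' (fun a ha v _ => ?_)
        fun v w hv hw => ?_
      · refine ⟨LocalizedModule.mk v t ⊗ₜ ⟨a, ha⟩, ?_⟩
        show a • LocalizedModule.mk v t = LocalizedModule.mk (a • v) t
        rw [LocalizedModule.smul'_mk]
      · rw [show LocalizedModule.mk (v + w) t = LocalizedModule.mk v t + LocalizedModule.mk w t by
          rw [LocalizedModule.mk_add_mk, ← smul_add, LocalizedModule.mk_cancel_common_left]]
        exact add_mem hv hw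
    obtain ⟨z, hz⟩ := hx'
    let fA := f.restrictScalars A
    have hzf : fA.rTensor s z = 0 := by
      refine Module.Flat.lTensor_preserves_injective_linearMap (M := G') s.subtype s.injective_subtype ?_
      rw [map_zero, ← LinearMap.comp_apply, LinearMap.lTensor_comp_rTensor, ← LinearMap.rTensor_comp_lTensor,
        LinearMap.comp_apply]
      have e2 : LinearMap.lTensor F' s.subtype z = x ⊗ₜ[A] 1 := by
        refine (TensorProduct.rid A F').injective ?_
        rw [TensorProduct.rid_tmul, one_smul]
        exact hz
      rw [e2, LinearMap.rTensor_tmul, show fA x = 0 from hx, TensorProduct.zero_tmul]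
    have hexf : Function.Exact (((LinearMap.ker f).subtype).restrictScalars A) fA := f.exact_subtype_ker_map
    obtain ⟨w, rfl⟩ := ((rTensor_exact (R := A) (M := ↥(LinearMap.ker f)) (f := ((LinearMap.ker f).subtype).restrictScalars A) (g := fA) (↥s) hexf (show Function.Surjective fA from hsurj)) z).mp hzf
    rw [← hz]
    clear hz hzf
    induction w using TensorProduct.induction_on with
    | zero => simp
    | tmul k a =>
      show (a : A) • (k : F') ∈ _
      rw [← IsScalarTower.algebraMap_smul R' (a : A) (k : F'), IsScalarTower.algebraMap_apply A D R']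
      refine Submodule.smul_mem_smul ?_ k.2
      exact (IsLocalization.AtPrime.to_map_mem_maximal_iff R' η (algebraMap A D (a : A))).mpr (Ideal.mem_map_of_mem _ a.2)
    | add v w hv hw => simp only [map_add]; exact add_mem hv hw
  let e := LinearEquiv.ofBijective f ⟨LinearMap.ker_eq_bot.mp hker, hsurj⟩
  obtain ⟨β, t, hβ⟩ := Module.FinitePresentation.exists_lift_of_isLocalizedModule T iF
    ((e.symm.toLinearMap.restrictScalars D) ∘ₗ iG)
  have hcol : ∀ j, ∃ c : T, (c : D) • β (α (Pi.single j 1)) = (c : D) • (t : D) • (Pi.single j 1 : Fin r → D) := by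
    intro j
    have h1 : iF (β (α (Pi.single j 1))) = iF ((t : D) • Pi.single j 1) := by
      have := LinearMap.congr_fun hβ (α (Pi.single j 1))
      simp only [LinearMap.comp_apply, LinearMap.smul_apply, Submonoid.smul_def] at this
      rw [this, map_smul, LinearMap.restrictScalars_apply, LinearEquiv.coe_coe, ← hfi]
      exact congrArg ((t : D) • ·) (e.symm_apply_apply _)
    obtain ⟨c, hc⟩ := IsLocalizedModule.exists_of_eq (S := T) (f := iF) h1
    exact ⟨c, hc⟩
  choose c hc using hcol
  let C := ∏ j, (c j : D)
  have hC : C ∉ η := fun hh => by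
    obtain ⟨j, -, hj⟩ := (inferInstance : η.IsPrime).prod_mem_iff.mp hh
    exact (c j).2 hj
  refine ⟨C * t, fun hh => ((inferInstance : η.IsPrime).mem_or_mem hh).elim hC t.2, C • β, fun x => ?_⟩
  have hlin : (C • β) ∘ₗ α = (C * (t : D)) • LinearMap.id := by
    refine (Pi.basisFun D (Fin r)).ext fun j => ?_
    obtain ⟨d, hd⟩ : (c j : D) ∣ C := Finset.dvd_prod_of_mem (fun j => (c j : D)) (Finset.mem_univ j)
    simp only [Pi.basisFun_apply, LinearMap.comp_apply, LinearMap.smul_apply, LinearMap.id_apply]
    rw [hd, mul_comm (c j : D) d, mul_smul, hc j, ← mul_smul, ← mul_smul, mul_assoc]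
  exact LinearMap.congr_fun hlin x

end Split

end Groth.Agent.FlatMor62.DimGEStep
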