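import Groth.Agent.FlatMor62.DimGEScheme
import Groth.Agent.FlatMor62.DimGEModels
import Groth.Agent.S9827

/-!
# The step of top dimension
-/

set_option autoImplicit false
set_option linter.style.haveILetI false
set_option linter.unusedSectionVars false
set_option backward.isDefEq.respectTransparency false
set_option backward.isDefEq.respectTransparency.types false

universe u

open CategoryTheory CategoryTheory.Limits AlgebraicGeometry
open scoped TensorProduct

namespace Groth.Agent.FlatMor62.DimGETop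

open DimGEScheme

/-- The factorization predicate of a morphism to `Spec A`. -/
def Fac {A : Type u} [CommRing A] {Z : Scheme.{u}} (i : Z ⟶ Spec (CommRingCat.of A))
    (A' : Type u) [CommRing A'] [Algebra A A'] : Prop :=
  ∃ k : Spec (CommRingCat.of A') ⟶ Z, k ≫ i = Spec.map (CommRingCat.ofHom (algebraMap A A'))

variable {A D : Type u} [CommRing A] [CommRing D] [Algebra A D]

theorem smooth_baseChange {e : ℕ} (hsm : FlatCA.SmoothRelDim e A D) (A' D' : Type u) [CommRing A'] [CommRing D']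
    [Algebra A A'] [Algebra D D'] [Algebra A' D'] [Algebra A D'] [IsScalarTower A D D'] [IsScalarTower A A' D']
    [Algebra.IsPushout A D A' D'] :
    IsPullback (str D D') (str A' D') (str A D) (str A A') ∧ SmoothOfRelativeDimension e (str A' D') := by
  have h : IsPullback (str D D') (str A' D') (str A D) (str A A') :=
    (isPullback_SpecMap_of_isPushout _ _ _ _ (CommRingCat.isPushout_of_isPushout A D A' D'))
  exact ⟨h, (smoothOfRelativeDimension_isStableUnderBaseChange e).of_isPullback h hsm⟩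

/-- Residual transcendence degrees in a smooth algebra with irreducible fibres. -/
theorem trdeg_facts {e : ℕ} (hsm : FlatCA.SmoothRelDim e A D) (hirr : FlatCA.GeomIrredFibres A D)
    (t : Ideal A) (P : Ideal D) [t.IsPrime] [P.IsPrime] [P.LiesOver t] :
    Algebra.trdeg (A ⧸ t) (D ⧸ P) ≤ (e : Cardinal.{u}) ∧
      (P = t.map (algebraMap A D) → (e : Cardinal.{u}) ≤ Algebra.trdeg (A ⧸ t) (D ⧸ P)) := by
  let q := str A D
  haveI : SmoothOfRelativeDimension e q := hsm
  haveI : GeometricallyIrreducible q := hirr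
  haveI : Smooth q := SmoothOfRelativeDimension.smooth (n := e) q
  let z : Spec (CommRingCat.of D) := (⟨P, inferInstance⟩ : PrimeSpectrum D)
  rw [← resTrdeg_eq A D z t P rfl]
  refine ⟨?_, fun hP => ?_⟩
  · obtain ⟨n, m, hm, -, -, hd⟩ := AlgSpD.exists_fibre_dims q z
    rw [S2768.result e q z] at hd
    have : e = n + m := by exact_mod_cast hd
    rw [hm]
    exact_mod_cast (by omega : m ≤ e)
  · refine (S9029.isGenericPtOfFibre_iff e q z).2.mp ((S9029.isGenericPtOfFibre_iff e q z).1.mp fun x' hx' => ?_)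
    refine (PrimeSpectrum.le_iff_specializes (R := D) ⟨P, inferInstance⟩ x').mp ?_
    show P ≤ x'.asIdeal
    have hx : x'.asIdeal.comap (algebraMap A D) = t :=
      (congrArg PrimeSpectrum.asIdeal hx').trans (P.over_def t).symm
    rw [hP]
    exact Ideal.map_le_iff_le_comap.mpr hx.ge

theorem vacuous {e d : ℕ} (hsm : FlatCA.SmoothRelDim e A D) (hirr : FlatCA.GeomIrredFibres A D) (hed : e < d)
    (g : A) (G : Type u) [AddCommGroup G] [Module D G] :
    DimGEModels.Reps A g d D G (fun _ => True) := by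
  intro A' D' G' _ _ _ _ _ _ _ _ _ _ _ _ _ _ _ φ _ _
  obtain ⟨hpb, hsm'⟩ := smooth_baseChange hsm A' D'
  have hirr' : FlatCA.GeomIrredFibres A' D' := MorphismProperty.of_isPullback hpb hirr
  refine iff_of_true (fun t P _ _ _ _ => ?_) trivial
  rw [DimGE.trdeg_residue]
  exact lt_of_le_of_lt (trdeg_facts hsm' hirr' t P).1 (by exact_mod_cast hed)

theorem fac_of_cover {T Z S : Scheme.{u}} (i : Z ⟶ S) [Mono i] (g : T ⟶ S)
    (h : ∀ t : T, ∃ V : T.Opens, t ∈ V ∧ ∃ k : (V : Scheme.{u}) ⟶ Z, k ≫ i = V.ι ≫ g) :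
    ∃ k : T ⟶ Z, k ≫ i = g := by
  choose V hV k hk using h
  have hsup : ⨆ t, V t = ⊤ :=
    eq_top_iff.mpr fun t _ => TopologicalSpace.Opens.mem_iSup.2 ⟨t, hV t⟩
  let 𝒰 := T.openCoverOfIsOpenCover V hsup
  refine ⟨𝒰.glueMorphisms k fun a b => (cancel_mono i).mp ?_, 𝒰.hom_ext _ _ fun a => ?_⟩
  · rw [Category.assoc, Category.assoc, hk, hk, ← Category.assoc, ← Category.assoc]
    exact congrArg (· ≫ g) pullback.condition
  · rw [← Category.assoc, Scheme.Cover.ι_glueMorphisms]
    exact hk a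

/-- Representability in the top dimension. -/
theorem exists_rep {d : ℕ} (hsm : FlatCA.SmoothRelDim d A D) (hirr : FlatCA.GeomIrredFibres A D) (g : A)
    (G : Type u) [AddCommGroup G] [Module D G] [Module.FinitePresentation D G] :
    ∃ (Z : Scheme.{u}) (i : Z ⟶ Spec (CommRingCat.of A)), Mono i ∧ LocallyOfFinitePresentation i ∧
      QuasiCompact i ∧ QuasiSeparated i ∧ DimGEModels.Reps A g d D G (fun A' _ _ => Fac i A') := by
  classical
  let f := str A D
  haveI : SmoothOfRelativeDimension d f := hsm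
  haveI : GeometricallyIrreducible f := hirr
  haveI : Smooth f := SmoothOfRelativeDimension.smooth (n := d) f
  let F := tilde (R := CommRingCat.of D) (ModuleCat.of D G)
  haveI : Coh.IsQCoh F := show F.IsQuasicoherent from inferInstance
  haveI : F.IsQuasicoherent := inferInstance
  have hF : CohB1.IsFP F := (S9827.result (CommRingCat.of D) (ModuleCat.of D G)).mpr inferInstance
  haveI : SheafOfModules.IsFinitePresentation.{u} F := hF
  haveI : F.IsFiniteType := inferInstance
  obtain ⟨c, hc⟩ := S9029.result f d F hF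
  choose Zp ip himm hip hprops using fun p : ℕ => GenRankLocus.exists_immersion f F p
  have hdisj : ∀ (p p' : ℕ) (x : Zp p) (y : Zp p'), ip p x = ip p' y → p = p' := by
    intro p p' x y hxy
    obtain ⟨w, -, -⟩ := Scheme.Pullback.exists_preimage_pullback x y hxy
    let T : Over (Spec (CommRingCat.of A)) := Over.mk (pullback.fst (ip p) (ip p') ≫ ip p)
    have h1 := (hip p T).1 ⟨pullback.fst _ _, rfl⟩ w
    have h2 := (hip p' T).1 ⟨pullback.snd _ _, pullback.condition.symm⟩ w
    obtain ⟨a, ha, hagen, U, haU, ⟨φ⟩⟩ := h1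
    obtain ⟨b, hb, hbgen, U', hbU, ⟨φ'⟩⟩ := h2
    obtain rfl : a = b := ((hagen b (hb.trans ha.symm)).antisymm (hbgen a (ha.trans hb.symm))).eq
    haveI : (FGA.ET f F T).IsQuasicoherent := (ConsPairLib.isFP_pullback _ F hF).1
    exact (S9029.rank_of_restrict_iso φ haU).2.symm.trans (S9029.rank_of_restrict_iso φ' hbU).2
  let σ : Type u := ULift.{u} (Fin (c + 1))
  let Zc : σ → Scheme.{u} := fun p => Zp p.down.val
  let ic : ∀ p : σ, Zc p ⟶ Spec (CommRingCat.of A) := fun p => ip p.down.val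
  haveI : ∀ p, IsImmersion (ic p) := fun p => himm p.down.val
  haveI : ∀ p, LocallyOfFinitePresentation (ic p) := fun p => (hprops p.down.val hF).1
  haveI : ∀ p, QuasiCompact (ic p) := fun p => (hprops p.down.val hF).2.1
  haveI : ∀ p, Mono (ic p) := fun p => inferInstance
  haveI hmono : Mono (Sigma.desc ic) := mono_sigmaDesc ic fun a b x y h =>
    ULift.ext _ _ (Fin.ext (hdisj _ _ x y h))
  refine ⟨∐ Zc, Sigma.desc ic, hmono, IsZariskiLocalAtSource.sigmaDesc (fun p => inferInstance), ?_, inferInstance, ?_⟩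
  · haveI : ∀ p, CompactSpace (Zc p) := fun p => QuasiCompact.compactSpace_of_compactSpace (ic p)
    haveI : CompactSpace ↥(∐ Zc) := (sigmaMk Zc).compactSpace
    infer_instance
  intro A' D' G' _ _ _ _ _ _ _ _ _ _ _ _ _ _ _ φ hφ _
  obtain ⟨hpb, hsm'⟩ := smooth_baseChange hsm A' D'
  let T : Over (Spec (CommRingCat.of A)) := Over.mk (str A A')
  let q := PicF.XTproj f T
  let E := FGA.ET f F T
  let u := hpb.isoPullback.hom
  have hu1 : u ≫ pullback.fst f T.hom = str D D' := hpb.isoPullback_hom_fst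
  have hu2 : u ≫ q = str A' D' := hpb.isoPullback_hom_snd
  let N := tilde (R := CommRingCat.of D') (ModuleCat.of D' G')
  have heN : Nonempty ((Scheme.Modules.pullback (str D D')).obj F ≅ N) := by
    refine FlatMor.PullTilde.nonempty_pullback_tilde (CommRingCat.ofHom (algebraMap D D')) (ModuleCat.of D G) N ?_
    have halg : (CommRingCat.ofHom (algebraMap D D')).hom.toAlgebra = (inferInstance : Algebra D D') :=
      Algebra.algebra_ext _ _ fun _ => rfl
    dsimp only
    rw [halg]
    exact hφ.equiv.trans (Props.QTilde.topEquiv (R := CommRingCat.of D') (ModuleCat.of D' G'))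
  obtain ⟨eN⟩ := heN
  let eE : (Scheme.Modules.pullback u).obj E ≅ N :=
    (Scheme.Modules.pullbackComp u (pullback.fst f T.hom)).app F ≪≫ (Scheme.Modules.pullbackCongr hu1).app F ≪≫ eN
  have hflat : ∀ z, FlatMod.IsFlatOverAt q E (u z) ↔
      (haveI : z.asIdeal.IsPrime := z.2; FlatCA.FlatAt A' z.asIdeal G') := fun z => by
    rw [← FDesc.Stalk.flatOverAt_pullback_iff u q E z (Flat.stalkMap u z), hu2, ← isFlatOverAt_tilde A' D' G' z]
    exact ⟨S17417.isFlatOverAt_of_iso _ eE z, S17417.isFlatOverAt_of_iso _ eE.symm z⟩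
  haveI := AlgSpD.locallyQuasiFinite_of_etale u
  have htr : ∀ z, Dual3.resTrdeg (str A' D') z = Dual3.resTrdeg q (u z) := fun z => by
    rw [← hu2, AlgSpD.resTrdeg_comp, AlgSpD.resTrdeg_eq_zero_of_lqf u, zero_add]
  have hbridge : FlatCA.FlatInDimGE d A' D' G' ↔
      FlatFun.DimFibresLT d q {x | ¬ FlatMod.IsFlatOverAt q E x} := by
    constructor
    · intro h x hx
      obtain ⟨z, rfl⟩ := hpb.isoPullback.hom.surjective x
      show Dual3.resTrdeg q (u z) < _
      haveI : z.asIdeal.IsPrime := z.2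
      rw [← htr z, resTrdeg_eq A' D' z (z.asIdeal.under A') z.asIdeal rfl, ← DimGE.trdeg_residue]
      exact h _ _ fun hfl => hx ((hflat z).mpr hfl)
    · intro h t P _ _ _ hnf
      let z : Spec (CommRingCat.of D') := (⟨P, inferInstance⟩ : PrimeSpectrum D')
      rw [DimGE.trdeg_residue, ← resTrdeg_eq A' D' z t P rfl, htr z]
      exact h (u z) fun hfl => hnf ((hflat z).mp hfl)
  rw [hbridge, hc T]
  constructor
  · intro hloc
    refine fac_of_cover (Sigma.desc ic) _ fun t => ?_
    obtain ⟨V, p, htV, hpc, hfree⟩ := hloc t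
    obtain ⟨l, hl⟩ := (hip p (Over.mk (V.ι ≫ T.hom))).2 hfree
    exact ⟨V, htV, l ≫ Sigma.ι Zc ⟨⟨p, Nat.lt_succ_of_le hpc⟩⟩, by
      rw [Category.assoc, Sigma.ι_desc]; exact hl⟩
  · rintro ⟨k, hk⟩ t
    obtain ⟨⟨p, x⟩, hx⟩ := (sigmaMk Zc).surjective (k t)
    rw [sigmaMk_mk] at hx
    let V := k ⁻¹ᵁ (Sigma.ι Zc p).opensRange
    refine ⟨V, p.down.val, ⟨x, hx⟩, Nat.le_of_lt_succ p.down.isLt, (hip p.down.val _).1 ?_⟩
    have hV : Set.range (V.ι ≫ k) ⊆ Set.range (Sigma.ι Zc p) := by
      rintro _ ⟨w, rfl⟩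
      exact w.2
    refine ⟨IsOpenImmersion.lift (Sigma.ι Zc p) (V.ι ≫ k) hV, ?_⟩
    show _ ≫ ic p = V.ι ≫ str A A'
    rw [← Sigma.ι_desc ic p, IsOpenImmersion.lift_fac_assoc, Category.assoc]
    exact congrArg (V.ι ≫ ·) hk

end Groth.Agent.FlatMor62.DimGETop
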