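import Groth.Agent.HP.EtaleStmts
import Groth.Agent.RGFlat.SpreadProj
import Groth.Agent.RGFlat.Spread
import Groth.Agent.FlatMor.FlatAtBC
import Mathlib.RingTheory.SurjectiveOnStalks

/-!
# Projectivity of flat finitely presented modules after étale localisation (RG, first part 3.3.2)
-/

set_option autoImplicit false
set_option linter.style.haveILetI false

universe u

open TensorProduct

attribute [local instance] Algebra.TensorProduct.rightAlgebra

namespace Groth.Agent.FlatMor62.EtaleProj

/-- A sandwiched residue extension of a trivial one is trivial. -/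
theorem bijective_residue_of_comp {R R₁ R₂ : Type u} [CommRing R] [CommRing R₁] [CommRing R₂]
    [Algebra R R₁] [Algebra R R₂] [Algebra R₁ R₂] [IsScalarTower R R₁ R₂]
    (p : Ideal R) (P₁ : Ideal R₁) (P₂ : Ideal R₂) [p.IsPrime] [P₁.IsPrime] [P₂.IsPrime]
    (h₁ : P₁.LiesOver p) (h₂ : P₂.LiesOver p) (h₁₂ : P₁ = P₂.comap (algebraMap R₁ R₂))
    (h : Function.Bijective (Ideal.ResidueField.mapₐ p P₂ (Algebra.ofId R R₂) h₂.over)) :
    Function.Bijective (Ideal.ResidueField.mapₐ p P₁ (Algebra.ofId R R₁) h₁.over) := by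
  let j₁ := Ideal.ResidueField.mapₐ p P₁ (Algebra.ofId R R₁) h₁.over
  let j₂ := Ideal.ResidueField.mapₐ P₁ P₂ (IsScalarTower.toAlgHom R R₁ R₂) h₁₂
  have hc : (Ideal.ResidueField.mapₐ p P₂ (Algebra.ofId R R₂) h₂.over : p.ResidueField → P₂.ResidueField) = j₂ ∘ j₁ := by
    refine congrArg DFunLike.coe (show Ideal.ResidueField.mapₐ p P₂ (Algebra.ofId R R₂) h₂.over = j₂.comp j₁ from ?_)
    exact Ideal.ResidueField.algHom_ext (AlgHom.ext fun r => (AlgHom.commutes _ r).trans (AlgHom.commutes _ r).symm)
  refine ⟨RingHom.injective j₁.toRingHom, fun y => ?_⟩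
  obtain ⟨x, hx⟩ := h.2 (j₂ y)
  rw [hc] at hx
  exact ⟨x, RingHom.injective j₂.toRingHom hx⟩

/-- Forgetting the restriction of scalars. -/
theorem projective_restrictScalars_iff {A C M : Type u} [CommRing A] [CommRing C] [Algebra A C] [AddCommGroup M]
    [Module C M] [Module A M] [IsScalarTower A C M] :
    Module.Projective A (RestrictScalars A C M) ↔ Module.Projective A M := by
  let e : RestrictScalars A C M ≃ₗ[A] M :=
    { RestrictScalars.addEquiv A C M with
      map_smul' := fun a x => (RestrictScalars.addEquiv_map_smul A C M a x).trans (algebraMap_smul C a _) }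
  exact ⟨fun _ => Module.Projective.of_equiv e, fun _ => Module.Projective.of_equiv e.symm⟩

/-- Trivial residue extension through a localisation. -/
theorem bijective_residue_atPrime {R R₁ : Type u} [CommRing R] [CommRing R₁] [Algebra R R₁]
    (p : Ideal R) (P₁ : Ideal R₁) [p.IsPrime] [P₁.IsPrime] (h₁ : P₁.LiesOver p)
    (h : Function.Bijective (Ideal.ResidueField.mapₐ p P₁ (Algebra.ofId R R₁) h₁.over))
    (h₂ : (IsLocalRing.maximalIdeal (Localization.AtPrime P₁)).LiesOver p) :
    Function.Bijective (Ideal.ResidueField.mapₐ p (IsLocalRing.maximalIdeal (Localization.AtPrime P₁))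
      (Algebra.ofId R (Localization.AtPrime P₁)) h₂.over) := by
  let A := Localization.AtPrime P₁
  let m := IsLocalRing.maximalIdeal A
  have h₁₂ : P₁ = m.comap (algebraMap R₁ A) := (Localization.AtPrime.comap_maximalIdeal).symm
  let j₁ := Ideal.ResidueField.mapₐ p P₁ (Algebra.ofId R R₁) h₁.over
  let j₂ := Ideal.ResidueField.mapₐ P₁ m (IsScalarTower.toAlgHom R R₁ A) h₁₂
  have hj₂ : Function.Bijective j₂ :=
    (RingHom.surjectiveOnStalks_of_isLocalization P₁.primeCompl A).residueFieldMap_bijective P₁ m h₁₂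
  have hc : (Ideal.ResidueField.mapₐ p m (Algebra.ofId R A) h₂.over : p.ResidueField → m.ResidueField) = j₂ ∘ j₁ := by
    refine congrArg DFunLike.coe (show Ideal.ResidueField.mapₐ p m (Algebra.ofId R A) h₂.over = j₂.comp j₁ from ?_)
    exact Ideal.ResidueField.algHom_ext (AlgHom.ext fun r => (AlgHom.commutes _ r).trans (AlgHom.commutes _ r).symm)
  rw [hc]
  exact hj₂.comp h

/-- Every element of `R'_{p'} ⊗ S` becomes integral after multiplying by a scalar outside `p'`. -/
theorem exists_denom {R R' S : Type u} [CommRing R] [CommRing R'] [CommRing S] [Algebra R R'] [Algebra R S]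
    (p' : Ideal R') [p'.IsPrime] (z : Localization.AtPrime p' ⊗[R] S) :
    ∃ u ∉ p', ∃ g : R' ⊗[R] S, (algebraMap R' (Localization.AtPrime p') u ⊗ₜ[R] (1 : S)) * z =
      Algebra.TensorProduct.map (IsScalarTower.toAlgHom R R' (Localization.AtPrime p')) (AlgHom.id R S) g := by
  induction z using TensorProduct.induction_on with
  | zero => exact ⟨1, fun h => (inferInstance : p'.IsPrime).ne_top ((Ideal.eq_top_iff_one _).mpr h), 0, by simp⟩
  | tmul a s =>
    obtain ⟨b, ⟨u, hu⟩, rfl⟩ := IsLocalization.exists_mk'_eq p'.primeCompl a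
    refine ⟨u, hu, b ⊗ₜ s, ?_⟩
    rw [Algebra.TensorProduct.map_tmul, Algebra.TensorProduct.tmul_mul_tmul, one_mul, AlgHom.id_apply,
      IsScalarTower.coe_toAlgHom', mul_comm, IsLocalization.mk'_spec]
  | add x y hx hy =>
    obtain ⟨u, hu, g, hg⟩ := hx
    obtain ⟨v, hv, h, hh⟩ := hy
    refine ⟨u * v, p'.primeCompl.mul_mem hu hv, (v ⊗ₜ 1) * g + (u ⊗ₜ 1) * h, ?_⟩
    simp only [map_add, map_mul, ← hg, ← hh, Algebra.TensorProduct.map_tmul, AlgHom.id_apply,
      IsScalarTower.coe_toAlgHom', map_one]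
    rw [mul_add, ← mul_assoc, ← mul_assoc, Algebra.TensorProduct.tmul_mul_tmul, Algebra.TensorProduct.tmul_mul_tmul,
      mul_one, mul_comm (algebraMap R' (Localization.AtPrime p') v)]

section Descend

variable {R R' S SR SA A : Type u} [CommRing R] [CommRing R'] [CommRing S] [CommRing SR] [CommRing SA] [CommRing A]
  [Algebra R R'] [Algebra R S] [Algebra R' SR] [Algebra S SR] [Algebra R SR] [IsScalarTower R R' SR]
  [IsScalarTower R S SR] [Algebra.IsPushout R R' S SR]
  [Algebra R' A] [Algebra A SA] [Algebra R' SA] [Algebra SR SA] [Algebra S SA]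
  [IsScalarTower R' A SA] [IsScalarTower R' SR SA] [IsScalarTower S SR SA] [Algebra.IsPushout R' A SR SA]

/-- Descent of a basic open of the base change to a local ring, with projectivity over the local ring. -/
theorem exists_descended [Algebra.Etale R R'] [Algebra.FinitePresentation R S]
    (p' : Ideal R') [p'.IsPrime] [IsLocalization.AtPrime A p']
    (N : Type u) [AddCommGroup N] [Module S N] [Module R N] [IsScalarTower R S N] [Module.Flat R N]
    (g : SA) (g₀ : SR) (hass : Associated g (algebraMap SR SA g₀))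
    [Module.Projective A (Localization.Away g ⊗[SA] (SA ⊗[S] N))] :
    ∃ (C₀ : Type u) (_ : CommRing C₀) (_ : Algebra S C₀) (_ : Algebra R C₀) (_ : IsScalarTower R S C₀)
      (_ : Algebra R' C₀) (_ : IsScalarTower R R' C₀)
      (_ : Algebra C₀ (Localization.Away g)) (_ : IsScalarTower S C₀ (Localization.Away g))
      (_ : IsScalarTower R' C₀ (Localization.Away g)),
      Algebra.Etale S C₀ ∧ Algebra.FinitePresentation R' C₀ ∧
        Module.Flat R' (C₀ ⊗[S] N) ∧ Module.Projective A (A ⊗[R'] (C₀ ⊗[S] N)) := by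
  let Cg := Localization.Away g
  haveI : IsLocalization.Away (algebraMap SR SA g₀) Cg := IsLocalization.Away.of_associated hass
  let C₀ := Localization.Away g₀
  letI : Algebra C₀ Cg := (IsLocalization.Away.lift (g := algebraMap SR Cg) g₀ (by
    rw [IsScalarTower.algebraMap_apply SR SA Cg]
    exact IsLocalization.Away.algebraMap_isUnit _)).toAlgebra
  haveI : IsScalarTower SR C₀ Cg := IsScalarTower.of_algebraMap_eq fun z =>
    (IsLocalization.Away.lift_eq g₀ _ z).symm
  haveI : IsScalarTower R' C₀ Cg := IsScalarTower.of_algebraMap_eq fun r => by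
    rw [IsScalarTower.algebraMap_apply R' SR C₀, ← IsScalarTower.algebraMap_apply SR C₀ Cg,
      ← IsScalarTower.algebraMap_apply R' SR Cg]
  haveI : IsScalarTower S C₀ Cg := IsScalarTower.of_algebraMap_eq fun s => by
    rw [IsScalarTower.algebraMap_apply S SR C₀, ← IsScalarTower.algebraMap_apply SR C₀ Cg,
      ← IsScalarTower.algebraMap_apply S SR Cg]
  haveI hpC : Algebra.IsPushout SR C₀ SA Cg := by
    haveI : IsLocalization (Algebra.algebraMapSubmonoid SA (Submonoid.powers g₀)) Cg := by
      rw [Algebra.algebraMapSubmonoid_powers]; infer_instance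
    exact (Algebra.isPushout_of_isLocalization (Submonoid.powers g₀) C₀ SA Cg).symm
  haveI hpCA : Algebra.IsPushout R' A C₀ Cg := by
    haveI : Algebra.IsPushout R' SR A SA := Algebra.IsPushout.symm ‹Algebra.IsPushout R' A SR SA›
    exact Algebra.IsPushout.symm ((Algebra.IsPushout.comp_iff (R := R') (S := SR) (R' := A) (S' := SA)
      (T := C₀) (T' := Cg)).mpr inferInstance)
  haveI : Algebra.IsPushout R S R' SR := Algebra.IsPushout.symm inferInstance
  haveI : Algebra.Etale S SR := Algebra.Etale.of_equiv (Algebra.IsPushout.equiv R S R' SR)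
  haveI : Algebra.Etale SR C₀ := Algebra.Etale.of_isLocalizationAway g₀
  haveI : Algebra.Etale S C₀ := Algebra.Etale.comp S SR C₀
  haveI : Algebra.FinitePresentation SR C₀ := IsLocalization.Away.finitePresentation g₀
  haveI : Algebra.IsPushout R S R' SR := Algebra.IsPushout.symm inferInstance
  haveI : Algebra.FinitePresentation R' SR := Algebra.FinitePresentation.equiv (Algebra.IsPushout.equiv R R' S SR)
  haveI : Algebra.FinitePresentation R' C₀ := Algebra.FinitePresentation.trans R' SR C₀
  let M := C₀ ⊗[S] N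
  have hfl : Module.Flat R' M := by
    haveI : Module.Flat SR C₀ := IsLocalization.flat C₀ (Submonoid.powers g₀)
    let e₁ : SR ⊗[S] N ≃ₗ[R'] R' ⊗[R] N :=
      Algebra.IsPushout.cancelBaseChange R R' S SR N
    haveI : Module.Flat R' (SR ⊗[S] N) := Module.Flat.of_linearEquiv e₁
    haveI := FlatMor.FlatAtBC.flat_tensor R' SR C₀ (SR ⊗[S] N)
    exact Module.Flat.of_linearEquiv ((AlgebraTensorModule.cancelBaseChange S SR C₀ C₀ N).restrictScalars R').symm
  have hpr : Module.Projective A (A ⊗[R'] M) := by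
    let e1 : Cg ⊗[SA] (SA ⊗[S] N) ≃ₗ[Cg] Cg ⊗[S] N := AlgebraTensorModule.cancelBaseChange S SA Cg Cg N
    let e2 : Cg ⊗[C₀] M ≃ₗ[Cg] Cg ⊗[S] N := AlgebraTensorModule.cancelBaseChange S C₀ Cg Cg N
    let e3 : Cg ⊗[C₀] M ≃ₗ[A] A ⊗[R'] M := Algebra.IsPushout.cancelBaseChange R' A C₀ Cg M
    exact Module.Projective.of_equiv ((e1.restrictScalars A).trans ((e2.restrictScalars A).symm.trans e3))
  exact ⟨C₀, inferInstance, inferInstance, inferInstance, inferInstance, inferInstance, inferInstance,
    inferInstance, inferInstance, inferInstance, inferInstance, inferInstance, hfl, hpr⟩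

end Descend

/-- Localising at an element of the base outside the point. -/
theorem exists_localised {R R' S C₀ Cg : Type u} [CommRing R] [CommRing R'] [CommRing S] [CommRing C₀] [CommRing Cg]
    [Algebra R R'] [Algebra R S] [Algebra S C₀] [Algebra R C₀] [IsScalarTower R S C₀] [Algebra R' C₀]
    [IsScalarTower R R' C₀] [Algebra.Etale R R'] [Algebra.Etale S C₀] [Algebra C₀ Cg] [Algebra S Cg]
    [IsScalarTower S C₀ Cg] [Algebra R' Cg] [IsScalarTower R' C₀ Cg]
    (p : Ideal R) [p.IsPrime] (q : Ideal S) [q.IsPrime] (p' : Ideal R') [p'.IsPrime]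
    (hnhd : FlatCA.IsEtaleNhd R R' p p')
    [Algebra (Localization.AtPrime p') Cg] [IsScalarTower R' (Localization.AtPrime p') Cg]
    (N : Type u) [AddCommGroup N] [Module S N]
    (x' : Ideal Cg) [x'.IsPrime] (hxq : x'.LiesOver q)
    (hxm : x'.LiesOver (IsLocalRing.maximalIdeal (Localization.AtPrime p')))
    (hbij : Function.Bijective (Ideal.ResidueField.mapₐ q x' (Algebra.ofId S _) hxq.over))
    (f : R') (hf : f ∉ p') (hproj : Module.Projective (Localization.Away f) (Localization.Away f ⊗[R'] (C₀ ⊗[S] N))) :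
    ∃ (R' S' : Type u) (_ : CommRing R') (_ : CommRing S') (_ : Algebra R R') (_ : Algebra S S') (_ : Algebra R' S')
      (_ : Algebra R S') (_ : IsScalarTower R R' S') (_ : IsScalarTower R S S')
      (p' : Ideal R') (q' : Ideal S') (_ : p'.IsPrime) (_ : q'.IsPrime),
      FlatCA.IsEtaleNhd R R' p p' ∧ FlatCA.IsEtaleNhd S S' q q' ∧ q'.LiesOver p' ∧
      Module.Projective R' (S' ⊗[S] N) := by
  classical
  let A := Localization.AtPrime p'
  let M := C₀ ⊗[S] N
  -- localise at `f`
  let R₂ := Localization.Away f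
  let S₂ := Localization.Away (algebraMap R' C₀ f)
  letI : Algebra R₂ A := (IsLocalization.Away.lift (g := algebraMap R' A) f
    (IsLocalization.map_units A (⟨f, hf⟩ : p'.primeCompl))).toAlgebra
  haveI : IsScalarTower R' R₂ A := IsScalarTower.of_algebraMap_eq fun z =>
    (IsLocalization.Away.lift_eq f _ z).symm
  haveI : IsScalarTower R R₂ A := IsScalarTower.of_algebraMap_eq fun r => by
    rw [IsScalarTower.algebraMap_apply R R' R₂, ← IsScalarTower.algebraMap_apply R' R₂ A,
      ← IsScalarTower.algebraMap_apply R R' A]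
  letI : Algebra S₂ Cg := (IsLocalization.Away.lift (g := algebraMap C₀ Cg) (algebraMap R' C₀ f) (by
    rw [← IsScalarTower.algebraMap_apply R' C₀ Cg, IsScalarTower.algebraMap_apply R' A Cg]
    exact (IsLocalization.map_units A (⟨f, hf⟩ : p'.primeCompl)).map _)).toAlgebra
  haveI : IsScalarTower C₀ S₂ Cg := IsScalarTower.of_algebraMap_eq fun z =>
    (IsLocalization.Away.lift_eq (algebraMap R' C₀ f) _ z).symm
  haveI : IsScalarTower S S₂ Cg := IsScalarTower.of_algebraMap_eq fun r => by
    rw [IsScalarTower.algebraMap_apply S C₀ S₂, ← IsScalarTower.algebraMap_apply C₀ S₂ Cg,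
      ← IsScalarTower.algebraMap_apply S C₀ Cg]
  letI : Algebra R₂ S₂ := (IsLocalization.Away.lift (g := algebraMap R' S₂) f (by
    rw [IsScalarTower.algebraMap_apply R' C₀ S₂]
    exact IsLocalization.Away.algebraMap_isUnit _)).toAlgebra
  haveI : IsScalarTower R' R₂ S₂ := IsScalarTower.of_algebraMap_eq fun z =>
    (IsLocalization.Away.lift_eq f _ z).symm
  haveI : IsScalarTower R R₂ S₂ := IsScalarTower.of_algebraMap_eq fun r => by
    rw [IsScalarTower.algebraMap_apply R R' R₂, ← IsScalarTower.algebraMap_apply R' R₂ S₂,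
      ← IsScalarTower.algebraMap_apply R R' S₂]
  haveI : IsScalarTower R S S₂ := IsScalarTower.of_algebraMap_eq fun r => by
    rw [IsScalarTower.algebraMap_apply S C₀ S₂, IsScalarTower.algebraMap_apply R C₀ S₂,
      ← IsScalarTower.algebraMap_apply R S C₀]
  haveI : Algebra.Etale R' R₂ := Algebra.Etale.of_isLocalizationAway f
  haveI : Algebra.Etale R R₂ := Algebra.Etale.comp R R' R₂
  haveI : Algebra.Etale C₀ S₂ := Algebra.Etale.of_isLocalizationAway (algebraMap R' C₀ f)
  haveI : Algebra.Etale S S₂ := Algebra.Etale.comp S C₀ S₂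
  haveI : Algebra.IsPushout R' R₂ C₀ S₂ := by
    haveI : IsLocalization (Algebra.algebraMapSubmonoid C₀ (Submonoid.powers f)) S₂ := by
      rw [Algebra.algebraMapSubmonoid_powers]; infer_instance
    exact (Algebra.isPushout_of_isLocalization (Submonoid.powers f) R₂ C₀ S₂).symm
  let m := IsLocalRing.maximalIdeal A
  let p₂ : Ideal R₂ := m.comap (algebraMap R₂ A)
  let q₂ : Ideal S₂ := x'.comap (algebraMap S₂ Cg)
  haveI : p₂.IsPrime := Ideal.comap_isPrime _ _
  haveI : q₂.IsPrime := Ideal.comap_isPrime _ _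
  have hmp : m.LiesOver p := ⟨by
    rw [Ideal.under_def, IsScalarTower.algebraMap_eq R R' A, ← Ideal.comap_comap,
      show m.comap (algebraMap R' A) = p' from Localization.AtPrime.comap_maximalIdeal]
    exact hnhd.2.1.over⟩
  have hp₂ : p₂.LiesOver p := ⟨by
    rw [Ideal.under_def, Ideal.comap_comap, ← IsScalarTower.algebraMap_eq]
    exact hmp.over⟩
  have hq₂ : q₂.LiesOver q := ⟨by
    rw [Ideal.under_def, Ideal.comap_comap, ← IsScalarTower.algebraMap_eq]
    exact hxq.over⟩
  have hover : q₂.LiesOver p₂ := ⟨by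
    rw [Ideal.under_def]
    show m.comap (algebraMap R₂ A) = (x'.comap (algebraMap S₂ Cg)).comap (algebraMap R₂ S₂)
    rw [Ideal.comap_comap, show m = x'.comap (algebraMap A Cg) from hxm.over, Ideal.comap_comap]
    refine congrArg (fun φ : R₂ →+* Cg => x'.comap φ) (IsLocalization.ringHom_ext (Submonoid.powers f) ?_)
    ext r
    simp only [RingHom.comp_apply]
    rw [← IsScalarTower.algebraMap_apply R' R₂ A, ← IsScalarTower.algebraMap_apply R' R₂ S₂,
      IsScalarTower.algebraMap_apply R' C₀ S₂, ← IsScalarTower.algebraMap_apply C₀ S₂ Cg,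
      ← IsScalarTower.algebraMap_apply R' C₀ Cg, ← IsScalarTower.algebraMap_apply R' A Cg]⟩
  refine ⟨R₂, S₂, inferInstance, inferInstance, inferInstance, inferInstance, inferInstance, inferInstance,
    inferInstance, inferInstance, p₂, q₂, inferInstance, inferInstance, ⟨inferInstance, hp₂, ?_⟩,
    ⟨inferInstance, hq₂, ?_⟩, hover, ?_⟩
  · exact bijective_residue_of_comp p p₂ m hp₂ hmp rfl (bijective_residue_atPrime p p' hnhd.2.1 hnhd.2.2 hmp)
  · exact bijective_residue_of_comp q q₂ x' hq₂ hxq rfl hbij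
  · let e1 : S₂ ⊗[C₀] M ≃ₗ[S₂] S₂ ⊗[S] N := AlgebraTensorModule.cancelBaseChange S C₀ S₂ S₂ N
    let e2 : S₂ ⊗[C₀] M ≃ₗ[R₂] R₂ ⊗[R'] M := Algebra.IsPushout.cancelBaseChange R' R₂ C₀ S₂ M
    exact Module.Projective.of_equiv (e2.symm.trans (e1.restrictScalars R₂))


set_option maxHeartbeats 400000 in
/-- The abstract form: the base changes are given as rings. -/
theorem exists_projective_abstract {R R' S SR SA : Type u} [CommRing R] [CommRing R'] [CommRing S] [CommRing SR]
    [CommRing SA] [Algebra R R'] [Algebra R S] [Algebra.FinitePresentation R S] [Algebra.Etale R R']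
    [Algebra R' SR] [Algebra S SR] [Algebra R SR] [IsScalarTower R R' SR] [IsScalarTower R S SR]
    [Algebra.IsPushout R R' S SR]
    (p : Ideal R) [p.IsPrime] (q : Ideal S) [q.IsPrime] (p' : Ideal R') [p'.IsPrime] (hnhd : FlatCA.IsEtaleNhd R R' p p')
    [Algebra (Localization.AtPrime p') SA] [Algebra R' SA] [Algebra SR SA] [Algebra S SA]
    [IsScalarTower R' (Localization.AtPrime p') SA] [IsScalarTower R' SR SA] [IsScalarTower S SR SA]
    [Algebra.IsPushout R' (Localization.AtPrime p') SR SA]
    (N : Type u) [AddCommGroup N] [Module S N] [Module R N] [IsScalarTower R S N] [Module.FinitePresentation S N]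
    [Module.Flat R N]
    (g : SA) (g₀ : SR) (hass : Associated g (algebraMap SR SA g₀))
    (x' : Ideal (Localization.Away g)) [x'.IsPrime] (hxq : x'.LiesOver q)
    (hxm : (x'.comap (algebraMap SA (Localization.Away g))).LiesOver (IsLocalRing.maximalIdeal (Localization.AtPrime p')))
    (hbij : Function.Bijective (Ideal.ResidueField.mapₐ q x' (Algebra.ofId S _) hxq.over))
    (hproj : Module.Projective (Localization.AtPrime p') (Localization.Away g ⊗[SA] (SA ⊗[S] N))) :
    ∃ (R' S' : Type u) (_ : CommRing R') (_ : CommRing S') (_ : Algebra R R') (_ : Algebra S S') (_ : Algebra R' S')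
      (_ : Algebra R S') (_ : IsScalarTower R R' S') (_ : IsScalarTower R S S')
      (p' : Ideal R') (q' : Ideal S') (_ : p'.IsPrime) (_ : q'.IsPrime),
      FlatCA.IsEtaleNhd R R' p p' ∧ FlatCA.IsEtaleNhd S S' q q' ∧ q'.LiesOver p' ∧
      Module.Projective R' (S' ⊗[S] N) := by
  haveI := hproj
  obtain ⟨C₀, _, _, _, _, _, _, _, _, _, hC, hfp, hfl, hpr⟩ :=
    exists_descended (R := R) (R' := R') (S := S) (SR := SR) (SA := SA) (A := Localization.AtPrime p') p' N g g₀ hass
  haveI := hC
  haveI := hfp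
  haveI := hfl
  haveI := hpr
  obtain ⟨f, hf, hproj'⟩ := RGFlat.Spreading.spread_projective (A := R') (B := C₀) (C₀ ⊗[S] N) p'
  have hxm' : x'.LiesOver (IsLocalRing.maximalIdeal (Localization.AtPrime p')) := ⟨by
    rw [Ideal.under_def, IsScalarTower.algebraMap_eq (Localization.AtPrime p') SA (Localization.Away g), ← Ideal.comap_comap]
    exact hxm.over⟩
  exact exists_localised (R := R) (R' := R') (S := S) (C₀ := C₀) (Cg := Localization.Away g) p q p' hnhd N x' hxq
    hxm' hbij f hf hproj'

set_option maxHeartbeats 1000000 in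
/-- Projectivity after étale localisation at a point, for a globally flat module. -/
theorem exists_projective_point {R S : Type u} [CommRing R] [CommRing S] [Algebra R S]
    [Algebra.FinitePresentation R S] (N : Type u) [AddCommGroup N] [Module S N] [Module R N]
    [IsScalarTower R S N] [Module.FinitePresentation S N] [Module.Flat R N]
    (p : Ideal R) [p.IsPrime] (q : Ideal S) [q.IsPrime] [q.LiesOver p] :
    ∃ (R' S' : Type u) (_ : CommRing R') (_ : CommRing S') (_ : Algebra R R') (_ : Algebra S S') (_ : Algebra R' S')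
      (_ : Algebra R S') (_ : IsScalarTower R R' S') (_ : IsScalarTower R S S')
      (p' : Ideal R') (q' : Ideal S') (_ : p'.IsPrime) (_ : q'.IsPrime),
      FlatCA.IsEtaleNhd R R' p p' ∧ FlatCA.IsEtaleNhd S S' q q' ∧ q'.LiesOver p' ∧
      Module.Projective R' (S' ⊗[S] N) := by
  haveI hflatq : FlatCA.FlatAt R q N := FlatMor.FlatAtBC.flat_localizedModule R q.primeCompl N
  obtain ⟨R', _, _, p', _, hnhd, h⟩ := HP.exists_etale_point N p q hflatq
  haveI : Algebra.Etale R R' := hnhd.1
  let A := Localization.AtPrime p'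
  let SA := A ⊗[R] S
  let SR := R' ⊗[R] S
  haveI : IsScalarTower R S SR := RGFlat.Spreading.isScalarTower_tensor R'
  haveI : IsScalarTower R S SA := RGFlat.Spreading.isScalarTower_tensor A
  haveI : Algebra.IsPushout R S A SA := Algebra.IsPushout.symm inferInstance
  let φ : SR →ₐ[R] SA := Algebra.TensorProduct.map (IsScalarTower.toAlgHom R R' A) (AlgHom.id R S)
  letI : Algebra SR SA := φ.toRingHom.toAlgebra
  haveI : IsScalarTower R' A SA := inferInstance
  haveI : IsScalarTower R' SR SA := IsScalarTower.of_algebraMap_eq fun r => by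
    show (algebraMap R' A r) ⊗ₜ[R] (1 : S) = φ (r ⊗ₜ 1)
    rfl
  haveI : IsScalarTower S SR SA := IsScalarTower.of_algebraMap_eq fun s => by
    show (1 : A) ⊗ₜ[R] s = φ (1 ⊗ₜ s)
    rw [show φ (1 ⊗ₜ s) = IsScalarTower.toAlgHom R R' A 1 ⊗ₜ[R] s from rfl, map_one]
  haveI : IsScalarTower R SR SA := IsScalarTower.of_algebraMap_eq' φ.comp_algebraMap.symm
  haveI : Algebra.IsPushout R' A SR SA :=
    (Algebra.IsPushout.comp_iff (R := R) (S := R') (R' := S) (S' := SR) (T := A) (T' := SA)).mp inferInstance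
  have hh := h SA (SA ⊗[S] N) (TensorProduct.mk S SA N 1) (TensorProduct.isBaseChange S N SA)
  obtain ⟨g, hh⟩ := hh
  obtain ⟨x', hh⟩ := hh
  obtain ⟨hx'p, hh⟩ := hh
  obtain ⟨hxq, hh⟩ := hh
  haveI := hx'p
  have hxm := hh.2.1
  have hbij := hh.2.2.1
  have hfree := hh.2.2.2.2
  obtain ⟨u, hu, g₀, hg₀⟩ := exists_denom p' g
  have hass : Associated g (algebraMap SR SA g₀) := by
    have hunit : IsUnit (algebraMap A SA (algebraMap R' A u)) :=
      (IsLocalization.map_units A (⟨u, hu⟩ : p'.primeCompl)).map _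
    exact ⟨hunit.unit, by rw [IsUnit.unit_spec, mul_comm]; exact hg₀⟩
  exact exists_projective_abstract (SR := SR) (SA := SA) p q p' hnhd N g g₀ hass x' hxq hxm hbij
    (haveI := hfree; (projective_restrictScalars_iff (C := Localization.Away g)).mp inferInstance)

/-- RG, first part 3.3.2: projectivity after étale localisation at a point of flatness. -/
theorem exists_projective_of_flatAt {R S : Type u} [CommRing R] [CommRing S] [Algebra R S]
    [Algebra.FinitePresentation R S] (N : Type u) [AddCommGroup N] [Module S N] [Module R N]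
    [IsScalarTower R S N] [Module.FinitePresentation S N]
    (p : Ideal R) [p.IsPrime] (q : Ideal S) [q.IsPrime] [q.LiesOver p] (hflat : FlatCA.FlatAt R q N) :
    ∃ (R' S' : Type u) (_ : CommRing R') (_ : CommRing S') (_ : Algebra R R') (_ : Algebra S S') (_ : Algebra R' S')
      (_ : Algebra R S') (_ : IsScalarTower R R' S') (_ : IsScalarTower R S S')
      (p' : Ideal R') (q' : Ideal S') (_ : p'.IsPrime) (_ : q'.IsPrime),
      FlatCA.IsEtaleNhd R R' p p' ∧ FlatCA.IsEtaleNhd S S' q q' ∧ q'.LiesOver p' ∧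
      Module.Projective R' (S' ⊗[S] N) := by
  obtain ⟨_, ⟨_, ⟨s, rfl⟩, rfl⟩, hqs, hsub⟩ := PrimeSpectrum.isBasis_basic_opens.exists_subset_of_mem_open
    (show (⟨q, inferInstance⟩ : PrimeSpectrum S) ∈ {x | FlatCA.FlatAt R x.asIdeal N} from hflat)
    (FlatOpen.isOpen_flatLocus R S N)
  let S₁ := Localization.Away s
  let N₁ := S₁ ⊗[S] N
  haveI : Algebra.Etale S S₁ := Algebra.Etale.of_isLocalizationAway s
  haveI : Algebra.FinitePresentation S S₁ := IsLocalization.Away.finitePresentation s
  haveI : Algebra.FinitePresentation R S₁ := Algebra.FinitePresentation.trans R S S₁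
  haveI : Module.Flat R (LocalizedModule (Submonoid.powers s) N) :=
    RGFlat.flat_away s fun Q _ hQ => hsub (show (⟨Q, inferInstance⟩ : PrimeSpectrum S) ∈ PrimeSpectrum.basicOpen s from hQ)
  haveI : Module.Flat R N₁ :=
    Module.Flat.of_linearEquiv ((LocalizedModule.equivTensorProduct (Submonoid.powers s) N).symm.restrictScalars R)
  have hd : Disjoint (Submonoid.powers s : Set S) (q : Set S) :=
    (Ideal.disjoint_powers_iff_notMem _ (Ideal.IsPrime.isRadical ‹_›)).mpr hqs
  let q₁ := q.map (algebraMap S S₁)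
  haveI : q₁.IsPrime := IsLocalization.isPrime_of_isPrime_disjoint _ _ _ ‹_› hd
  have hq₁ : q₁.comap (algebraMap S S₁) = q := IsLocalization.under_map_of_isPrime_disjoint _ _ ‹_› hd
  haveI hq₁q : q₁.LiesOver q := ⟨hq₁.symm⟩
  haveI : q₁.LiesOver p := Ideal.LiesOver.trans q₁ q p
  obtain ⟨R', S', _, _, _, _, _, _, _, _, p', q', _, _, hR, hS, hover, hproj⟩ :=
    exists_projective_point N₁ p q₁
  letI : Algebra S S' := ((algebraMap S₁ S').comp (algebraMap S S₁)).toAlgebra
  haveI : IsScalarTower S S₁ S' := IsScalarTower.of_algebraMap_eq fun _ => rfl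
  haveI : IsScalarTower R S S' := IsScalarTower.of_algebraMap_eq fun r => by
    rw [IsScalarTower.algebraMap_apply S S₁ S', ← IsScalarTower.algebraMap_apply R S S₁,
      ← IsScalarTower.algebraMap_apply R S₁ S']
  haveI : Algebra.Etale S₁ S' := hS.1
  have hq' : q'.LiesOver q := by
    haveI := hS.2.1
    exact Ideal.LiesOver.trans q' q₁ q
  refine ⟨R', S', inferInstance, inferInstance, inferInstance, inferInstance, inferInstance, inferInstance,
    inferInstance, inferInstance, p', q', inferInstance, inferInstance, hR,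
    ⟨Algebra.Etale.comp S S₁ S', hq', ?_⟩, hover, ?_⟩
  · obtain ⟨-, h1, hb⟩ := hS
    let j₁ := Ideal.ResidueField.mapₐ q q₁ (Algebra.ofId S S₁) hq₁q.over
    let j₂ := Ideal.ResidueField.mapₐ q₁ q' ((Algebra.ofId S₁ S').restrictScalars S) h1.over
    have hj₁ : Function.Bijective j₁ :=
      (RingHom.surjectiveOnStalks_of_isLocalization (Submonoid.powers s) S₁).residueFieldMap_bijective q q₁ hq₁q.over
    have hc : (Ideal.ResidueField.mapₐ q q' (Algebra.ofId S S') hq'.over : q.ResidueField → q'.ResidueField) = j₂ ∘ j₁ := by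
      refine congrArg DFunLike.coe (show Ideal.ResidueField.mapₐ q q' (Algebra.ofId S S') hq'.over = j₂.comp j₁ from ?_)
      exact Ideal.ResidueField.algHom_ext (AlgHom.ext fun r => (AlgHom.commutes _ r).trans (AlgHom.commutes _ r).symm)
    rw [hc]
    exact Function.Bijective.comp hb hj₁
  · exact Module.Projective.of_equiv ((AlgebraTensorModule.cancelBaseChange S S₁ S' S' N).restrictScalars R')

end Groth.Agent.FlatMor62.EtaleProj
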