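import Groth.Agent.RelDim.QuasiFiniteMap
import Groth.Agent.CAlg48.RefinedNoether
import Groth.Prelude.Def_FlatCA
import Mathlib.RingTheory.AlgebraicIndependent.TranscendenceBasis

/-!
# Quasi-finite maps to affine space sending a point to a point with purely transcendental residue field
-/

set_option autoImplicit false
set_option linter.style.haveILetI false

universe u

open TensorProduct

namespace Groth.Agent.FlatMor62.LocalStructRing

open Groth.Agent.RelDim Groth.Agent.CAlg48.RefinedNoether

variable (k : Type u) [Field k]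

/-- Projection to the first coordinates. -/
noncomputable def proj (n r : ℕ) : MvPolynomial (Fin n) k →ₐ[k] MvPolynomial (Fin r) k :=
  MvPolynomial.aeval fun i => if hi : (i : ℕ) < r then MvPolynomial.X ⟨i, hi⟩ else 0

theorem proj_rename {n r : ℕ} (h : r ≤ n) (a : MvPolynomial (Fin r) k) :
    proj k n r (MvPolynomial.rename (Fin.castLE h) a) = a := by
  rw [proj, MvPolynomial.aeval_rename]
  conv_rhs => rw [← MvPolynomial.aeval_X_left_apply a]
  exact congrArg (fun g => MvPolynomial.aeval g a) (funext fun i => by simp)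

theorem ker_proj {n r : ℕ} (h : r ≤ n) : RingHom.ker (proj k n r) = lin k n r :=
  comap_eq_lin h (proj k n r) ⊥ (fun i hi => by
    show proj k n r (MvPolynomial.X i) = 0
    simp [proj, not_lt.2 hi]) fun a ha => by
    rw [Submodule.mem_bot, proj_rename k h] at ha
    exact ha

variable {k}

/-- The residue field at a coordinate subspace is purely transcendental. -/
theorem purelyTranscendental_lin {R : Type u} [CommRing R] (p : Ideal R) [p.IsPrime] {n r : ℕ} (h : r ≤ n)
    (P : Ideal (MvPolynomial (Fin n) R)) [P.IsPrime] [hPp : P.LiesOver p]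
    (hP : P = (lin p.ResidueField n r).comap (MvPolynomial.map (algebraMap R p.ResidueField))) :
    FlatCA.PurelyTranscendental p P := by
  let k := p.ResidueField
  let L := FractionRing (MvPolynomial (Fin r) k)
  let ρ : MvPolynomial (Fin n) R →+* L := (algebraMap (MvPolynomial (Fin r) k) L).comp
    ((proj k n r).toRingHom.comp (MvPolynomial.map (algebraMap R k)))
  have hρ : ∀ a, ρ a = 0 ↔ a ∈ P := fun a => by
    rw [hP, Ideal.mem_comap, ← ker_proj k h, RingHom.mem_ker]
    exact map_eq_zero_iff _ (IsFractionRing.injective (MvPolynomial (Fin r) k) L)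
  let ε : P.ResidueField →+* L := Ideal.ResidueField.lift P ρ (fun a ha => (hρ a).mpr ha)
    fun a ha => IsUnit.mk0 _ fun h0 => ha ((hρ a).mp h0)
  have hε : ∀ a, ε (algebraMap _ P.ResidueField a) = ρ a := fun a =>
    Ideal.ResidueField.lift_algebraMap P _ _ _ a
  unfold FlatCA.PurelyTranscendental
  letI : Algebra k P.ResidueField :=
    (Ideal.ResidueField.mapₐ p P (Algebra.ofId R (MvPolynomial (Fin n) R)) hPp.over).toRingHom.toAlgebra
  have hk : ∀ a : R, algebraMap k P.ResidueField (algebraMap R k a) =
      algebraMap (MvPolynomial (Fin n) R) P.ResidueField (MvPolynomial.C a) := fun a =>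
    (Ideal.ResidueField.mapₐ p P (Algebra.ofId R (MvPolynomial (Fin n) R)) hPp.over).commutes a
  let εa : P.ResidueField →ₐ[k] L :=
    { toRingHom := ε
      commutes' := fun c => by
        have e : ε.comp (algebraMap k P.ResidueField) = algebraMap k L :=
          Ideal.ResidueField.ringHom_ext (RingHom.ext fun a => by
            show ε (algebraMap k P.ResidueField (algebraMap R k a)) = algebraMap k L (algebraMap R k a)
            rw [hk, hε, IsScalarTower.algebraMap_apply k (MvPolynomial (Fin r) k) L]
            simp [ρ, proj, MvPolynomial.algebraMap_eq])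
        exact RingHom.congr_fun e c }
  let x : ULift.{u} (Fin r) → P.ResidueField := fun i =>
    algebraMap (MvPolynomial (Fin n) R) P.ResidueField (MvPolynomial.X (Fin.castLE h i.down))
  have hx : AlgebraicIndependent k x := by
    refine AlgebraicIndependent.of_comp εa ?_
    have : εa ∘ x = (fun i => algebraMap (MvPolynomial (Fin r) k) L (MvPolynomial.X i)) ∘ ULift.down := by
      funext i
      show ε _ = _
      rw [hε]
      simp [ρ, proj]
    rw [this]
    exact ((MvPolynomial.algebraicIndependent_X (Fin r) k).map'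
      (f := IsScalarTower.toAlgHom k _ L) (IsFractionRing.injective _ L)).comp _ ULift.down_injective
  have htop : IntermediateField.adjoin k (Set.range x) = ⊤ := by
    set M := IntermediateField.adjoin k (Set.range x)
    have hall : ∀ a, algebraMap (MvPolynomial (Fin n) R) P.ResidueField a ∈ M := by
      intro a
      induction a using MvPolynomial.induction_on with
      | C c => rw [← hk]; exact M.algebraMap_mem _
      | add a b ha hb => rw [map_add]; exact add_mem ha hb
      | mul_X a i ha =>
        rw [map_mul]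
        refine mul_mem ha ?_
        by_cases hi : (i : ℕ) < r
        · exact IntermediateField.subset_adjoin k _ ⟨⟨⟨i, hi⟩⟩, rfl⟩
        · have : MvPolynomial.X i ∈ P := by
            rw [hP, Ideal.mem_comap, MvPolynomial.map_X]
            exact Ideal.subset_span ⟨⟨i, not_lt.1 hi⟩, rfl⟩
          rw [Ideal.algebraMap_residueField_eq_zero.mpr this]
          exact zero_mem _
    refine eq_top_iff.mpr fun z _ => ?_
    obtain ⟨a, b, -, rfl⟩ := IsFractionRing.div_surjective (A := MvPolynomial (Fin n) R ⧸ P) z
    obtain ⟨a, rfl⟩ := Ideal.Quotient.mk_surjective a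
    obtain ⟨b, rfl⟩ := Ideal.Quotient.mk_surjective b
    rw [Ideal.algebraMap_quotient_residueField_mk, Ideal.algebraMap_quotient_residueField_mk]
    exact div_mem (hall a) (hall b)
  refine ⟨_, x, hx.isTranscendenceBasis_iff_isAlgebraic.mpr ⟨fun z => ?_⟩, htop⟩
  have hz : IsAlgebraic (IntermediateField.adjoin k (Set.range x)) z :=
    isAlgebraic_algebraMap (A := P.ResidueField) (⟨z, htop ▸ trivial⟩ : IntermediateField.adjoin k (Set.range x))
  exact IntermediateField.isAlgebraic_adjoin_iff.mp hz


theorem exists_quasiFinite_away (R S : Type u) [CommRing R] [CommRing S] [Algebra R S]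
    [Algebra.FiniteType R S] (p : Ideal R) [p.IsPrime] (q : Ideal S) [q.IsPrime] [q.LiesOver p]
    (Q : PrimeSpectrum (p.Fiber S))
    (hQ : Q.asIdeal.comap (Algebra.TensorProduct.includeRight.toRingHom) = q) (n : ℕ)
    (hdim : FlatMor.localDim (PrimeSpectrum (p.Fiber S)) Q ≤ (n : WithBot ℕ∞)) :
    ∃ g : S, g ∉ q ∧ ∃ φ : MvPolynomial (Fin n) R →ₐ[R] Localization.Away g,
      φ.toRingHom.FiniteType ∧ φ.toRingHom.QuasiFinite ∧
      ∃ (P : Ideal (MvPolynomial (Fin n) R)) (_ : P.IsPrime) (_ : P.LiesOver p),
        FlatCA.PurelyTranscendental p P ∧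
          ∀ (Q' : Ideal (Localization.Away g)), Q'.IsPrime → Q'.comap (algebraMap S (Localization.Away g)) = q →
            Q'.comap φ.toRingHom = P := by
  classical
  let F := p.Fiber S
  have hunit : ∀ r : R, r ∉ p → IsUnit (algebraMap R F r) := fun r hr => by
    rw [IsScalarTower.algebraMap_apply R p.ResidueField F]
    refine (IsUnit.mk0 _ ?_).map _
    rwa [Ne, Ideal.algebraMap_residueField_eq_zero]
  obtain ⟨f, hfQ, hfdim⟩ := exists_notMem_forall_away_le p.ResidueField Q.asIdeal hdim
  obtain ⟨r0, hr0, g0, hg0⟩ := Ideal.Fiber.exists_smul_eq_one_tmul p f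
  let f' : F := (1 : p.ResidueField) ⊗ₜ[R] g0
  have hf'eq : f' = algebraMap R F r0 * f := hg0.symm.trans (Algebra.smul_def r0 f)
  have hf'Q : f' ∉ Q.asIdeal := by
    rw [hf'eq, Ideal.unit_mul_mem_iff_mem _ (hunit r0 hr0)]
    exact hfQ
  have hg0q : g0 ∉ q := fun h => hf'Q (by rw [← hQ] at h; exact h)
  let T := Localization.Away f'
  haveI : IsLocalization.Away (algebraMap R F r0 * f) T := by
    rw [← hf'eq]; infer_instance
  have hTdim : ringKrullDim T ≤ (n : WithBot ℕ∞) := hfdim (algebraMap R F r0) T
  haveI : Algebra.FiniteType p.ResidueField T :=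
    haveI : Algebra.FiniteType F T := IsLocalization.finiteType_of_monoid_fg (Submonoid.powers f') T
    Algebra.FiniteType.trans (S := F) inferInstance inferInstance
  haveI : Nontrivial T := by
    refine not_subsingleton_iff_nontrivial.1 fun hs => ?_
    obtain ⟨m, hm⟩ := (IsLocalization.subsingleton_iff (S := T) (M := Submonoid.powers f')).1 hs
    exact hf'Q (Q.2.mem_of_pow_mem m (by rw [show f' ^ m = 0 from hm]; exact Q.asIdeal.zero_mem))
  obtain ⟨t₀, ht₀⟩ := exists_aeval_finite (k := p.ResidueField) hTdim
  -- the point becomes a coordinate subspace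
  let qT : Ideal T := Q.asIdeal.map (algebraMap F T)
  have hdisjT : Disjoint (Submonoid.powers f' : Set F) Q.asIdeal := by
    rw [Set.disjoint_left]
    rintro _ ⟨m, rfl⟩ hm
    exact hf'Q (Q.2.mem_of_pow_mem m hm)
  haveI : qT.IsPrime :=
    IsLocalization.isPrime_of_isPrime_disjoint (Submonoid.powers f') T Q.asIdeal Q.2 hdisjT
  have hqT : qT.comap (algebraMap F T) = Q.asIdeal :=
    IsLocalization.under_map_of_isPrime_disjoint (Submonoid.powers f') T Q.2 hdisjT
  let q0 : Ideal (MvPolynomial (Fin n) p.ResidueField) := qT.comap (MvPolynomial.aeval (R := p.ResidueField) t₀)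
  haveI : q0.IsPrime := Ideal.comap_isPrime _ _
  obtain ⟨r₀, hr₀⟩ : ∃ r₀ : ℕ, Algebra.trdeg p.ResidueField (MvPolynomial (Fin n) p.ResidueField ⧸ q0) = r₀ :=
    Cardinal.lt_aleph0.mp ((trdeg_le q0).trans_lt (Cardinal.natCast_lt_aleph0))
  obtain ⟨hrn, σ, hσint, hσ⟩ := exists_normalization n r₀ q0 hr₀
  let t : Fin n → T := fun i => MvPolynomial.aeval t₀ (σ (MvPolynomial.X i))
  have htσ : MvPolynomial.aeval (R := p.ResidueField) t = (MvPolynomial.aeval t₀).comp σ :=
    MvPolynomial.algHom_ext fun i => by simp [t]
  have hσfin : σ.toRingHom.Finite := by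
    refine RingHom.IsIntegral.to_finite hσint ?_
    exact RingHom.FiniteType.of_comp_finiteType (f := algebraMap p.ResidueField (MvPolynomial (Fin n) p.ResidueField))
      (by rw [AlgHom.toRingHom_eq_coe, AlgHom.comp_algebraMap]; exact RingHom.finiteType_algebraMap.mpr inferInstance)
  have ht : (MvPolynomial.aeval (R := p.ResidueField) t).Finite := by
    rw [htσ]; exact AlgHom.Finite.comp ht₀ hσfin
  have htlin : qT.comap (MvPolynomial.aeval (R := p.ResidueField) t) = lin p.ResidueField n r₀ := by
    rw [← hσ, htσ]; rfl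
  -- the localisation of `S`
  let S' := Localization.Away g0
  let i : S →+* T := (algebraMap F T).comp Algebra.TensorProduct.includeRight.toRingHom
  have hi : IsUnit (i g0) := IsLocalization.Away.algebraMap_isUnit f'
  let j : S' →+* T := IsLocalization.Away.lift g0 hi
  have hscale : ∀ x : T, ∃ r ∉ p, ∃ s : S', j s = algebraMap R p.ResidueField r • x := fun x => by
    obtain ⟨m, a, ha⟩ := IsLocalization.Away.surj f' x
    obtain ⟨r, hr, s, hs⟩ := Ideal.Fiber.exists_smul_eq_one_tmul p a
    refine ⟨r, hr, algebraMap S S' s * IsLocalization.Away.invSelf g0 ^ m, ?_⟩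
    have hu : IsUnit (i g0 ^ m) := hi.pow m
    rw [← hu.mul_left_inj]
    have h1 : j (algebraMap S S' g0) = i g0 := IsLocalization.Away.lift_eq g0 hi g0
    have h2 : j (algebraMap S S' s) = i s := IsLocalization.Away.lift_eq g0 hi s
    rw [map_mul, map_pow, mul_assoc, ← mul_pow, ← h1, ← map_mul j, mul_comm (IsLocalization.Away.invSelf g0),
      IsLocalization.Away.mul_invSelf, map_one, one_pow, mul_one, h2, h1]
    show algebraMap F T ((1 : p.ResidueField) ⊗ₜ[R] s) = _
    rw [← hs, Algebra.smul_mul_assoc]
    show algebraMap F T (r • a) = _ • (x * algebraMap F T f' ^ m)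
    rw [ha, Algebra.smul_def, map_mul, Algebra.smul_def,
      IsScalarTower.algebraMap_apply R p.ResidueField F,
      ← IsScalarTower.algebraMap_apply p.ResidueField F T]
  choose r hr s hs using fun k => hscale (t k)
  have hfin : (MvPolynomial.aeval (R := p.ResidueField) (fun k => j (s k))).Finite :=
    aeval_finite_smul ht _ (fun k => (algebraMap R p.ResidueField (r k))⁻¹) fun k => by
      rw [hs k, smul_smul, inv_mul_cancel₀, one_smul]
      rw [Ne, Ideal.algebraMap_residueField_eq_zero]
      exact hr k
  -- the prime of `S'`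
  have hdisj : Disjoint (Submonoid.powers g0 : Set S) q := by
    rw [Set.disjoint_left]
    rintro _ ⟨m, rfl⟩ hm
    exact hg0q (Ideal.IsPrime.mem_of_pow_mem inferInstance m hm)
  let q' : Ideal S' := q.map (algebraMap S S')
  haveI : q'.IsPrime := IsLocalization.isPrime_of_isPrime_disjoint (Submonoid.powers g0) S' q ‹_› hdisj
  have hq' : q'.under S = q := IsLocalization.under_map_of_isPrime_disjoint (Submonoid.powers g0) S' ‹_› hdisj
  let φ0 : MvPolynomial (Fin n) R →ₐ[R] S' := MvPolynomial.aeval s
  letI : Algebra (MvPolynomial (Fin n) R) S' := φ0.toRingHom.toAlgebra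
  haveI : IsScalarTower R (MvPolynomial (Fin n) R) S' :=
    IsScalarTower.of_algebraMap_eq fun x => (φ0.commutes x).symm
  haveI : Algebra.FiniteType R S' :=
    haveI : Algebra.FiniteType S S' := IsLocalization.finiteType_of_monoid_fg (Submonoid.powers g0) S'
    Algebra.FiniteType.trans (S := S) inferInstance inferInstance
  haveI : Algebra.FiniteType (MvPolynomial (Fin n) R) S' :=
    Algebra.FiniteType.of_restrictScalars_finiteType R _ _
  let P : Ideal (MvPolynomial (Fin n) R) := q'.under (MvPolynomial (Fin n) R)
  haveI hPp : P.LiesOver p := ⟨by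
    rw [Ideal.under_under]
    rw [← Ideal.under_under (B := S), hq']
    exact q.over_def p⟩
  let resMap : p.ResidueField →ₐ[R] P.ResidueField :=
    Ideal.ResidueField.mapₐ p P (Algebra.ofId R (MvPolynomial (Fin n) R)) (P.over_def p)
  let ψF : F →ₐ[R] P.Fiber S' := Algebra.TensorProduct.lift
    ((IsScalarTower.toAlgHom R P.ResidueField (P.Fiber S')).comp resMap)
    (((Algebra.TensorProduct.includeRight :
      S' →ₐ[MvPolynomial (Fin n) R] P.Fiber S').restrictScalars R).comp (IsScalarTower.toAlgHom R S S'))
    fun _ _ => Commute.all _ _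
  have hψF : ∀ s0 : S, ψF ((1 : p.ResidueField) ⊗ₜ[R] s0) =
      (1 : P.ResidueField) ⊗ₜ[MvPolynomial (Fin n) R] algebraMap S S' s0 := fun s0 => by
    rw [Algebra.TensorProduct.lift_tmul, map_one, one_mul]
    rfl
  have hψu : IsUnit (ψF f') := by
    rw [hψF g0]
    exact (IsLocalization.Away.algebraMap_isUnit g0).map
      (Algebra.TensorProduct.includeRight : S' →ₐ[MvPolynomial (Fin n) R] P.Fiber S')
  let ψ : T →+* P.Fiber S' := IsLocalization.Away.lift f' (g := ψF.toRingHom) hψu
  have hψj : ψ.comp j = (Algebra.TensorProduct.includeRight :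
      S' →ₐ[MvPolynomial (Fin n) R] P.Fiber S').toRingHom := by
    refine IsLocalization.ringHom_ext (Submonoid.powers g0) (RingHom.ext fun s0 => ?_)
    show ψ (j (algebraMap S S' s0)) = _
    rw [show j (algebraMap S S' s0) = i s0 from IsLocalization.Away.lift_eq g0 hi s0]
    exact (IsLocalization.Away.lift_eq f' hψu _).trans (hψF s0)
  haveI : Algebra.QuasiFiniteAt (MvPolynomial (Fin n) R) q' := by
    refine quasiFiniteAt_of_fiber_finite q' P
      (MvPolynomial.aeval (R := p.ResidueField) (fun k => j (s k))).toRingHom hfin ψ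
      (MvPolynomial.eval₂Hom resMap.toRingHom fun k => algebraMap (MvPolynomial (Fin n) R) P.ResidueField (MvPolynomial.X k)) ?_
      (fun x => ⟨j x, DFunLike.congr_fun hψj x⟩)
    refine MvPolynomial.ringHom_ext (fun c => ?_) fun k => ?_
    · show ψ (MvPolynomial.aeval (fun k => j (s k)) (MvPolynomial.C c)) =
        algebraMap P.ResidueField (P.Fiber S')
          (MvPolynomial.eval₂Hom resMap.toRingHom _ (MvPolynomial.C c))
      rw [MvPolynomial.aeval_C, MvPolynomial.eval₂Hom_C,
        IsScalarTower.algebraMap_apply p.ResidueField F T]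
      refine (IsLocalization.Away.lift_eq f' hψu _).trans ?_
      show ψF (c ⊗ₜ[R] (1 : S)) = _
      rw [Algebra.TensorProduct.lift_tmul, map_one, mul_one]
      rfl
    · show ψ (MvPolynomial.aeval (fun k => j (s k)) (MvPolynomial.X k)) =
        algebraMap P.ResidueField (P.Fiber S')
          (MvPolynomial.eval₂Hom resMap.toRingHom _ (MvPolynomial.X k))
      rw [MvPolynomial.aeval_X, MvPolynomial.eval₂Hom_X']
      refine (DFunLike.congr_fun hψj (s k)).trans ?_
      rw [← IsScalarTower.algebraMap_apply (MvPolynomial (Fin n) R) P.ResidueField (P.Fiber S'),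
        ← (Algebra.TensorProduct.includeRight : S' →ₐ[MvPolynomial (Fin n) R] P.Fiber S').commutes,
        show algebraMap (MvPolynomial (Fin n) R) S' (MvPolynomial.X k) = s k from
          MvPolynomial.aeval_X s k]
      rfl
  -- the prime of the polynomial ring
  have hj1 : ∀ x : S, j (algebraMap S S' x) = i x := fun x => IsLocalization.Away.lift_eq g0 hi x
  have hq'j : q' = qT.comap j := by
    rw [← IsLocalization.map_under (Submonoid.powers g0) S' (qT.comap j)]
    refine congrArg (Ideal.map (algebraMap S S')) ?_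
    rw [Ideal.under_def, Ideal.comap_comap, show j.comp (algebraMap S S') = i from RingHom.ext hj1,
      ← Ideal.comap_comap, hqT, hQ]
  have hP : P = (lin p.ResidueField n r₀).comap (MvPolynomial.map (algebraMap R p.ResidueField)) := by
    have hu : qT.comap (MvPolynomial.aeval (R := p.ResidueField) fun k => j (s k)) = lin p.ResidueField n r₀ := by
      refine comap_eq_lin hrn _ qT (fun k hk => ?_) fun a ha => ?_
      · rw [MvPolynomial.aeval_X, hs k, Algebra.smul_def]
        refine Ideal.mul_mem_left _ _ ?_
        have : MvPolynomial.X k ∈ qT.comap (MvPolynomial.aeval (R := p.ResidueField) t) := by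
          rw [htlin]; exact Ideal.subset_span ⟨⟨k, hk⟩, rfl⟩
        simpa using this
      · let c : Fin r₀ → p.ResidueField := fun k => algebraMap R p.ResidueField (r (Fin.castLE hrn k))
        have hc : ∀ k, c k ≠ 0 := fun k => by
          rw [Ne, Ideal.algebraMap_residueField_eq_zero]; exact hr _
        let sc : (Fin r₀ → p.ResidueField) → (MvPolynomial (Fin r₀) p.ResidueField →ₐ[p.ResidueField]
            MvPolynomial (Fin r₀) p.ResidueField) := fun c =>
          MvPolynomial.aeval fun k => c k • MvPolynomial.X k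
        have e : (MvPolynomial.aeval (R := p.ResidueField) fun k => j (s k)).comp (MvPolynomial.rename (Fin.castLE hrn)) =
            ((MvPolynomial.aeval (R := p.ResidueField) t).comp (MvPolynomial.rename (Fin.castLE hrn))).comp (sc c) :=
          MvPolynomial.algHom_ext fun k => by simp [sc, c, hs, Algebra.smul_def]
        have e' : (sc fun k => (c k)⁻¹).comp (sc c) = AlgHom.id p.ResidueField _ :=
          MvPolynomial.algHom_ext fun k => by simp [sc, smul_smul, mul_inv_cancel₀ (hc k)]
        have ha' : MvPolynomial.aeval t (MvPolynomial.rename (Fin.castLE hrn) (sc c a)) ∈ qT := by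
          have := DFunLike.congr_fun e a
          simp only [AlgHom.comp_apply] at this
          rwa [← this]
        have h0 : sc c a = 0 := eq_zero_of_rename_mem_lin hrn (by rw [← htlin]; exact ha')
        have h1 := DFunLike.congr_fun e' a
        rw [AlgHom.comp_apply, h0, map_zero] at h1
        exact h1.symm
    have hjφ : j.comp φ0.toRingHom = (MvPolynomial.aeval (R := p.ResidueField) fun k => j (s k)).toRingHom.comp
        (MvPolynomial.map (algebraMap R p.ResidueField)) := by
      refine MvPolynomial.ringHom_ext (fun c => ?_) fun k => by simp [φ0]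
      simp only [φ0, RingHom.comp_apply, AlgHom.toRingHom_eq_coe, RingHom.coe_coe, MvPolynomial.aeval_C,
        MvPolynomial.map_C]
      rw [IsScalarTower.algebraMap_apply R S S', hj1, ← IsScalarTower.algebraMap_apply R p.ResidueField T,
        IsScalarTower.algebraMap_apply R F T]
      exact congrArg (algebraMap F T) ((Algebra.TensorProduct.includeRight : S →ₐ[R] F).commutes c)
    show q'.comap φ0.toRingHom = _
    rw [hq'j, Ideal.comap_comap, hjφ, ← Ideal.comap_comap, ← hu]
    rfl
  obtain ⟨r1, hr1, hqf⟩ := exists_notMem_quasiFinite_away (R := MvPolynomial (Fin n) R) q'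
  obtain ⟨m, a, ha⟩ := IsLocalization.Away.surj g0 r1
  have haq : a ∉ q := fun h => by
    have h' : algebraMap S S' a ∈ q' := Ideal.mem_map_of_mem _ h
    rw [← ha, Ideal.IsPrime.mul_mem_iff_mem_or_mem ‹q'.IsPrime›] at h'
    exact h'.elim hr1 fun h'' => hg0q (hq' ▸ Ideal.mem_comap.2 (Ideal.IsPrime.mem_of_pow_mem inferInstance m h''))
  refine ⟨g0 * a, fun h => (Ideal.IsPrime.mem_or_mem inferInstance h).elim hg0q haq, ?_⟩
  haveI : IsLocalization.Away (algebraMap S S' a) (Localization.Away r1) :=
    IsLocalization.Away.of_associated ⟨((IsLocalization.Away.algebraMap_isUnit g0).pow m).unit, ha⟩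
  haveI : IsLocalization.Away (g0 * a) (Localization.Away r1) :=
    IsLocalization.Away.mul' S' (Localization.Away r1) g0 a
  let e : Localization.Away r1 ≃ₐ[S] Localization.Away (g0 * a) :=
    IsLocalization.algEquiv (Submonoid.powers (g0 * a)) _ _
  let φ : MvPolynomial (Fin n) R →ₐ[R] Localization.Away (g0 * a) :=
    ((e.restrictScalars R).toAlgHom.comp (IsScalarTower.toAlgHom R S' (Localization.Away r1))).comp φ0
  letI : Algebra (MvPolynomial (Fin n) R) (Localization.Away (g0 * a)) := φ.toRingHom.toAlgebra
  haveI : IsScalarTower R (MvPolynomial (Fin n) R) (Localization.Away (g0 * a)) :=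
    IsScalarTower.of_algebraMap_eq fun x => (φ.commutes x).symm
  haveI : Algebra.FiniteType R (Localization.Away (g0 * a)) :=
    haveI : Algebra.FiniteType S (Localization.Away (g0 * a)) :=
      IsLocalization.finiteType_of_monoid_fg (Submonoid.powers (g0 * a)) _
    Algebra.FiniteType.trans (S := S) inferInstance inferInstance
  refine ⟨φ, Algebra.FiniteType.of_restrictScalars_finiteType R _ _,
    (Algebra.QuasiFinite.iff_of_algEquiv (AlgEquiv.ofRingEquiv
      (f := e.toRingEquiv) fun x => rfl)).1 hqf, P, inferInstance, hPp,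
    purelyTranscendental_lin p hrn P hP, fun Q' hQ'p hQ' => ?_⟩
  haveI := hQ'p
  let E : S' →ₐ[S] Localization.Away (g0 * a) := e.toAlgHom.comp (IsScalarTower.toAlgHom S S' (Localization.Away r1))
  have hE : Q'.comap E.toRingHom = q' := by
    rw [← IsLocalization.map_under (Submonoid.powers g0) S' (Q'.comap E.toRingHom)]
    refine congrArg (Ideal.map (algebraMap S S')) ?_
    rw [Ideal.under_def, Ideal.comap_comap, AlgHom.toRingHom_eq_coe, AlgHom.comp_algebraMap, hQ']
  show Q'.comap (E.toRingHom.comp φ0.toRingHom) = q'.comap φ0.toRingHom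
  rw [← hE, Ideal.comap_comap]


end Groth.Agent.FlatMor62.LocalStructRing
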