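import Groth.Agent.Fibres16.GeomNormalChart
import Groth.Agent.GeomFieldLib.Main
import Mathlib.AlgebraicGeometry.Geometrically.Reduced
import Mathlib.AlgebraicGeometry.Morphisms.Flat

/-!
# Morphisms with normal ring maps
-/

set_option autoImplicit false
set_option linter.style.haveILetI false

universe u

open CategoryTheory Limits AlgebraicGeometry TensorProduct

namespace Groth.Agent.FlatMor62.NormalHom

variable {Y S : Scheme.{u}} (h : Y ⟶ S)

/-- Affine-locally the ring maps are normal. -/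
abbrev HasNormalMaps : Prop :=
  ∀ (U : Y.Opens) (V : S.Opens) (_hU : IsAffineOpen U) (_hV : IsAffineOpen V) (hUV : U ≤ h ⁻¹ᵁ V),
    letI := (h.appLE V U hUV).hom.toAlgebra
    EGA4.IsNormalHom Γ(S, V) Γ(Y, U)

variable {h}

theorem flat (hn : HasNormalMaps h) : Flat h :=
  HasRingHomProperty.iff_appLE.mpr fun V U hUV => (hn U.1 V.1 U.2 V.2 hUV).1

/-- The base changes to fields have domains as local rings. -/
theorem isDomain_stalk (hn : HasNormalMaps h) (K : Type u) [Field K]
    (y : Spec (CommRingCat.of K) ⟶ S) (z : ↥(pullback h y)) :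
    IsDomain ((pullback h y).presheaf.stalk z) := by
  obtain ⟨_, ⟨V, hV, rfl⟩, hxV, -⟩ := S.isBasis_affineOpens.exists_subset_of_mem_open
    (Set.mem_univ (h (pullback.fst h y z))) isOpen_univ
  obtain ⟨_, ⟨U, hU, rfl⟩, hxU, hUV⟩ :=
    Y.isBasis_affineOpens.exists_subset_of_mem_open hxV (h ⁻¹ᵁ V).2
  replace hV : IsAffineOpen V := hV
  replace hU : IsAffineOpen U := hU
  let φ := (h.appLE V U hUV).hom
  letI : Algebra Γ(S, V) Γ(Y, U) := φ.toAlgebra
  have hN : EGA4.IsNormalHom Γ(S, V) Γ(Y, U) := hn U V hU hV hUV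
  have hy : Set.range y ⊆ Set.range hV.fromSpec := by
    rintro _ ⟨t, rfl⟩
    rw [hV.range_fromSpec, Subsingleton.elim (α := PrimeSpectrum K) t (pullback.snd h y z),
      ← Scheme.Hom.comp_apply, ← pullback.condition]
    exact hxV
  obtain ⟨ψ, hψ⟩ : ∃ ψ : Γ(S, V) →+* K, Spec.map (CommRingCat.ofHom ψ) ≫ hV.fromSpec = y :=
    ⟨(Spec.preimage (IsOpenImmersion.lift hV.fromSpec y hy)).hom, by
      rw [CommRingCat.ofHom_hom, Spec.map_preimage]
      exact IsOpenImmersion.lift_fac _ _ _⟩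
  letI : Algebra Γ(S, V) K := ψ.toAlgebra
  let p : Ideal Γ(S, V) := RingHom.ker ψ
  haveI : p.IsPrime := RingHom.ker_isPrime _
  let χ : p.ResidueField →ₐ[Γ(S, V)] K := Ideal.ResidueField.liftₐ p (Algebra.ofId Γ(S, V) K) le_rfl
    fun a ha => IsUnit.mk0 _ ha
  letI : Algebra p.ResidueField K := χ.toRingHom.toAlgebra
  haveI : IsScalarTower Γ(S, V) p.ResidueField K := IsScalarTower.of_algebraMap_eq fun a => (χ.commutes a).symm
  have hnorm : EGA4.IsNormalRing (K ⊗[Γ(S, V)] Γ(Y, U)) :=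
    EGA4Lib.isNormalRing_of_ringEquiv
      (Algebra.TensorProduct.cancelBaseChange Γ(S, V) p.ResidueField p.ResidueField K Γ(Y, U)).toRingEquiv
      (GeomFieldLib.isNormalRing_tensor_of_isGeomNormal p.ResidueField (p.Fiber Γ(Y, U)) (hN.2 p) K)
  have sq : hU.fromSpec ≫ h = Spec.map (CommRingCat.ofHom (algebraMap Γ(S, V) Γ(Y, U))) ≫ hV.fromSpec :=
    (IsAffineOpen.SpecMap_appLE_fromSpec h hV hU hUV).symm
  obtain ⟨j, _, -, hj⟩ :=
    Fibres16.GeomNormalChart.exists_chart_pullback h hV.fromSpec hU.fromSpec sq K y hψ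
  obtain ⟨q, rfl⟩ : z ∈ Set.range j := (hj z).mpr (by rw [hU.range_fromSpec]; exact hxU)
  let P : PrimeSpectrum (K ⊗[Γ(S, V)] Γ(Y, U)) := q
  let e : (pullback h y).presheaf.stalk (j q) ≃+* Localization.AtPrime P.asIdeal :=
    FBase.PointScheme.chartStalkEquiv j P
  haveI : IsDomain (Localization.AtPrime P.asIdeal) := (hnorm P.asIdeal).1
  first
    | exact MulEquiv.isDomain _ e.toMulEquiv
    | exact MulEquiv.isDomain _ e.symm.toMulEquiv

theorem geometricallyReduced (hn : HasNormalMaps h) : GeometricallyReduced h := by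
  refine ⟨fun K _ y Z fst snd hZ => ?_⟩
  haveI : ∀ z, IsDomain ((pullback h y).presheaf.stalk z) := isDomain_stalk hn K y
  haveI : IsReduced (pullback h y) := isReduced_of_isReduced_stalk _
  exact isReduced_of_isOpenImmersion hZ.isoPullback.hom

end Groth.Agent.FlatMor62.NormalHom
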