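import Groth.Agent.FlatMor62.DimGETop
import Groth.Agent.S9023

/-!
# The condition `F_n` on test schemes
-/

set_option autoImplicit false
set_option linter.style.haveILetI false
set_option linter.unusedSectionVars false
set_option backward.isDefEq.respectTransparency false
set_option backward.isDefEq.respectTransparency.types false

universe u w

open CategoryTheory CategoryTheory.Limits AlgebraicGeometry

namespace Groth.Agent.FlatMor62.PureCond

open DimGEScheme

variable {X S : Scheme.{u}} (f : X ⟶ S) (F : X.Modules) (n : ℕ)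

/-- The base change of `F` to `T` is flat over `T` in dimensions `≥ n`. -/
def Cond (T : Over S) : Prop :=
  FlatFun.DimFibresLT n (PicF.XTproj f T) {x | ¬ FlatMod.IsFlatOverAt (PicF.XTproj f T) (FGA.ET f F T) x}

variable {f F n}

theorem Cond.of_hom [LocallyOfFiniteType f] {T T₀ : Over S} (k : T ⟶ T₀) (h : Cond f F n T₀) : Cond f F n T := by
  intro z hz
  show Dual3.resTrdeg (PicF.XTproj f T) z < (n : Cardinal.{u})
  rw [S9023.resTrdeg_isoPullback f k z]
  refine lt_of_le_of_lt (TrdegBC.resTrdeg_snd_le _) (h _ ?_)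
  rw [← Scheme.Hom.comp_apply, IsPullback.isoPullback_hom_fst]
  exact fun hfl => hz (S9023.flatAt_of_flatAt f F k z hfl)

theorem Cond.of_cover [LocallyOfFiniteType f] [Coh.IsQCoh F] (T : Over S) {ι : Type w} (Ti : ι → Over S) (a : ∀ i, Ti i ⟶ T)
    [∀ i, Flat (a i).left] (hs : ∀ t : T.left, ∃ i, t ∈ Set.range (a i).left) (h : ∀ i, Cond f F n (Ti i)) :
    Cond f F n T := by
  intro x hx
  obtain ⟨i, v, hv⟩ := hs (pullback.snd f T.hom x)
  obtain ⟨z', hz', -, hle⟩ :=
    TrdegBC.exists_resTrdeg_le_snd (f := pullback.snd f T.hom) (g := (a i).left) x v hv.symm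
  let e := (FlatFunSheaf.isPullback_bcMap f (a i)).isoPullback
  obtain ⟨z, rfl⟩ : ∃ z, e.hom z = z' := ⟨e.inv z', by rw [← Scheme.Hom.comp_apply, e.inv_hom_id]; rfl⟩
  have hb : FlatFunSheaf.bcMap f (a i) z = x := by
    rw [← hz', ← Scheme.Hom.comp_apply]
    rw [IsPullback.isoPullback_hom_fst]
  refine lt_of_le_of_lt (hle.trans_eq (S9023.resTrdeg_isoPullback f (a i) z).symm) (h i z fun hfl => hx ?_)
  rw [← hb]
  exact FDesc.BaseChangeStalk.flatOverAt_of_baseChange
    (FlatFunSheaf.isPullback_bcMap f (a i)) z _ (Flat.stalkMap (a i).left _)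
    (Fibres16.LimCrit.isFlatOverAt_of_iso _
      ((LimTop.compIso (FlatFunSheaf.bcMap f (a i)) (pullback.fst f T.hom)
        (FlatFunSheaf.bcMap_fst f (a i))).app F).symm z hfl)

/-- Locality in the form of open neighbourhoods. -/
theorem Cond.of_local [LocallyOfFiniteType f] [Coh.IsQCoh F] {T : Scheme.{u}} (g : T ⟶ S)
    (h : ∀ t : T, ∃ (T' : Scheme.{u}) (a : T' ⟶ T),
      IsOpenImmersion a ∧ t ∈ Set.range a ∧ Cond f F n (Over.mk (a ≫ g))) : Cond f F n (Over.mk g) := by
  choose T' a ha ht hc using h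
  haveI : ∀ t, Flat (Over.homMk (U := Over.mk (a t ≫ g)) (V := Over.mk g) (a t) rfl).left := fun t => by
    show Flat (a t)
    haveI := ha t
    infer_instance
  exact Cond.of_cover (Over.mk g) (fun t => Over.mk (a t ≫ g)) (fun t => Over.homMk (a t) rfl)
    (fun t => ⟨t, ht t⟩) hc

section Affine

variable {A B : Type u} [CommRing A] [CommRing B] [Algebra A B]
  (N : Type u) [AddCommGroup N] [Module B N]

/-- The condition for a module over an algebra. -/
abbrev CondA (n : ℕ) (A : Type u) [CommRing A] {B : Type u} [CommRing B] [Algebra A B] (N : Type u) [AddCommGroup N]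
    [Module B N] (T : Over (Spec (CommRingCat.of A))) : Prop :=
  Cond (str A B) (tilde (R := CommRingCat.of B) (ModuleCat.of B N)) n T

/-- On affine test schemes the condition is the ring-theoretic one, for any models. -/
theorem bridge (n : ℕ) (A' B' N' : Type u) [CommRing A'] [CommRing B'] [Algebra A A'] [Algebra B B'] [Algebra A' B']
    [Algebra A B'] [IsScalarTower A B B'] [IsScalarTower A A' B'] [Algebra.IsPushout A B A' B']
    [AddCommGroup N'] [Module B' N'] [Module B N'] [IsScalarTower B B' N'] [Module A' N'] [IsScalarTower A' B' N']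
    (φ : N →ₗ[B] N') (hφ : IsBaseChange B' φ) :
    FlatCA.FlatInDimGE n A' B' N' ↔ CondA n A (B := B) N (Over.mk (str A A')) := by
  let f := str A B
  let F := tilde (R := CommRingCat.of B) (ModuleCat.of B N)
  have hpb : IsPullback (str B B') (str A' B') f (str A A') :=
    isPullback_SpecMap_of_isPushout _ _ _ _ (CommRingCat.isPushout_of_isPushout A B A' B')
  let T : Over (Spec (CommRingCat.of A)) := Over.mk (str A A')
  let q := PicF.XTproj f T
  let E := FGA.ET f F T
  let u := hpb.isoPullback.hom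
  have hu1 : u ≫ pullback.fst f T.hom = str B B' := hpb.isoPullback_hom_fst
  have hu2 : u ≫ q = str A' B' := hpb.isoPullback_hom_snd
  let M := tilde (R := CommRingCat.of B') (ModuleCat.of B' N')
  have heN : Nonempty ((Scheme.Modules.pullback (str B B')).obj F ≅ M) := by
    refine FlatMor.PullTilde.nonempty_pullback_tilde (CommRingCat.ofHom (algebraMap B B')) (ModuleCat.of B N) M ?_
    have halg : (CommRingCat.ofHom (algebraMap B B')).hom.toAlgebra = (inferInstance : Algebra B B') :=
      Algebra.algebra_ext _ _ fun _ => rfl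
    dsimp only
    rw [halg]
    exact hφ.equiv.trans (Props.QTilde.topEquiv (R := CommRingCat.of B') (ModuleCat.of B' N'))
  obtain ⟨eN⟩ := heN
  let eE : (Scheme.Modules.pullback u).obj E ≅ M :=
    (Scheme.Modules.pullbackComp u (pullback.fst f T.hom)).app F ≪≫ (Scheme.Modules.pullbackCongr hu1).app F ≪≫ eN
  haveI : F.IsQuasicoherent := inferInstance
  haveI : E.IsQuasicoherent := inferInstance
  have hflat : ∀ z, FlatMod.IsFlatOverAt q E (u z) ↔
      (haveI : z.asIdeal.IsPrime := z.2; FlatCA.FlatAt A' z.asIdeal N') := fun z => by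
    rw [← FDesc.Stalk.flatOverAt_pullback_iff u q E z (Flat.stalkMap u z), hu2, ← isFlatOverAt_tilde A' B' N' z]
    exact ⟨S17417.isFlatOverAt_of_iso _ eE z, S17417.isFlatOverAt_of_iso _ eE.symm z⟩
  haveI := AlgSpD.locallyQuasiFinite_of_etale u
  have htr : ∀ z, Dual3.resTrdeg (str A' B') z = Dual3.resTrdeg q (u z) := fun z => by
    rw [← hu2, AlgSpD.resTrdeg_comp, AlgSpD.resTrdeg_eq_zero_of_lqf u, zero_add]
  constructor
  · intro h x hx
    obtain ⟨z, rfl⟩ := hpb.isoPullback.hom.surjective x
    show Dual3.resTrdeg q (u z) < _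
    haveI : z.asIdeal.IsPrime := z.2
    rw [← htr z, resTrdeg_eq A' B' z (z.asIdeal.under A') z.asIdeal rfl, ← DimGE.trdeg_residue]
    exact h _ _ fun hfl => hx ((hflat z).mpr hfl)
  · intro h t P _ _ _ hnf
    let z : Spec (CommRingCat.of B') := (⟨P, inferInstance⟩ : PrimeSpectrum B')
    rw [DimGE.trdeg_residue, ← resTrdeg_eq A' B' z t P rfl, htr z]
    exact h (u z) fun hfl => hnf ((hflat z).mp hfl)

variable [Algebra.FiniteType A B]

/-- Above the number of generators the condition is empty. -/
theorem exists_top : ∃ r : ℕ, ∀ (n : ℕ) (T : Over (Spec (CommRingCat.of A))), r < n → CondA n A (B := B) N T := by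
  classical
  obtain ⟨r, φ, hφ⟩ := Algebra.FiniteType.iff_quotient_mvPolynomial''.mp (inferInstance : Algebra.FiniteType A B)
  refine ⟨r, fun n T hn x _ => ?_⟩
  refine lt_of_le_of_lt (TrdegBC.resTrdeg_snd_le (f := str A B) (g := T.hom) x) ?_
  set z := pullback.fst (str A B) T.hom x
  haveI : z.asIdeal.IsPrime := z.2
  rw [resTrdeg_eq A B z (z.asIdeal.under A) z.asIdeal rfl]
  let ψ : MvPolynomial (Fin r) A →ₐ[A] B ⧸ z.asIdeal := (Ideal.Quotient.mkₐ A z.asIdeal).comp φ
  have hψ : Function.Surjective ψ := (Ideal.Quotient.mk_surjective).comp hφ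
  refine lt_of_le_of_lt ?_ (show ((r : ℕ) : Cardinal.{u}) < n by exact_mod_cast hn)
  have hsub : Algebra.adjoin (A ⧸ z.asIdeal.under A) (Set.range fun i => ψ (MvPolynomial.X i)) = ⊤ := by
    refine eq_top_iff.mpr fun b _ => ?_
    obtain ⟨p, rfl⟩ := hψ b
    induction p using MvPolynomial.induction_on with
    | C a =>
      rw [show ψ (MvPolynomial.C a) = algebraMap (A ⧸ z.asIdeal.under A) (B ⧸ z.asIdeal) (Ideal.Quotient.mk _ a) from
        ψ.commutes a]
      exact Subalgebra.algebraMap_mem _ _
    | add p q hp hq => rw [map_add]; exact add_mem (hp trivial) (hq trivial)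
    | mul_X p i hp => rw [map_mul]; exact mul_mem (hp trivial) (Algebra.subset_adjoin ⟨i, rfl⟩)
  haveI : IsDomain (B ⧸ z.asIdeal) := inferInstance
  refine le_trans (trdeg_le_of_surjective
    (MvPolynomial.aeval (R := A ⧸ z.asIdeal.under A) fun i => ψ (MvPolynomial.X i)) ?_) ?_
  · rw [← AlgHom.range_eq_top, ← Algebra.adjoin_range_eq_range_aeval]
    exact hsub
  · simp

end Affine

end Groth.Agent.FlatMor62.PureCond
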