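import Groth.Agent.FlatMor62.PureRep
import Groth.Agent.BigVol.HilbGlue
import Groth.Agent.AlgSp.Diag
import Groth.Agent.S1226

/-!
# Base change and gluing for `F_n`
-/

set_option autoImplicit false
set_option linter.style.haveILetI false
set_option linter.unusedSectionVars false
set_option backward.isDefEq.respectTransparency false
set_option backward.isDefEq.respectTransparency.types false

universe u

open CategoryTheory CategoryTheory.Limits AlgebraicGeometry Opposite
open scoped TensorProduct

namespace Groth.Agent.FlatMor62.PureGlue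

open DimGEScheme PureCond DimGETop PureRep

attribute [local instance] Algebra.TensorProduct.rightAlgebra

variable {A B : Type u} [CommRing A] [CommRing B] [Algebra A B] [Algebra.FinitePresentation A B]
  (N : Type u) [AddCommGroup N] [Module B N]

/-- `F_n` commutes with base change. -/
theorem C_baseChange (n : ℕ) (R BR NR : Type u) [CommRing R] [CommRing BR] [Algebra A R] [Algebra B BR] [Algebra R BR]
    [Algebra A BR] [IsScalarTower A B BR] [IsScalarTower A R BR] [Algebra.IsPushout A B R BR]
    [Algebra.FinitePresentation R BR]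
    [AddCommGroup NR] [Module BR NR] [Module B NR] [IsScalarTower B BR NR]
    (fR : N →ₗ[B] NR) (hfR : IsBaseChange BR fR) {T : Scheme.{u}} (g : T ⟶ Spec (CommRingCat.of R)) :
    C n R (B := BR) NR g ↔ C n A (B := B) N (g ≫ str A R) := by
  have haff : ∀ (A' : CommRingCat.{u}) (g : Spec A' ⟶ Spec (CommRingCat.of R)),
      C n R (B := BR) NR g ↔ C n A (B := B) N (g ≫ str A R) := by
    intro A' g
    obtain ⟨φ, rfl⟩ := Spec.map_surjective g
    letI : Algebra R A' := φ.hom.toAlgebra
    letI : Algebra A A' := (φ.hom.comp (algebraMap A R)).toAlgebra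
    haveI : IsScalarTower A R A' := IsScalarTower.of_algebraMap_eq fun _ => rfl
    let D : Type u := A' ⊗[R] BR
    letI : Algebra B D := ((algebraMap BR D).comp (algebraMap B BR)).toAlgebra
    haveI : IsScalarTower B BR D := IsScalarTower.of_algebraMap_eq fun _ => rfl
    haveI : IsScalarTower A A' D := inferInstance
    haveI hRD : Algebra.IsPushout R BR A' D := Algebra.IsPushout.symm inferInstance
    haveI : IsScalarTower R BR D := inferInstance
    haveI : IsScalarTower A R D := IsScalarTower.of_algebraMap_eq fun a => by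
      rw [IsScalarTower.algebraMap_apply R A' D, ← IsScalarTower.algebraMap_apply A R A',
        ← IsScalarTower.algebraMap_apply A A' D]
    haveI : IsScalarTower A BR D := IsScalarTower.of_algebraMap_eq fun a => by
      rw [IsScalarTower.algebraMap_apply A R BR, ← IsScalarTower.algebraMap_apply R BR D,
        ← IsScalarTower.algebraMap_apply A R D]
    haveI : IsScalarTower A B D := IsScalarTower.of_algebraMap_eq fun a => by
      show _ = algebraMap BR D (algebraMap B BR (algebraMap A B a))
      rw [← IsScalarTower.algebraMap_apply A B BR, ← IsScalarTower.algebraMap_apply A BR D]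
    haveI : Algebra.IsPushout A R B BR := Algebra.IsPushout.symm inferInstance
    haveI : Algebra.IsPushout R A' BR D := inferInstance
    haveI : Algebra.IsPushout A A' B D :=
      (Algebra.IsPushout.comp_iff (R := A) (S := R) (R' := B) (S' := BR) (T := A') (T' := D)).mpr inferInstance
    haveI : Algebra.IsPushout A B A' D := Algebra.IsPushout.symm inferInstance
    let G : Type u := D ⊗[BR] NR
    haveI : IsScalarTower B D G := inferInstance
    haveI : IsScalarTower B BR G := IsScalarTower.of_algebraMap_smul fun b x => by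
      rw [← algebraMap_smul D (algebraMap B BR b) x, ← IsScalarTower.algebraMap_apply, algebraMap_smul]
    haveI : IsScalarTower A' D G := inferInstance
    let ψ : NR →ₗ[BR] G := (TensorProduct.mk BR D NR) 1
    have hψ : IsBaseChange D ψ := TensorProduct.isBaseChange BR NR D
    have e : Spec.map φ ≫ str A R = str A A' := by
      show Spec.map φ ≫ Spec.map _ = Spec.map _
      rw [← Spec.map_comp]
      rfl
    rw [e]
    exact (bridge (A := R) (B := BR) NR n A' D G ψ hψ).symm.trans
      (bridge (A := A) (B := B) N n A' D G ((ψ.restrictScalars B) ∘ₗ fR) (hfR.comp hψ))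
  have cover : ∀ t : T, ∃ (A' : CommRingCat.{u}) (a : Spec A' ⟶ T), IsOpenImmersion a ∧ t ∈ Set.range a := fun t => by
    obtain ⟨j, x, hx⟩ := T.affineCover.exists_eq t
    exact ⟨_, T.affineCover.f j, inferInstance, x, hx⟩
  constructor
  · intro h
    refine C.of_local N _ fun t => ?_
    obtain ⟨A', a, ha, hta⟩ := cover t
    exact ⟨_, a, ha, hta, by rw [← Category.assoc]; exact (haff A' _).1 (C.comp NR a h)⟩
  · intro h
    refine C.of_local NR _ fun t => ?_
    obtain ⟨A', a, ha, hta⟩ := cover t
    exact ⟨_, a, ha, hta, (haff A' _).2 (by rw [Category.assoc]; exact C.comp N a h)⟩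

theorem str_self (R : Type u) [CommRing R] : str R R = 𝟙 (Spec (CommRingCat.of R)) := by
  show Spec.map (CommRingCat.ofHom (RingHom.id R)) = _
  rw [show CommRingCat.ofHom (RingHom.id R) = 𝟙 (CommRingCat.of R) from rfl, Spec.map_id]

theorem repOver_baseChange (n : ℕ) (R BR NR : Type u) [CommRing R] [CommRing BR] [Algebra A R] [Algebra B BR] [Algebra R BR]
    [Algebra A BR] [IsScalarTower A B BR] [IsScalarTower A R BR] [Algebra.IsPushout A B R BR]
    [Algebra.FinitePresentation R BR]
    [AddCommGroup NR] [Module BR NR] [Module B NR] [IsScalarTower B BR NR]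
    (fR : N →ₗ[B] NR) (hfR : IsBaseChange BR fR) (R' : Type u) [CommRing R'] [Algebra R R'] [Algebra A R']
    [IsScalarTower A R R'] :
    RepOver R BR NR n R' ↔ RepOver A B N n R' := by
  have e : str R R' ≫ str A R = str A R' := by
    show Spec.map _ ≫ Spec.map _ = Spec.map _
    rw [← Spec.map_comp, ← CommRingCat.ofHom_comp, ← IsScalarTower.algebraMap_eq]
  have hu : ∀ {Z : Scheme.{u}} (i : Z ⟶ Spec (CommRingCat.of R')),
      Univ n R (B := BR) NR (str R R') i ↔ Univ n A (B := B) N (str A R') i := fun i => by
    refine forall_congr' fun T => forall_congr' fun g => iff_congr Iff.rfl ?_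
    rw [C_baseChange (A := A) (B := B) N n R BR NR fR hfR, Category.assoc, e]
  exact exists_congr fun Z => exists_congr fun i => and_congr_right fun _ => and_congr_right fun _ =>
    and_congr_right fun _ => and_congr_right fun _ => hu i


/-- From `n + 1` to `n`. -/
theorem step (n : ℕ) (hcore : ∀ (A B : Type u) [CommRing A] [CommRing B] [Algebra A B] [Algebra.FinitePresentation A B]
      (N : Type u) [AddCommGroup N] [Module B N] [Module.FinitePresentation B N],
      FlatCA.IsPure A B N → C (n + 1) A (B := B) N (𝟙 (Spec (CommRingCat.of A))) → RepOver A B N n A)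
    [Module.FinitePresentation B N] (hpure : FlatCA.IsPure A B N) (h : RepOver A B N (n + 1) A) :
    RepOver A B N n A := by
  classical
  obtain ⟨Z', i', hm, hlfp, hqc, hqs, huniv⟩ := h
  haveI := hm
  haveI := hlfp
  haveI := hqc
  haveI := hqs
  have hCn : ∀ {T : Scheme.{u}} (g : T ⟶ Z'), C (n + 1) A (B := B) N (g ≫ i') := fun g => by
    have := (huniv _ (g ≫ i')).1 ⟨g, rfl⟩
    rwa [str_self, Category.comp_id] at this
  have hloc : ∀ V : Z'.affineOpens, ∃ (W : Scheme.{u}) (w : W ⟶ V.1.toScheme), Mono w ∧
      LocallyOfFinitePresentation w ∧ QuasiCompact w ∧ QuasiSeparated w ∧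
      ∀ (T : Scheme.{u}) (φ : T ⟶ V.1.toScheme), (∃ h, h ≫ w = φ) ↔ C n A (B := B) N ((φ ≫ V.1.ι) ≫ i') := by
    intro V
    let p₀ : Spec Γ(Z', V.1) ⟶ Spec (CommRingCat.of A) := V.2.fromSpec ≫ i'
    obtain ⟨ψ, hψ⟩ := Spec.map_surjective p₀
    letI : Algebra A Γ(Z', V.1) := ψ.hom.toAlgebra
    let R : Type u := Γ(Z', V.1)
    have hstr : str A R = p₀ := hψ
    haveI : LocallyOfFinitePresentation (str A R) := by rw [hstr]; infer_instance
    haveI : Mono (str A R) := by rw [hstr]; infer_instance
    haveI : Algebra.FinitePresentation A R :=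
      RingHom.finitePresentation_algebraMap.mp ((HasRingHomProperty.Spec_iff (P := @LocallyOfFinitePresentation)).1 inferInstance)
    haveI : Algebra.QuasiFinite A R := by
      have hqf : LocallyQuasiFinite (str A R) := AlgSp.locallyQuasiFinite_of_mono _ inferInstance inferInstance
      exact RingHom.quasiFinite_algebraMap.mp ((HasRingHomProperty.Spec_iff (P := @LocallyQuasiFinite)).1 hqf)
    let BR : Type u := R ⊗[A] B
    haveI : Algebra.IsPushout A B R BR := Algebra.IsPushout.symm inferInstance
    haveI : IsScalarTower A B BR := inferInstance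
    let NR : Type u := BR ⊗[B] N
    let fR : N →ₗ[B] NR := (TensorProduct.mk B BR N) 1
    have hfR : IsBaseChange BR fR := TensorProduct.isBaseChange B N BR
    haveI : Algebra.FinitePresentation R BR := inferInstance
    haveI : Module.FinitePresentation BR NR := inferInstance
    have hpureR : FlatCA.IsPure R BR NR := fun p _ => by
      haveI : p.LiesOver (p.under A) := ⟨rfl⟩
      haveI : (p.under A).IsPrime := Ideal.comap_isPrime _ _
      exact S1226.result N (p.under A) R BR NR fR hfR p (hpure (p.under A))
    have hC1 : C (n + 1) R (B := BR) NR (𝟙 (Spec (CommRingCat.of R))) := by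
      rw [C_baseChange (A := A) (B := B) N (n + 1) R BR NR fR hfR, Category.id_comp, hstr]
      exact hCn V.2.fromSpec
    obtain ⟨W, j, hjm, hjl, hjq, hjs, hju⟩ := hcore R BR NR hpureR hC1
    haveI := hjm
    haveI := hjl
    haveI := hjq
    haveI := hjs
    refine ⟨W, j ≫ V.2.isoSpec.inv, inferInstance, inferInstance, inferInstance, inferInstance, fun T φ => ?_⟩
    have hj := hju T (φ ≫ V.2.isoSpec.hom)
    rw [str_self, Category.comp_id, C_baseChange (A := A) (B := B) N n R BR NR fR hfR, hstr] at hj
    have e : (φ ≫ V.2.isoSpec.hom) ≫ p₀ = (φ ≫ V.1.ι) ≫ i' := by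
      show (φ ≫ V.2.isoSpec.hom) ≫ (V.2.isoSpec.inv ≫ V.1.ι) ≫ i' = _
      simp
    rw [e] at hj
    rw [← hj]
    exact exists_congr fun h => by rw [← Category.assoc, Iso.comp_inv_eq]
  choose W w hwm hwl hwq hws hw using hloc
  haveI := hwm
  obtain ⟨Z, i, hi, hiu, hprop⟩ := BigVol.HilbGlue.exists_of_local (fun {T} g => C n A (B := B) N (g ≫ i'))
    (fun a g hg => by rw [Category.assoc]; exact C.comp N a hg)
    (fun g hg => C.of_local N _ fun t => by
      obtain ⟨T', a, ha, hta, hc⟩ := hg t
      exact ⟨T', a, ha, hta, by rwa [← Category.assoc]⟩) W w hw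
  haveI := hi
  haveI : LocallyOfFinitePresentation i := hprop @LocallyOfFinitePresentation hwl
  haveI : QuasiCompact i := hprop @QuasiCompact hwq
  haveI : QuasiSeparated i := hprop @QuasiSeparated hws
  refine ⟨Z, i ≫ i', inferInstance, inferInstance, inferInstance, inferInstance, fun T g => ?_⟩
  rw [str_self, Category.comp_id]
  constructor
  · rintro ⟨h, rfl⟩
    rw [← Category.assoc]
    exact (hiu T (h ≫ i)).1 ⟨h, rfl⟩
  · intro hg
    have h1 : C (n + 1) A (B := B) N g := fun x hx => lt_of_lt_of_le (hg x hx) (by exact_mod_cast n.le_succ)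
    obtain ⟨k, rfl⟩ := (huniv T g).2 (by rwa [str_self, Category.comp_id])
    obtain ⟨h, hh⟩ := (hiu T k).2 hg
    exact ⟨h, by rw [← Category.assoc, hh]⟩

end Groth.Agent.FlatMor62.PureGlue
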