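import Groth.Agent.FlatMor62.PureNear
import Groth.Agent.FlatMor62.PureGlue
import Groth.Agent.FlatMor62.PureCover
import Groth.Agent.S9030

/-!
# `F_n` near a point, for a pure module flat in dimensions `≥ n + 1`
-/

set_option autoImplicit false
set_option linter.style.haveILetI false
set_option linter.unusedSectionVars false
set_option backward.isDefEq.respectTransparency false
set_option backward.isDefEq.respectTransparency.types false

universe u

open CategoryTheory CategoryTheory.Limits AlgebraicGeometry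
open scoped TensorProduct

namespace Groth.Agent.FlatMor62.PureLocal

open DimGEScheme PureCond DimGETop PureRep PureGlue

attribute [local instance] Algebra.TensorProduct.rightAlgebra

/-- `S9030` without the dimensions of the supports. -/
theorem reps_of_devissage {A B : Type u} [CommRing A] [CommRing B] [Algebra A B] [Algebra.FinitePresentation A B]
    (N : Type u) [AddCommGroup N] [Module B N] [Module A N] [IsScalarTower A B N] [Module.FinitePresentation B N]
    (s : Ideal A) [s.IsPrime] (D : FlatCA.CompleteDevissage A B N s)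
    (hdim : ∀ i, i < D.n → ∃ e : ℕ, FlatCA.SmoothRelDim e A (D.B i))
    (d : ℕ) (hflat : FlatCA.FlatInDimGE (d + 1) A B N) :
    ∃ g : A, g ∉ s ∧ ∃ (Z : Scheme.{u}) (ι : Z ⟶ Spec (CommRingCat.of A)), Mono ι ∧ LocallyOfFinitePresentation ι ∧
      QuasiCompact ι ∧ QuasiSeparated ι ∧ DimGEModels.Reps A g d B N (fun A' _ _ => Fac ι A') := by
  classical
  haveI := D.fpSA
  haveI : Module.Finite B (D.A 0) := Module.Finite.of_surjective (Algebra.linearMap B (D.A 0)) D.surjSA
  haveI := D.finiteBA 0 D.pos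
  haveI := D.smooth 0 D.pos
  haveI : IsScalarTower A (D.A 0) (D.M 0) := IsScalarTower.of_algebraMap_smul fun a m => by
    rw [IsScalarTower.algebraMap_apply A (D.B 0) (D.A 0), algebraMap_smul, algebraMap_smul]
  haveI : IsScalarTower A B (D.M 0) := IsScalarTower.of_algebraMap_smul fun a m => by
    rw [← algebraMap_smul (D.A 0) (algebraMap A B a) m, ← IsScalarTower.algebraMap_apply A B (D.A 0), algebraMap_smul]
  haveI : Module.FinitePresentation B (D.M 0) := Module.FinitePresentation.of_equiv D.isoN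
  haveI : Module.FinitePresentation (D.A 0) (D.M 0) :=
    PruferSerre.finitePresentation_of_surjective_algebraMap (P := B) D.surjSA
  haveI : Algebra.FinitePresentation A (D.A 0) := Algebra.FinitePresentation.trans A B (D.A 0)
  haveI : Algebra.FinitePresentation (D.B 0) (D.A 0) :=
    Algebra.FinitePresentation.of_restrict_scalars_finitePresentation A (D.B 0) (D.A 0)
  haveI : Module.FinitePresentation (D.B 0) (D.A 0) := Module.FinitePresentation.of_finite_of_finitePresentation _ _
  have hfp : Module.FinitePresentation (D.B 0) (D.M 0) := Module.FinitePresentation.trans (D.B 0) (D.M 0) (D.A 0)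
  have hflat0 : FlatCA.FlatInDimGE (d + 1) A (D.B 0) (D.M 0) := by
    rw [DimGE.flatInDimGE_iff (C := D.A 0), ← DimGE.flatInDimGE_iff (D := B), ← DimGE.flatInDimGE_congr D.isoN]
    exact hflat
  obtain ⟨g, hg, Z, ι, h1, h2, h3, h4, h5⟩ := S9030.key N s D hdim d
    (D.n - 1) 0 (by have := D.pos; omega) 1 ((Ideal.ne_top_iff_one s).mp (Ideal.IsPrime.ne_top inferInstance))
    hfp (S9030.flatGE_of_flatInDimGE 1 hflat0)
  exact ⟨g, hg, Z, ι, h1, h2, h3, h4,
    ((DimGEModels.reps_down (D := B) (DimGEModels.reps_up (C := D.A 0) h5)).congr D.isoN.symm)⟩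

/-- The condition for an étale algebra is the condition of the pulled back module. -/
theorem cond_etale {A B C : Type u} [CommRing A] [CommRing B] [CommRing C] [Algebra A B] [Algebra B C] [Algebra A C]
    [IsScalarTower A B C] (N Nc : Type u) [AddCommGroup N] [Module B N] [AddCommGroup Nc] [Module C Nc] [Module B Nc]
    [IsScalarTower B C Nc] (φ : N →ₗ[B] Nc) (hφ : IsBaseChange C φ) (n : ℕ) (T : Over (Spec (CommRingCat.of A))) :
    CondA n A (B := C) Nc T ↔ Cond (str B C ≫ str A B)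
      ((Scheme.Modules.pullback (str B C)).obj (tilde (R := CommRingCat.of B) (ModuleCat.of B N))) n T := by
  have e : str B C ≫ str A B = str A C := by
    show Spec.map _ ≫ Spec.map _ = Spec.map _
    rw [← Spec.map_comp, ← CommRingCat.ofHom_comp, ← IsScalarTower.algebraMap_eq]
  let M := tilde (R := CommRingCat.of C) (ModuleCat.of C Nc)
  have heN : Nonempty ((Scheme.Modules.pullback (str B C)).obj (tilde (R := CommRingCat.of B) (ModuleCat.of B N)) ≅ M) := by
    refine FlatMor.PullTilde.nonempty_pullback_tilde (CommRingCat.ofHom (algebraMap B C)) (ModuleCat.of B N) M ?_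
    have halg : (CommRingCat.ofHom (algebraMap B C)).hom.toAlgebra = (inferInstance : Algebra B C) :=
      Algebra.algebra_ext _ _ fun _ => rfl
    dsimp only
    rw [halg]
    exact hφ.equiv.trans (Props.QTilde.topEquiv (R := CommRingCat.of C) (ModuleCat.of C Nc))
  obtain ⟨eN⟩ := heN
  rw [e]
  exact ⟨fun h => h.congr eN.symm, fun h => h.congr eN⟩

/-- Finite intersections of representable conditions. -/
theorem exists_inter {S : Scheme.{u}} {ι : Type u} (P : ι → ∀ {T : Scheme.{u}}, (T ⟶ S) → Prop) (s : Finset ι)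
    (h : ∀ j ∈ s, ∃ (Z : Scheme.{u}) (i : Z ⟶ S), Mono i ∧ LocallyOfFinitePresentation i ∧ QuasiCompact i ∧
      QuasiSeparated i ∧ ∀ (T : Scheme.{u}) (g : T ⟶ S), (∃ k, k ≫ i = g) ↔ P j g) :
    ∃ (Z : Scheme.{u}) (i : Z ⟶ S), Mono i ∧ LocallyOfFinitePresentation i ∧ QuasiCompact i ∧
      QuasiSeparated i ∧ ∀ (T : Scheme.{u}) (g : T ⟶ S), (∃ k, k ≫ i = g) ↔ ∀ j ∈ s, P j g := by
  classical
  induction s using Finset.induction_on with
  | empty =>
    exact ⟨S, 𝟙 S, inferInstance, inferInstance, inferInstance, inferInstance,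
      fun T g => iff_of_true ⟨g, Category.comp_id g⟩ fun j hj => absurd hj (by simp)⟩
  | insert a s has ih =>
    obtain ⟨Z₁, i₁, _, _, _, _, h₁⟩ := h a (Finset.mem_insert_self a s)
    obtain ⟨Z₂, i₂, _, _, _, _, h₂⟩ := ih fun j hj => h j (Finset.mem_insert_of_mem hj)
    refine ⟨pullback i₁ i₂, pullback.fst i₁ i₂ ≫ i₁, inferInstance, inferInstance, inferInstance, inferInstance,
      fun T g => ?_⟩
    rw [Finset.forall_mem_insert, ← h₁, ← h₂]
    constructor
    · rintro ⟨k, rfl⟩
      exact ⟨⟨k ≫ pullback.fst _ _, by rw [Category.assoc]⟩,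
        ⟨k ≫ pullback.snd _ _, by rw [Category.assoc, pullback.condition]⟩⟩
    · rintro ⟨⟨k₁, hk₁⟩, k₂, hk₂⟩
      exact ⟨pullback.lift k₁ k₂ (hk₁.trans hk₂.symm), by rw [pullback.lift_fst_assoc, hk₁]⟩

/-- Representability near a point after an étale extension. -/
theorem near {A B : Type u} [CommRing A] [CommRing B] [Algebra A B] [Algebra.FinitePresentation A B]
    (N : Type u) [AddCommGroup N] [Module B N] [Module.FinitePresentation B N]
    (hpure : FlatCA.IsPure A B N) (n : ℕ) (hn : C (n + 1) A (B := B) N (𝟙 (Spec (CommRingCat.of A))))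
    (s : Ideal A) [s.IsPrime] :
    ∃ (R : Type u) (_ : CommRing R) (_ : Algebra A R), Algebra.Etale A R ∧
      (⟨s, inferInstance⟩ : PrimeSpectrum A) ∈ Set.range (PrimeSpectrum.comap (algebraMap A R)) ∧ RepOver A B N n R := by
  classical
  letI : Module A N := Module.compHom N (algebraMap A B)
  haveI : IsScalarTower A B N := IsScalarTower.of_algebraMap_smul fun _ _ => rfl
  obtain ⟨A₁, _, _, s₁, _, hnhd, hcov⟩ := PureCover.exists_cover (A := A) (B := B) N s
  haveI := hnhd.1
  haveI := hnhd.2.1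
  let B₁ : Type u := A₁ ⊗[A] B
  haveI : Algebra.IsPushout A B A₁ B₁ := Algebra.IsPushout.symm inferInstance
  let N₁ : Type u := B₁ ⊗[B] N
  let f₁ : N →ₗ[B] N₁ := (TensorProduct.mk B B₁ N) 1
  have hf₁ : IsBaseChange B₁ f₁ := TensorProduct.isBaseChange B N B₁
  haveI : Module.FinitePresentation B₁ N₁ := inferInstance
  obtain ⟨k, Cj, cC, aBC, aAC, tC, Nc, gN, mC, mB, tN, gj, hC, hQ⟩ := hcov B₁ N₁ f₁ hf₁
  haveI : ∀ j, Algebra.Etale B₁ (Cj j) := fun j => (hC j).1
  haveI : ∀ j, Algebra.FinitePresentation A₁ (Cj j) := fun j => Algebra.FinitePresentation.trans A₁ B₁ (Cj j)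
  haveI : ∀ j, Module.FinitePresentation (Cj j) (Nc j) := fun j => Module.FinitePresentation.of_equiv (hC j).2.1.equiv
  -- the union of the images
  let h : ∀ j, Spec (CommRingCat.of (Cj j)) ⟶ Spec (CommRingCat.of B₁) := fun j => str B₁ (Cj j)
  haveI het : ∀ j, Etale (h j) := fun j =>
    (HasRingHomProperty.Spec_iff (P := @Etale)).2 (RingHom.etale_algebraMap.mpr inferInstance)
  let U : (Spec (CommRingCat.of B₁)).Opens := ⟨⋃ j, Set.range (h j), isOpen_iUnion fun j => (h j).isOpenMap.isOpen_range⟩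
  have hUc : IsCompact (U : Set (Spec (CommRingCat.of B₁))) :=
    isCompact_iUnion fun j => isCompact_range (h j).continuous
  have hsU : ∀ z : Spec (CommRingCat.of B₁), (str A₁ B₁ z).asIdeal = s₁ → z ∈ U := fun z hz => by
    haveI : z.asIdeal.IsPrime := z.2
    obtain ⟨j, Q', hQ', hQ'z⟩ := hQ z.asIdeal ⟨hz.symm⟩
    exact Set.mem_iUnion.mpr ⟨j, (⟨Q', hQ'⟩ : PrimeSpectrum (Cj j)), PrimeSpectrum.ext hQ'z⟩
  haveI : IsScalarTower A₁ B₁ N₁ := inferInstance
  have hno : ∀ (t' : Ideal A₁) (P : Ideal B₁) [t'.IsPrime] [P.IsPrime] [P.LiesOver t'], t' ≤ s₁ →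
      FlatCA.fiberIdeal t' P ∈ associatedPrimes (t'.Fiber B₁) (FlatCA.fiberMod t' B₁ N₁) →
        ∃ P' : Ideal B₁, P'.IsPrime ∧ P ≤ P' ∧ P'.LiesOver s₁ := by
    intro t' P _ _ hPt hle hass
    by_contra hc
    exact hpure s A₁ B₁ N₁ f₁ t' s₁ P hnhd ⟨inferInstance, hf₁, hle, hnhd.2.1, hPt, hass,
      fun P' hP' hPP' hP's => hc ⟨P', hP', hPP', hP's⟩⟩
  obtain ⟨g₀, hg₀, hUg⟩ := PureNear.exists_basicOpen N₁ s₁ U hUc hsU hno
  -- the pieces
  have hn₁ : C (n + 1) A₁ (B := B₁) N₁ (𝟙 _) := by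
    rw [C_baseChange (A := A) (B := B) N (n + 1) A₁ B₁ N₁ f₁ hf₁, Category.id_comp]
    have := C.comp (B := B) N (str A A₁) hn
    rwa [Category.comp_id] at this
  let F₁ := tilde (R := CommRingCat.of B₁) (ModuleCat.of B₁ N₁)
  haveI hF₁q : Coh.IsQCoh F₁ := show F₁.IsQuasicoherent from inferInstance
  haveI : F₁.IsQuasicoherent := hF₁q
  have hF₁p : CohB1.IsFP F₁ := (S9827.result (CommRingCat.of B₁) (ModuleCat.of B₁ N₁)).mpr inferInstance
  haveI : SheafOfModules.IsFinitePresentation.{u} F₁ := hF₁p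
  haveI : F₁.IsFiniteType := inferInstance
  have hF₁ : CohB1.IsFT F₁ := ‹F₁.IsFiniteType›
  letI : ∀ j, Module A₁ (Nc j) := fun j => Module.compHom (Nc j) (algebraMap A₁ (Cj j))
  haveI : ∀ j, IsScalarTower A₁ (Cj j) (Nc j) := fun j => IsScalarTower.of_algebraMap_smul fun _ _ => rfl
  have hpiece : ∀ j, ∃ g : A₁, g ∉ s₁ ∧ ∃ (Z : Scheme.{u}) (ι : Z ⟶ Spec (CommRingCat.of A₁)), Mono ι ∧
      LocallyOfFinitePresentation ι ∧ QuasiCompact ι ∧ QuasiSeparated ι ∧
      DimGEModels.Reps A₁ g n (Cj j) (Nc j) (fun A' _ _ => Fac ι A') := by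
    intro j
    obtain ⟨-, hgj, D, hD⟩ := hC j
    refine reps_of_devissage (Nc j) s₁ D hD n ?_
    haveI : Algebra.IsPushout A₁ (Cj j) A₁ (Cj j) := Algebra.IsPushout.symm inferInstance
    rw [bridge (A := A₁) (B := Cj j) (Nc j) (n + 1) A₁ (Cj j) (Nc j) LinearMap.id
      (IsBaseChange.ofEquiv (LinearEquiv.refl (Cj j) (Nc j)))]
    rw [cond_etale N₁ (Nc j) (gj j) hgj]
    refine S9027.result (str A₁ B₁) F₁ hF₁ (h j) (n + 1) _ ?_
    rw [str_self]
    exact hn₁
  choose g hg Z ι hm hl hq hqs hZ using hpiece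
  let gT : A₁ := g₀ * ∏ j, g j
  have hgT : gT ∉ s₁ := fun hmem => ((inferInstance : s₁.IsPrime).mem_or_mem hmem).elim hg₀ fun hp =>
    let ⟨j, _, hj⟩ := (Ideal.IsPrime.prod_mem_iff).mp hp; hg j hj
  let R : Type u := Localization.Away gT
  haveI : Algebra.Etale A₁ R := Algebra.Etale.of_isLocalizationAway gT
  haveI : Algebra.Etale A R := Algebra.Etale.comp A A₁ R
  refine ⟨R, inferInstance, inferInstance, inferInstance, ?_, ?_⟩
  · obtain ⟨q, hq'⟩ : (⟨s₁, inferInstance⟩ : PrimeSpectrum A₁) ∈ Set.range (PrimeSpectrum.comap (algebraMap A₁ R)) := by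
      rw [PrimeSpectrum.localization_away_comap_range R gT]; exact hgT
    refine ⟨q, PrimeSpectrum.ext ?_⟩
    show q.asIdeal.comap (algebraMap A R) = s
    rw [IsScalarTower.algebraMap_eq A A₁ R, ← Ideal.comap_comap,
      show q.asIdeal.comap (algebraMap A₁ R) = s₁ from congrArg PrimeSpectrum.asIdeal hq']
    exact (s₁.over_def s).symm
  rw [← repOver_baseChange (A := A) (B := B) N n A₁ B₁ N₁ f₁ hf₁ R]
  have hu : ∀ (j : Fin k) (A' : Type u) [CommRing A'] [Algebra A₁ A'] [Algebra R A'] [IsScalarTower A₁ R A'],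
      IsUnit (algebraMap A₁ A' (g j)) := by
    intro j A' _ _ _ _
    have : IsUnit (algebraMap A₁ A' gT) := by
      rw [IsScalarTower.algebraMap_apply A₁ R A']
      exact (IsLocalization.Away.algebraMap_isUnit (S := R) gT).map _
    exact isUnit_of_dvd_unit (map_dvd _ ((Finset.dvd_prod_of_mem g (Finset.mem_univ j)).trans (dvd_mul_left _ _))) this
  have hrep : ∀ j, ∃ (Zj : Scheme.{u}) (i : Zj ⟶ Spec (CommRingCat.of R)), Mono i ∧ LocallyOfFinitePresentation i ∧
      QuasiCompact i ∧ QuasiSeparated i ∧ Univ n A₁ (B := Cj j) (Nc j) (str A₁ R) i := by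
    intro j
    haveI := hm j
    haveI := hl j
    haveI := hq j
    haveI := hqs j
    refine ⟨_, pullback.snd (ι j) (str A₁ R), inferInstance, inferInstance, inferInstance, inferInstance,
      univ_of_affine (Nc j) R _ fun A' _ _ _ _ => ?_⟩
    let D' : Type u := A' ⊗[A₁] Cj j
    haveI : Algebra.IsPushout A₁ (Cj j) A' D' := Algebra.IsPushout.symm inferInstance
    let G : Type u := D' ⊗[Cj j] Nc j
    haveI : IsScalarTower A' D' G := inferInstance
    let ψ : Nc j →ₗ[Cj j] G := (TensorProduct.mk (Cj j) D' (Nc j)) 1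
    have hψ : IsBaseChange D' ψ := TensorProduct.isBaseChange (Cj j) (Nc j) D'
    refine ((bridge (A := A₁) (B := Cj j) (Nc j) n A' D' G ψ hψ).symm.trans (hZ j A' D' G ψ hψ (hu j A'))).trans ?_
    have e : str R A' ≫ str A₁ R = str A₁ A' := by
      show Spec.map _ ≫ Spec.map _ = Spec.map _
      rw [← Spec.map_comp, ← CommRingCat.ofHom_comp, ← IsScalarTower.algebraMap_eq]
    exact ⟨fun ⟨l, hlk⟩ => ⟨pullback.lift l (str R A') (hlk.trans e.symm), pullback.lift_snd _ _ _⟩,
      fun ⟨l, hlk⟩ => ⟨l ≫ pullback.fst _ _, by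
        rw [Category.assoc, pullback.condition, ← Category.assoc, hlk]; exact e⟩⟩
  obtain ⟨W, w, h1, h2, h3, h4, h5⟩ := exists_inter
    (fun (j : ULift.{u} (Fin k)) {T} φ => C n A₁ (B := Cj j.down) (Nc j.down) (φ ≫ str A₁ R)) Finset.univ
    fun j _ => hrep j.down
  refine ⟨W, w, h1, h2, h3, h4, fun T φ => (h5 T φ).trans ?_⟩
  constructor
  · intro hall
    refine Cond.of_etale_family F₁ hF₁ (fun j : ULift.{u} (Fin k) => Spec (CommRingCat.of (Cj j.down)))
      (fun j => h j.down) _ (fun x hx hxT => ?_) fun j => ?_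
    · obtain ⟨t, ht⟩ := hxT
      have hgx : gT ∉ (str A₁ B₁ x).asIdeal := by
        rw [← ht]
        have : (str A₁ R) (φ t) ∈ PrimeSpectrum.basicOpen gT := by
          show _ ∈ (PrimeSpectrum.basicOpen gT : Set (PrimeSpectrum A₁))
          rw [← PrimeSpectrum.localization_away_comap_range R gT]
          exact ⟨φ t, rfl⟩
        exact this
      obtain ⟨j, hj⟩ := Set.mem_iUnion.mp (hUg x hx fun hm => hgx (Ideal.mul_mem_right _ _ hm))
      exact ⟨⟨j⟩, hj⟩
    · exact (cond_etale N₁ (Nc j.down) (gj j.down) (hC j.down).2.1 n _).mp (hall j (Finset.mem_univ _))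
  · intro hc j _
    exact (cond_etale N₁ (Nc j.down) (gj j.down) (hC j.down).2.1 n _).mpr
      (S9027.result (str A₁ B₁) F₁ hF₁ (h j.down) n _ hc)

/-- The core. -/
theorem core {A B : Type u} [CommRing A] [CommRing B] [Algebra A B] [Algebra.FinitePresentation A B]
    (N : Type u) [AddCommGroup N] [Module B N] [Module.FinitePresentation B N]
    (hpure : FlatCA.IsPure A B N) (n : ℕ) (hn : C (n + 1) A (B := B) N (𝟙 (Spec (CommRingCat.of A)))) :
    RepOver A B N n A := by
  classical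
  choose R cR aR het hs hrep using fun s : PrimeSpectrum A => near N hpure n hn s.asIdeal
  let O : PrimeSpectrum A → Set (PrimeSpectrum A) := fun s =>
    Set.range (PrimeSpectrum.comap (algebraMap A (R s)))
  have hO : ∀ s, IsOpen (O s) := fun s => by
    haveI := het s
    have := PrimeSpectrum.isOpenMap_comap_of_hasGoingDown_of_finitePresentation (R := A) (S := R s)
    simpa [O, Set.image_univ] using this _ isOpen_univ
  obtain ⟨t, ht⟩ := isCompact_univ.elim_finite_subcover O hO fun s _ => Set.mem_iUnion.mpr ⟨s, hs s⟩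
  haveI : ∀ j : t, Algebra.Etale A (R j) := fun j => het j
  refine repOver_of_etale N n (fun j : t => R j) (fun x => ?_) fun j => hrep j
  obtain ⟨j, hj, hx⟩ := Set.mem_iUnion₂.mp (ht (Set.mem_univ x))
  exact ⟨⟨j, hj⟩, hx⟩

end Groth.Agent.FlatMor62.PureLocal
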