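import Groth.Agent.FlatMor62.PureCond
import Groth.Agent.Wt.RelAssGeneric
import Groth.Agent.RGFlat.ImpurityQF
import Groth.Agent.S1370
import Groth.Agent.AlgSp.FlatMonoDense
import Groth.Agent.S9028
import Groth.Agent.S9027

/-!
# The relative assassin of a pure module near a fibre
-/

set_option autoImplicit false
set_option linter.style.haveILetI false
set_option linter.unusedSectionVars false
set_option backward.isDefEq.respectTransparency false
set_option backward.isDefEq.respectTransparency.types false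

universe u

open CategoryTheory CategoryTheory.Limits AlgebraicGeometry

namespace Groth.Agent.FlatMor62.PureNear

open DimGEScheme PureCond

variable {A D : Type u} [CommRing A] [CommRing D] [Algebra A D] [Algebra.FiniteType A D]
  (G : Type u) [AddCommGroup G] [Module D G] [Module.Finite D G]

/-- Points of the relative assassin give associated primes of the fibre modules. -/
theorem fiberIdeal_mem_ass_of_relAss (t : Ideal A) (P : Ideal D) [t.IsPrime] [P.IsPrime] [P.LiesOver t]
    (z : Spec (CommRingCat.of D)) (hzP : z.asIdeal = P)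
    (hz : z ∈ MoreMor.relAss (str A D) (tilde (R := CommRingCat.of D) (ModuleCat.of D G))) :
    FlatCA.fiberIdeal t P ∈ associatedPrimes (t.Fiber D) (FlatCA.fiberMod t D G) := by
  haveI : z.asIdeal.IsPrime := z.2
  letI : Module A G := Module.compHom G (algebraMap A D)
  haveI : IsScalarTower A D G := IsScalarTower.of_algebraMap_smul fun _ _ => rfl
  let f := str A D
  haveI : (f z).asIdeal.IsPrime := (f z).2
  let M := tilde (R := CommRingCat.of D) (ModuleCat.of D G)
  let N := M.presheaf.stalk z
  let X := Spec (CommRingCat.of D)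
  let γ : D →+* X.presheaf.stalk z :=
    ((Scheme.ΓSpecIso (CommRingCat.of D)).inv ≫ X.presheaf.germ ⊤ z trivial).hom
  letI : Algebra D (X.presheaf.stalk z) := γ.toAlgebra
  haveI : IsLocalization.AtPrime (X.presheaf.stalk z) z.asIdeal := by
    exact StructureSheaf.IsLocalization.to_stalk (CommRingCat.of D) z
  letI : Module D N := Module.compHom N γ
  haveI : IsScalarTower D (X.presheaf.stalk z) N := IsScalarTower.of_algebraMap_smul fun _ _ => rfl
  let eM := Props.QTilde.topEquiv (R := CommRingCat.of D) (ModuleCat.of D G)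
  let eR := Props.QTilde.topRingEquiv (CommRingCat.of D)
  let β : G →ₗ[D] N :=
    { toFun := fun m => PullStalk.Sky.germM M ⊤ z trivial (eM m)
      map_add' := fun m m' => by rw [← AssSch.Stalk.germM_add]; exact congrArg _ (map_add eM m m')
      map_smul' := fun d m => by
        refine Eq.trans (congrArg (PullStalk.Sky.germM M ⊤ z trivial)
          ((eM.map_smul d m).trans (Props.QTilde.topRingEquiv_smul (R := CommRingCat.of D) M d (eM m)).symm)) ?_
        exact PullStalk.Sky.germM_smul M ⊤ z trivial (eR d) (eM m) }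
  have hunit : ∀ d : D, eR d ∉ AssSch.Stalk.primeOf (isAffineOpen_top X) z trivial ↔ d ∉ z.asIdeal := fun d => by
    rw [← AssSch.Stalk.isUnit_germ_iff (isAffineOpen_top X) z trivial]
    exact IsLocalization.AtPrime.isUnit_to_map_iff (X.presheaf.stalk z) z.asIdeal d
  haveI : IsLocalizedModule z.asIdeal.primeCompl β := by
    refine ⟨fun d => ?_, fun n => ?_, fun {m m'} hm => ?_⟩
    · obtain ⟨v, hv⟩ := IsLocalization.map_units (X.presheaf.stalk z) d
      have e : ∀ n : N, algebraMap D (Module.End D N) (d : D) n = (v : X.presheaf.stalk z) • n :=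
        fun n => congrArg (· • n) hv.symm
      rw [Module.End.isUnit_iff]
      refine ⟨fun a b hab => ?_, fun n => ⟨(↑v⁻¹ : X.presheaf.stalk z) • n, ?_⟩⟩
      · rw [e, e] at hab
        simpa [smul_smul] using congrArg ((↑v⁻¹ : X.presheaf.stalk z) • ·) hab
      · rw [e, smul_smul, Units.mul_inv, one_smul]
    · obtain ⟨g, s, hg, hs⟩ := AssSch.Stalk.exists_germ_smul_eq M (isAffineOpen_top X) z trivial n
      refine ⟨⟨eM.symm s, ⟨eR.symm g, (hunit _).mp (by rwa [eR.apply_symm_apply])⟩⟩, ?_⟩
      show γ (eR.symm g) • n = PullStalk.Sky.germM M ⊤ z trivial (eM (eM.symm s))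
      rw [eM.apply_symm_apply, ← hs]
      exact congrArg (· • n) (congrArg (X.presheaf.germ ⊤ z trivial) (eR.apply_symm_apply g))
    · obtain ⟨g, hg, hgs⟩ := (AssSch.Stalk.germM_eq_zero_iff M (isAffineOpen_top X) z trivial (eM m - eM m')).mp
        ((map_sub _ _ _).trans (sub_eq_zero.mpr hm))
      refine ⟨⟨eR.symm g, (hunit _).mp (by rwa [eR.apply_symm_apply])⟩, ?_⟩
      show eR.symm g • m = eR.symm g • m'
      refine eM.injective ((eM.map_smul (eR.symm g) m).trans ?_)
      refine ((Props.QTilde.topRingEquiv_smul (R := CommRingCat.of D) M (eR.symm g) (eM m)).symm.trans ?_).trans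
        ((Props.QTilde.topRingEquiv_smul (R := CommRingCat.of D) M (eR.symm g) (eM m')).trans (eM.map_smul (eR.symm g) m').symm)
      show eR (eR.symm g) • eM m = eR (eR.symm g) • eM m'
      rw [eR.apply_symm_apply]
      exact sub_eq_zero.mp ((smul_sub _ _ _).symm.trans hgs)
  letI : Algebra A ((Spec (CommRingCat.of A)).presheaf.stalk (f z)) :=
    (((Scheme.ΓSpecIso (CommRingCat.of A)).inv ≫ (Spec (CommRingCat.of A)).presheaf.germ ⊤ (f z) trivial).hom).toAlgebra
  haveI : IsLocalization.AtPrime ((Spec (CommRingCat.of A)).presheaf.stalk (f z)) (f z).asIdeal := by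
    exact StructureSheaf.IsLocalization.to_stalk (CommRingCat.of A) (f z)
  have ht : (f z).asIdeal = t := by
    show z.asIdeal.comap (algebraMap A D) = t
    rw [hzP]
    exact (P.over_def t).symm
  have hmax : (IsLocalRing.maximalIdeal ((Spec (CommRingCat.of A)).presheaf.stalk (f z))).map (f.stalkMap z).hom =
      (t.map (algebraMap A D)).map (algebraMap D (X.presheaf.stalk z)) := by
    rw [← IsLocalization.AtPrime.map_eq_maximalIdeal (f z).asIdeal
      ((Spec (CommRingCat.of A)).presheaf.stalk (f z)), Ideal.map_map, Ideal.map_map, ht]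
    congr 1
    refine RingHom.ext fun a => ?_
    show (f.stalkMap z).hom ((Spec (CommRingCat.of A)).presheaf.germ ⊤ (f z) trivial
      ((Scheme.ΓSpecIso (CommRingCat.of A)).inv a)) = γ (algebraMap A D a)
    refine (Scheme.Hom.germ_stalkMap_apply f ⊤ z trivial _).trans ?_
    exact congrArg _ (congr($(Scheme.ΓSpecIso_inv_naturality (CommRingCat.ofHom (algebraMap A D))) a)).symm
  have h : IsAssociatedPrime (IsLocalRing.maximalIdeal (X.presheaf.stalk z))
      (N ⧸ ((IsLocalRing.maximalIdeal ((Spec (CommRingCat.of A)).presheaf.stalk (f z))).map (f.stalkMap z).hom •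
        (⊤ : Submodule (X.presheaf.stalk z) N))) := hz
  rw [hmax] at h
  obtain ⟨m, hm⟩ := (Wt.RelAssRing.isAssociatedPrime_localized_iff z.asIdeal β _).mp h
  refine RGFlat.Impurity.fiberIdeal_mem_ass t P m ?_
  rw [← hzP]
  exact hm

omit [Module.Finite D G] in
variable [Algebra.FinitePresentation A D] [Module.FinitePresentation D G] in
/-- A pure module has its relative assassin near `s` in any quasi-compact open containing the fibre at `s`. -/
theorem exists_basicOpen (s : Ideal A) [s.IsPrime] (U : (Spec (CommRingCat.of D)).Opens)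
    (hU : IsCompact (U : Set (Spec (CommRingCat.of D))))
    (hsU : ∀ z : Spec (CommRingCat.of D), (str A D z).asIdeal = s → z ∈ U)
    (hno : ∀ (t' : Ideal A) (P : Ideal D) [t'.IsPrime] [P.IsPrime] [P.LiesOver t'], t' ≤ s →
      FlatCA.fiberIdeal t' P ∈ associatedPrimes (t'.Fiber D) (FlatCA.fiberMod t' D G) →
        ∃ P' : Ideal D, P'.IsPrime ∧ P ≤ P' ∧ P'.LiesOver s) :
    ∃ g ∉ s, ∀ z ∈ MoreMor.relAss (str A D) (tilde (R := CommRingCat.of D) (ModuleCat.of D G)),
      g ∉ (str A D z).asIdeal → z ∈ U := by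
  classical
  let f := str A D
  let F := tilde (R := CommRingCat.of D) (ModuleCat.of D G)
  have hFq : Coh.IsQCoh F := show F.IsQuasicoherent from inferInstance
  have hFp : CohB1.IsFP F := (S9827.result (CommRingCat.of D) (ModuleCat.of D G)).mpr inferInstance
  haveI : LocallyOfFinitePresentation f :=
    (HasRingHomProperty.Spec_iff (P := @LocallyOfFinitePresentation)).2 (RingHom.finitePresentation_algebraMap.mpr inferInstance)
  haveI : CompactSpace (U : Scheme.{u}) := isCompact_iff_compactSpace.1 hU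
  haveI : QuasiCompact (U.ι ≫ f) := quasiCompact_of_compactSpace _
  let E : Set (PrimeSpectrum A) := {y | ∀ x ∈ MoreMor.relAss f F, f x = y → x ∈ U}
  have hE : Topology.IsConstructible E :=
    (S1370.result f F hFq hFp U).isConstructible
  have hs : (⟨s, inferInstance⟩ : PrimeSpectrum A) ∉ closure Eᶜ := by
    refine AlgSp.FlatMonoDense.not_mem_closure (Topology.isConstructible_compl.2 hE) fun q hq hqE => hqE ?_
    intro x hx hxq
    haveI : x.asIdeal.IsPrime := x.2
    have hq' : x.asIdeal.comap (algebraMap A D) = q.asIdeal := congrArg PrimeSpectrum.asIdeal hxq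
    haveI : x.asIdeal.LiesOver q.asIdeal := ⟨hq'.symm⟩
    obtain ⟨P', hP', hle, hP's⟩ := hno q.asIdeal x.asIdeal hq
      (fiberIdeal_mem_ass_of_relAss G q.asIdeal x.asIdeal x rfl hx)
    exact ((PrimeSpectrum.le_iff_specializes (R := D) x ⟨P', hP'⟩).mp hle).mem_open U.2
      (hsU ⟨P', hP'⟩ hP's.over.symm)
  obtain ⟨_, ⟨g, rfl⟩, hg, hsub⟩ := PrimeSpectrum.isTopologicalBasis_basic_opens.exists_subset_of_mem_open
    hs isClosed_closure.isOpen_compl
  refine ⟨g, hg, fun z hz hgz => ?_⟩
  have : f z ∈ E := by_contra fun h => hsub hgz (subset_closure h)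
  exact this z hz rfl

end Groth.Agent.FlatMor62.PureNear

namespace Groth.Agent.FlatMor62.PureCond

open DimGEScheme

variable {X S : Scheme.{u}} {f : X ⟶ S} {n : ℕ}

/-- The condition depends on the module up to isomorphism. -/
theorem Cond.congr {F F' : X.Modules} (e : F ≅ F') {T : Over S} (h : Cond f F n T) : Cond f F' n T :=
  fun z hz => h z fun hfl => hz (Fibres16.LimCrit.isFlatOverAt_of_iso _ ((Scheme.Modules.pullback _).mapIso e) z hfl)

/-- A generalisation of `S9028` to a family. -/
theorem Cond.of_etale_family [LocallyOfFiniteType f] (F : X.Modules) [Coh.IsQCoh F] (hF : CohB1.IsFT F)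
    {ι : Type u} (X' : ι → Scheme.{u}) (h : ∀ i, X' i ⟶ X) [∀ i, Etale (h i)] (T : Over S)
    (hAss : ∀ x ∈ MoreMor.relAss f F, f x ∈ Set.range T.hom → ∃ i, x ∈ Set.range (h i))
    (hT : ∀ i, Cond (h i ≫ f) ((Scheme.Modules.pullback (h i)).obj F) n T) : Cond f F n T := by
  haveI : F.IsQuasicoherent := ‹Coh.IsQCoh F›
  haveI : SheafOfModules.IsFiniteType.{u} F := hF
  have hFT : CohB1.IsFT (FGA.ET f F T) := FittLib.isFiniteType_pullback F _
  intro y hy
  obtain ⟨y', hy'y, hfy', hass, hnf⟩ := RelAssFlat.exists_relAss_not_flat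
    (PicF.XTproj f T) (FGA.ET f F T) hFT y hy
  have hrel := ((S9780.relAss_iff f F ‹Coh.IsQCoh F› T.hom (pullback.snd f T.hom) (pullback.fst f T.hom)
    (IsPullback.of_hasPullback f T.hom) y').1 hass).1
  obtain ⟨i, a, ha⟩ := hAss _ hrel ⟨pullback.snd f T.hom y', by
    rw [← Scheme.Hom.comp_apply, ← Scheme.Hom.comp_apply, pullback.condition]⟩
  let k : pullback (h i ≫ f) T.hom ⟶ pullback f T.hom :=
    pullback.map (h i ≫ f) T.hom f T.hom (h i) (𝟙 _) (𝟙 _) (by simp) (by simp)
  have hk₁ : k ≫ pullback.fst f T.hom = pullback.fst (h i ≫ f) T.hom ≫ h i := pullback.lift_fst _ _ _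
  have hk₂ : k ≫ pullback.snd f T.hom = pullback.snd (h i ≫ f) T.hom :=
    (pullback.lift_snd _ _ _).trans (Category.comp_id _)
  have sq : IsPullback (pullback.fst (h i ≫ f) T.hom) k (h i) (pullback.fst f T.hom) := by
    refine IsPullback.of_bot ?_ hk₁.symm (IsPullback.of_hasPullback f T.hom)
    rw [hk₂]
    exact IsPullback.of_hasPullback (h i ≫ f) T.hom
  haveI : Etale k := MorphismProperty.of_isPullback sq inferInstance
  obtain ⟨z, -, hz⟩ := Scheme.exists_preimage_of_isPullback sq a y' ha
  subst hz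
  have hnf' : ¬ FlatMod.IsFlatOverAt (PicF.XTproj (h i ≫ f) T)
      (FGA.ET (h i ≫ f) ((Scheme.Modules.pullback (h i)).obj F) T) z := by
    intro hz
    refine hnf ((S9350.result k (PicF.XTproj f T) (FGA.ET f F T) inferInstance z (Flat.stalkMap k z)).mpr ?_)
    have e : (Scheme.Modules.pullback k).obj (FGA.ET f F T) ≅ FGA.ET (h i ≫ f) ((Scheme.Modules.pullback (h i)).obj F) T :=
      (Scheme.Modules.pullbackComp k (pullback.fst f T.hom)).app F ≪≫ (Scheme.Modules.pullbackCongr hk₁).app F ≪≫
        ((Scheme.Modules.pullbackComp (pullback.fst (h i ≫ f) T.hom) (h i)).app F).symm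
    rw [show k ≫ PicF.XTproj f T = PicF.XTproj (h i ≫ f) T from hk₂]
    exact S17417.isFlatOverAt_of_iso _ e.symm z hz
  have hlt : Dual3.resTrdeg (PicF.XTproj (h i ≫ f) T) z < (n : Cardinal.{u}) := hT i z hnf'
  rw [← show k ≫ PicF.XTproj f T = PicF.XTproj (h i ≫ f) T from hk₂] at hlt
  have h1 := (S9028.resTrdeg_comp_le k (PicF.XTproj f T) z).trans_lt hlt
  show Dual3.resTrdeg (PicF.XTproj f T) y < (n : Cardinal.{u})
  rcases eq_or_ne (k z) y with heq | hne
  · rwa [← heq]
  · exact lt_trans (S9381.result (PicF.XTproj f T) (k z) y hy'y hne hfy') h1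

end Groth.Agent.FlatMor62.PureCond
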