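import Groth.Agent.FlatMor62.PureLocal
import Mathlib.AlgebraicGeometry.Morphisms.Proper

/-!
# Flattening monomorphisms for proper morphisms
-/

set_option autoImplicit false
set_option linter.style.haveILetI false
set_option linter.unusedSectionVars false
set_option backward.isDefEq.respectTransparency false
set_option backward.isDefEq.respectTransparency.types false

universe u

open CategoryTheory CategoryTheory.Limits AlgebraicGeometry
open scoped TensorProduct

namespace Groth.Agent.FlatMor62.PureProper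

open DimGEScheme PureCond DimGETop PureRep PureGlue

attribute [local instance] Algebra.TensorProduct.rightAlgebra

variable {A B : Type u} [CommRing A] [CommRing B] [Algebra A B] [Algebra.FinitePresentation A B]
  (N : Type u) [AddCommGroup N] [Module B N]

/-- From `n + 1` to `n`. -/
theorem step (n : ℕ) [Module.FinitePresentation B N]
    (hcore : ∀ (R : Type u) [CommRing R] [Algebra A R] [Algebra.FinitePresentation A R],
      C (n + 1) A (B := B) N (str A R) → RepOver A B N n R)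
    (h : RepOver A B N (n + 1) A) :
    RepOver A B N n A := by
  classical
  obtain ⟨Z', i', hm, hlfp, hqc, hqs, huniv⟩ := h
  haveI := hm
  haveI := hlfp
  haveI := hqc
  haveI := hqs
  have hCn : ∀ {T : Scheme.{u}} (g : T ⟶ Z'), C (n + 1) A (B := B) N (g ≫ i') := fun g => by
    have := (huniv _ (g ≫ i')).1 ⟨g, rfl⟩
    rwa [str_self, Category.comp_id] at this
  have hloc : ∀ V : Z'.affineOpens, ∃ (W : Scheme.{u}) (w : W ⟶ V.1.toScheme), Mono w ∧
      LocallyOfFinitePresentation w ∧ QuasiCompact w ∧ QuasiSeparated w ∧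
      ∀ (T : Scheme.{u}) (φ : T ⟶ V.1.toScheme), (∃ h, h ≫ w = φ) ↔ C n A (B := B) N ((φ ≫ V.1.ι) ≫ i') := by
    intro V
    let p₀ : Spec Γ(Z', V.1) ⟶ Spec (CommRingCat.of A) := V.2.fromSpec ≫ i'
    obtain ⟨ψ, hψ⟩ := Spec.map_surjective p₀
    letI : Algebra A Γ(Z', V.1) := ψ.hom.toAlgebra
    let R : Type u := Γ(Z', V.1)
    have hstr : str A R = p₀ := hψ
    haveI : LocallyOfFinitePresentation (str A R) := by rw [hstr]; infer_instance
    haveI : Mono (str A R) := by rw [hstr]; infer_instance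
    haveI : Algebra.FinitePresentation A R :=
      RingHom.finitePresentation_algebraMap.mp ((HasRingHomProperty.Spec_iff (P := @LocallyOfFinitePresentation)).1 inferInstance)
    let BR : Type u := R ⊗[A] B
    haveI : Algebra.IsPushout A B R BR := Algebra.IsPushout.symm inferInstance
    haveI : IsScalarTower A B BR := inferInstance
    let NR : Type u := BR ⊗[B] N
    let fR : N →ₗ[B] NR := (TensorProduct.mk B BR N) 1
    have hfR : IsBaseChange BR fR := TensorProduct.isBaseChange B N BR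
    haveI : Algebra.FinitePresentation R BR := inferInstance
    haveI : Module.FinitePresentation BR NR := inferInstance
    have hC1 : C (n + 1) A (B := B) N (str A R) := by
      rw [hstr]
      exact hCn V.2.fromSpec
    obtain ⟨W, j, hjm, hjl, hjq, hjs, hju⟩ := hcore R hC1
    haveI := hjm
    haveI := hjl
    haveI := hjq
    haveI := hjs
    refine ⟨W, j ≫ V.2.isoSpec.inv, inferInstance, inferInstance, inferInstance, inferInstance, fun T φ => ?_⟩
    have hj := hju T (φ ≫ V.2.isoSpec.hom)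
    rw [hstr] at hj
    have e : (φ ≫ V.2.isoSpec.hom) ≫ p₀ = (φ ≫ V.1.ι) ≫ i' := by
      show (φ ≫ V.2.isoSpec.hom) ≫ (V.2.isoSpec.inv ≫ V.1.ι) ≫ i' = _
      simp
    rw [e] at hj
    rw [← hj]
    exact exists_congr fun h => by rw [← Category.assoc, Iso.comp_inv_eq]
  choose W w hwm hwl hwq hws hw using hloc
  haveI := hwm
  obtain ⟨Z, i, hi, hiu, hprop⟩ := BigVol.HilbGlue.exists_of_local (fun {T} g => C n A (B := B) N (g ≫ i'))
    (fun a g hg => by rw [Category.assoc]; exact C.comp N a hg)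
    (fun g hg => C.of_local N _ fun t => by
      obtain ⟨T', a, ha, hta, hc⟩ := hg t
      exact ⟨T', a, ha, hta, by rwa [← Category.assoc]⟩) W w hw
  haveI := hi
  haveI : LocallyOfFinitePresentation i := hprop @LocallyOfFinitePresentation hwl
  haveI : QuasiCompact i := hprop @QuasiCompact hwq
  haveI : QuasiSeparated i := hprop @QuasiSeparated hws
  refine ⟨Z, i ≫ i', inferInstance, inferInstance, inferInstance, inferInstance, fun T g => ?_⟩
  rw [str_self, Category.comp_id]
  constructor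
  · rintro ⟨h, rfl⟩
    rw [← Category.assoc]
    exact (hiu T (h ≫ i)).1 ⟨h, rfl⟩
  · intro hg
    have h1 : C (n + 1) A (B := B) N g := fun x hx => lt_of_lt_of_le (hg x hx) (by exact_mod_cast n.le_succ)
    obtain ⟨k, rfl⟩ := (huniv T g).2 (by rwa [str_self, Category.comp_id])
    obtain ⟨h, hh⟩ := (hiu T k).2 hg
    exact ⟨h, by rw [← Category.assoc, hh]⟩

/-- A chart of the base change. -/
theorem chart {X : Scheme.{u}} (f : X ⟶ Spec (CommRingCat.of A)) (F : X.Modules) (hF : CohB1.IsFP F)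
    (π : Spec (CommRingCat.of B) ⟶ X) [Etale π] [Surjective π] (hπ : π ≫ f = str A B)
    (eN : (Scheme.Modules.pullback π).obj F ≅ tilde (R := CommRingCat.of B) (ModuleCat.of B N))
    (A₁ B₁ N₁ : Type u) [CommRing A₁] [CommRing B₁] [Algebra A A₁] [Algebra B B₁] [Algebra A₁ B₁] [Algebra A B₁]
    [IsScalarTower A B B₁] [IsScalarTower A A₁ B₁] [Algebra.IsPushout A B A₁ B₁]
    [AddCommGroup N₁] [Module B₁ N₁] [Module B N₁] [IsScalarTower B B₁ N₁] (f₁ : N →ₗ[B] N₁) (hf₁ : IsBaseChange B₁ f₁) :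
    ∃ π₁ : Spec (CommRingCat.of B₁) ⟶ pullback f (str A A₁), Etale π₁ ∧ Surjective π₁ ∧
      π₁ ≫ pullback.snd f (str A A₁) = str A₁ B₁ ∧
      Nonempty ((Scheme.Modules.pullback π₁).obj ((Scheme.Modules.pullback (pullback.fst f (str A A₁))).obj F) ≅
        tilde (R := CommRingCat.of B₁) (ModuleCat.of B₁ N₁)) := by
  let f₁' := pullback.snd f (str A A₁)
  haveI : F.IsQuasicoherent := by
    haveI : SheafOfModules.IsFinitePresentation.{u} F := hF
    infer_instance
  have hpb : IsPullback (str B B₁) (str A₁ B₁) (π ≫ f) (str A A₁) := by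
    rw [hπ]
    exact isPullback_SpecMap_of_isPushout _ _ _ _ (CommRingCat.isPushout_of_isPushout A B A₁ B₁)
  let π₁ : Spec (CommRingCat.of B₁) ⟶ pullback f (str A A₁) :=
    pullback.lift (str B B₁ ≫ π) (str A₁ B₁) (by rw [Category.assoc]; exact hpb.w)
  have hπ₁f : π₁ ≫ f₁' = str A₁ B₁ := pullback.lift_snd _ _ _
  have hπ₁g : π₁ ≫ pullback.fst f (str A A₁) = str B B₁ ≫ π := pullback.lift_fst _ _ _
  have hsq : IsPullback (str B B₁) π₁ π (pullback.fst f (str A A₁)) := by
    refine IsPullback.of_bot ?_ hπ₁g.symm (IsPullback.of_hasPullback f (str A A₁))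
    rw [hπ₁f]
    exact hpb
  haveI : Etale π₁ := MorphismProperty.of_isPullback hsq ‹Etale π›
  haveI : Surjective π₁ := MorphismProperty.of_isPullback hsq ‹Surjective π›
  let F₁' := (Scheme.Modules.pullback (pullback.fst f (str A A₁))).obj F
  have hF₁'p : CohB1.IsFP F₁' := (ConsPairLib.isFP_pullback _ F hF).2
  haveI hF₁'q : Coh.IsQCoh F₁' := show F₁'.IsQuasicoherent from inferInstance
  haveI : F₁'.IsQuasicoherent := hF₁'q
  have hF₁'t : CohB1.IsFT F₁' := by
    haveI : SheafOfModules.IsFinitePresentation.{u} F₁' := hF₁'p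
    exact (inferInstance : F₁'.IsFiniteType)
  have heN₁ : Nonempty ((Scheme.Modules.pullback (str B B₁)).obj (tilde (R := CommRingCat.of B) (ModuleCat.of B N)) ≅
      tilde (R := CommRingCat.of B₁) (ModuleCat.of B₁ N₁)) := by
    refine FlatMor.PullTilde.nonempty_pullback_tilde (CommRingCat.ofHom (algebraMap B B₁)) (ModuleCat.of B N) _ ?_
    have halg : (CommRingCat.ofHom (algebraMap B B₁)).hom.toAlgebra = (inferInstance : Algebra B B₁) :=
      Algebra.algebra_ext _ _ fun _ => rfl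
    dsimp only
    rw [halg]
    exact hf₁.equiv.trans (Props.QTilde.topEquiv (R := CommRingCat.of B₁) (ModuleCat.of B₁ N₁))
  obtain ⟨eN₁⟩ := heN₁
  let eF₁ : (Scheme.Modules.pullback π₁).obj F₁' ≅ tilde (R := CommRingCat.of B₁) (ModuleCat.of B₁ N₁) :=
    (Scheme.Modules.pullbackComp π₁ (pullback.fst f (str A A₁))).app F ≪≫ (Scheme.Modules.pullbackCongr hπ₁g).app F ≪≫
      ((Scheme.Modules.pullbackComp (str B B₁) π).app F).symm ≪≫ (Scheme.Modules.pullback (str B B₁)).mapIso eN ≪≫ eN₁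
  exact ⟨π₁, inferInstance, inferInstance, hπ₁f, ⟨eF₁⟩⟩

/-- The neighbourhood of `s₁` in the base over which the relative assassin lies in the image of `U`. -/
theorem exists_nbhd {A₁ B₁ : Type u} [CommRing A₁] [CommRing B₁] [Algebra A₁ B₁] {X₁ : Scheme.{u}}
    (f₁' : X₁ ⟶ Spec (CommRingCat.of A₁)) [IsProper f₁'] [LocallyOfFinitePresentation f₁'] (F₁' : X₁.Modules)
    (hF₁'q : Coh.IsQCoh F₁') (hF₁'p : CohB1.IsFP F₁')
    (π₁ : Spec (CommRingCat.of B₁) ⟶ X₁) [Etale π₁] [Surjective π₁] (hπ₁f : π₁ ≫ f₁' = str A₁ B₁)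
    (s₁ : Ideal A₁) [s₁.IsPrime] (U : (Spec (CommRingCat.of B₁)).Opens)
    (hUc : IsCompact (U : Set (Spec (CommRingCat.of B₁))))
    (hsU : ∀ z : Spec (CommRingCat.of B₁), (str A₁ B₁ z).asIdeal = s₁ → z ∈ U) :
    ∃ g₀ ∉ s₁, ∀ x ∈ MoreMor.relAss f₁' F₁', g₀ ∉ (f₁' x).asIdeal → x ∈ π₁ '' (U : Set _) := by
  classical
  let U₁ : X₁.Opens := ⟨π₁ '' (U : Set _), π₁.isOpenMap _ U.2⟩
  have hU₁c : IsCompact (U₁ : Set ↑X₁) := hUc.image π₁.continuous
  haveI : CompactSpace (U₁ : Scheme.{u}) := isCompact_iff_compactSpace.1 hU₁c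
  haveI : QuasiCompact (U₁.ι ≫ f₁') := quasiCompact_of_compactSpace _
  let E : Set (PrimeSpectrum A₁) := {y | ∀ x ∈ MoreMor.relAss f₁' F₁', f₁' x = y → x ∈ U₁}
  have hE : Topology.IsConstructible E := (S1370.result f₁' F₁' hF₁'q hF₁'p U₁).isConstructible
  have hs : (⟨s₁, inferInstance⟩ : PrimeSpectrum A₁) ∉ closure Eᶜ := by
    refine AlgSp.FlatMonoDense.not_mem_closure (Topology.isConstructible_compl.2 hE) fun q hq hqE => hqE ?_
    intro x _ hxq
    have hsp : f₁' x ⤳ (⟨s₁, inferInstance⟩ : PrimeSpectrum A₁) := by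
      rw [hxq]
      exact (PrimeSpectrum.le_iff_specializes (R := A₁) q ⟨s₁, inferInstance⟩).mp hq
    obtain ⟨x', hxx', hx'⟩ := f₁'.isClosedMap.specializingMap hsp
    obtain ⟨z, rfl⟩ := π₁.surjective x'
    refine hxx'.mem_open U₁.2 ⟨z, hsU z ?_, rfl⟩
    rw [← hπ₁f, Scheme.Hom.comp_apply, hx']
  obtain ⟨_, ⟨g₀, rfl⟩, hg₀, hsub⟩ := PrimeSpectrum.isTopologicalBasis_basic_opens.exists_subset_of_mem_open
    hs isClosed_closure.isOpen_compl
  have hUg : ∀ x ∈ MoreMor.relAss f₁' F₁', g₀ ∉ (f₁' x).asIdeal → x ∈ U₁ := fun x hx hgx => by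
    have : f₁' x ∈ E := by_contra fun h => hsub hgx (subset_closure h)
    exact this x hx rfl
  exact ⟨g₀, hg₀, hUg⟩

/-- Representability over a principal open of an étale neighbourhood with dévissages. -/
theorem local_rep {A₁ B₁ : Type u} [CommRing A₁] [CommRing B₁] [Algebra A₁ B₁] [Algebra.FinitePresentation A₁ B₁]
    (N₁ : Type u) [AddCommGroup N₁] [Module B₁ N₁] [Module.FinitePresentation B₁ N₁] {X₁ : Scheme.{u}}
    (f₁' : X₁ ⟶ Spec (CommRingCat.of A₁)) [IsProper f₁'] [LocallyOfFinitePresentation f₁'] (F₁' : X₁.Modules)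
    (hF₁'p : CohB1.IsFP F₁')
    (π₁ : Spec (CommRingCat.of B₁) ⟶ X₁) [Etale π₁] [Surjective π₁] (hπ₁f : π₁ ≫ f₁' = str A₁ B₁)
    (eF₁ : (Scheme.Modules.pullback π₁).obj F₁' ≅ tilde (R := CommRingCat.of B₁) (ModuleCat.of B₁ N₁))
    (n : ℕ) (hn₁ : C (n + 1) A₁ (B := B₁) N₁ (𝟙 (Spec (CommRingCat.of A₁)))) (s₁ : Ideal A₁) [s₁.IsPrime]
    (k : ℕ) (Cj : Fin k → Type u) [∀ j, CommRing (Cj j)] [∀ j, Algebra B₁ (Cj j)] [∀ j, Algebra A₁ (Cj j)]
    [∀ j, IsScalarTower A₁ B₁ (Cj j)]
    (Nc : Fin k → Type u) [∀ j, AddCommGroup (Nc j)] [∀ j, Module (Cj j) (Nc j)] [∀ j, Module B₁ (Nc j)]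
    [∀ j, IsScalarTower B₁ (Cj j) (Nc j)] (gj : ∀ j, N₁ →ₗ[B₁] Nc j)
    (hC : ∀ j, Algebra.Etale B₁ (Cj j) ∧ IsBaseChange (Cj j) (gj j) ∧
      ∃ D : FlatCA.CompleteDevissage A₁ (Cj j) (Nc j) s₁, ∀ l, l < D.n → ∃ e, FlatCA.SmoothRelDim e A₁ (D.B l))
    (hQ : ∀ (Q : Ideal B₁) [Q.IsPrime], Q.LiesOver s₁ →
      ∃ (j : Fin k) (Q' : Ideal (Cj j)), Q'.IsPrime ∧ Q'.comap (algebraMap B₁ (Cj j)) = Q) :
    ∃ gT ∉ s₁, RepOver A₁ B₁ N₁ n (Localization.Away (gT : A₁)) := by
  classical
  haveI : ∀ j, Algebra.Etale B₁ (Cj j) := fun j => (hC j).1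
  haveI : ∀ j, Algebra.FinitePresentation A₁ (Cj j) := fun j => Algebra.FinitePresentation.trans A₁ B₁ (Cj j)
  haveI : ∀ j, Module.FinitePresentation (Cj j) (Nc j) := fun j => Module.FinitePresentation.of_equiv (hC j).2.1.equiv
  -- the union of the images
  let h : ∀ j, Spec (CommRingCat.of (Cj j)) ⟶ Spec (CommRingCat.of B₁) := fun j => str B₁ (Cj j)
  haveI het : ∀ j, Etale (h j) := fun j =>
    (HasRingHomProperty.Spec_iff (P := @Etale)).2 (RingHom.etale_algebraMap.mpr inferInstance)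
  let U : (Spec (CommRingCat.of B₁)).Opens := ⟨⋃ j, Set.range (h j), isOpen_iUnion fun j => (h j).isOpenMap.isOpen_range⟩
  have hUc : IsCompact (U : Set (Spec (CommRingCat.of B₁))) :=
    isCompact_iUnion fun j => isCompact_range (h j).continuous
  have hsU : ∀ z : Spec (CommRingCat.of B₁), (str A₁ B₁ z).asIdeal = s₁ → z ∈ U := fun z hz => by
    haveI : z.asIdeal.IsPrime := z.2
    obtain ⟨j, Q', hQ', hQ'z⟩ := hQ z.asIdeal ⟨hz.symm⟩
    exact Set.mem_iUnion.mpr ⟨j, (⟨Q', hQ'⟩ : PrimeSpectrum (Cj j)), PrimeSpectrum.ext hQ'z⟩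
  haveI hF₁'q : Coh.IsQCoh F₁' := by
    haveI : SheafOfModules.IsFinitePresentation.{u} F₁' := hF₁'p
    exact (inferInstance : F₁'.IsQuasicoherent)
  haveI : F₁'.IsQuasicoherent := hF₁'q
  have hF₁'t : CohB1.IsFT F₁' := by
    haveI : SheafOfModules.IsFinitePresentation.{u} F₁' := hF₁'p
    exact (inferInstance : F₁'.IsFiniteType)
  obtain ⟨g₀, hg₀, hUg⟩ := exists_nbhd f₁' F₁' hF₁'q hF₁'p π₁ hπ₁f s₁ U hUc hsU
  let F₁ := tilde (R := CommRingCat.of B₁) (ModuleCat.of B₁ N₁)
  haveI hF₁q : Coh.IsQCoh F₁ := show F₁.IsQuasicoherent from inferInstance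
  haveI : F₁.IsQuasicoherent := hF₁q
  have hF₁p : CohB1.IsFP F₁ := (S9827.result (CommRingCat.of B₁) (ModuleCat.of B₁ N₁)).mpr inferInstance
  haveI : SheafOfModules.IsFinitePresentation.{u} F₁ := hF₁p
  haveI : F₁.IsFiniteType := inferInstance
  have hF₁ : CohB1.IsFT F₁ := ‹F₁.IsFiniteType›
  letI : ∀ j, Module A₁ (Nc j) := fun j => Module.compHom (Nc j) (algebraMap A₁ (Cj j))
  haveI : ∀ j, IsScalarTower A₁ (Cj j) (Nc j) := fun j => IsScalarTower.of_algebraMap_smul fun _ _ => rfl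
  have hpiece : ∀ j, ∃ g : A₁, g ∉ s₁ ∧ ∃ (Z : Scheme.{u}) (ι : Z ⟶ Spec (CommRingCat.of A₁)), Mono ι ∧
      LocallyOfFinitePresentation ι ∧ QuasiCompact ι ∧ QuasiSeparated ι ∧
      DimGEModels.Reps A₁ g n (Cj j) (Nc j) (fun A' _ _ => Fac ι A') := by
    intro j
    obtain ⟨-, hgj, D, hD⟩ := hC j
    refine PureLocal.reps_of_devissage (Nc j) s₁ D hD n ?_
    haveI : Algebra.IsPushout A₁ (Cj j) A₁ (Cj j) := Algebra.IsPushout.symm inferInstance
    rw [bridge (A := A₁) (B := Cj j) (Nc j) (n + 1) A₁ (Cj j) (Nc j) LinearMap.id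
      (IsBaseChange.ofEquiv (LinearEquiv.refl (Cj j) (Nc j)))]
    rw [PureLocal.cond_etale N₁ (Nc j) (gj j) hgj]
    refine S9027.result (str A₁ B₁) F₁ hF₁ (h j) (n + 1) _ ?_
    rw [str_self]
    exact hn₁
  choose g hg Z ι hm hl hq hqs hZ using hpiece
  let gT : A₁ := g₀ * ∏ j, g j
  have hgT : gT ∉ s₁ := fun hmem => ((inferInstance : s₁.IsPrime).mem_or_mem hmem).elim hg₀ fun hp =>
    let ⟨j, _, hj⟩ := (Ideal.IsPrime.prod_mem_iff).mp hp; hg j hj
  let R' : Type u := Localization.Away gT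
  haveI : Algebra.Etale A₁ R' := Algebra.Etale.of_isLocalizationAway gT
  refine ⟨gT, hgT, ?_⟩
  have hu : ∀ (j : Fin k) (A' : Type u) [CommRing A'] [Algebra A₁ A'] [Algebra R' A'] [IsScalarTower A₁ R' A'],
      IsUnit (algebraMap A₁ A' (g j)) := by
    intro j A' _ _ _ _
    have : IsUnit (algebraMap A₁ A' gT) := by
      rw [IsScalarTower.algebraMap_apply A₁ R' A']
      exact (IsLocalization.Away.algebraMap_isUnit (S := R') gT).map _
    exact isUnit_of_dvd_unit (map_dvd _ ((Finset.dvd_prod_of_mem g (Finset.mem_univ j)).trans (dvd_mul_left _ _))) this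
  have hrep : ∀ j, ∃ (Zj : Scheme.{u}) (i : Zj ⟶ Spec (CommRingCat.of R')), Mono i ∧ LocallyOfFinitePresentation i ∧
      QuasiCompact i ∧ QuasiSeparated i ∧ Univ n A₁ (B := Cj j) (Nc j) (str A₁ R') i := by
    intro j
    haveI := hm j
    haveI := hl j
    haveI := hq j
    haveI := hqs j
    refine ⟨_, pullback.snd (ι j) (str A₁ R'), inferInstance, inferInstance, inferInstance, inferInstance,
      univ_of_affine (Nc j) R' _ fun A' _ _ _ _ => ?_⟩
    let D' : Type u := A' ⊗[A₁] Cj j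
    haveI : Algebra.IsPushout A₁ (Cj j) A' D' := Algebra.IsPushout.symm inferInstance
    let G : Type u := D' ⊗[Cj j] Nc j
    haveI : IsScalarTower A' D' G := inferInstance
    let ψ : Nc j →ₗ[Cj j] G := (TensorProduct.mk (Cj j) D' (Nc j)) 1
    have hψ : IsBaseChange D' ψ := TensorProduct.isBaseChange (Cj j) (Nc j) D'
    refine ((bridge (A := A₁) (B := Cj j) (Nc j) n A' D' G ψ hψ).symm.trans (hZ j A' D' G ψ hψ (hu j A'))).trans ?_
    have e : str R' A' ≫ str A₁ R' = str A₁ A' := by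
      show Spec.map _ ≫ Spec.map _ = Spec.map _
      rw [← Spec.map_comp, ← CommRingCat.ofHom_comp, ← IsScalarTower.algebraMap_eq]
    exact ⟨fun ⟨l, hlk⟩ => ⟨pullback.lift l (str R' A') (hlk.trans e.symm), pullback.lift_snd _ _ _⟩,
      fun ⟨l, hlk⟩ => ⟨l ≫ pullback.fst _ _, by
        rw [Category.assoc, pullback.condition, ← Category.assoc, hlk]; exact e⟩⟩
  obtain ⟨W, w, h1, h2, h3, h4, h5⟩ := PureLocal.exists_inter
    (fun (j : ULift.{u} (Fin k)) {T} φ => C n A₁ (B := Cj j.down) (Nc j.down) (φ ≫ str A₁ R')) Finset.univ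
    fun j _ => hrep j.down
  refine ⟨W, w, h1, h2, h3, h4, fun T φ => (h5 T φ).trans ?_⟩
  constructor
  · intro hall
    have hX₁ : Cond f₁' F₁' n (Over.mk (φ ≫ str A₁ R')) := by
      let X₂ : ULift.{u} (Fin k) → Scheme.{u} := fun j => Spec (CommRingCat.of (Cj j.down))
      refine Cond.of_etale_family F₁' hF₁'t X₂ (fun j => h j.down ≫ π₁) _ (fun x hx hxT => ?_) fun j => ?_
      · obtain ⟨t, ht⟩ := hxT
        have hgx : gT ∉ (f₁' x).asIdeal := by
          rw [← ht]
          have : (str A₁ R') (φ t) ∈ PrimeSpectrum.basicOpen gT := by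
            show _ ∈ (PrimeSpectrum.basicOpen gT : Set (PrimeSpectrum A₁))
            rw [← PrimeSpectrum.localization_away_comap_range R' gT]
            exact ⟨φ t, rfl⟩
          exact this
        obtain ⟨z, hz, rfl⟩ := hUg x hx fun hm => hgx (Ideal.mul_mem_right _ _ hm)
        obtain ⟨j, w, rfl⟩ := Set.mem_iUnion.mp hz
        exact ⟨⟨j⟩, w, rfl⟩
      · have hj := (PureLocal.cond_etale N₁ (Nc j.down) (gj j.down) (hC j.down).2.1 n _).mp (hall j (Finset.mem_univ _))
        rw [← hπ₁f, ← Category.assoc] at hj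
        exact hj.congr ((Scheme.Modules.pullback (h j.down)).mapIso eF₁.symm ≪≫
          (Scheme.Modules.pullbackComp (h j.down) π₁).app F₁')
    have h2 : Cond (π₁ ≫ f₁') ((Scheme.Modules.pullback π₁).obj F₁') n (Over.mk (φ ≫ str A₁ R')) :=
      S9027.result f₁' F₁' hF₁'t π₁ n _ hX₁
    rw [hπ₁f] at h2
    exact h2.congr eF₁
  · intro hc j _
    exact (PureLocal.cond_etale N₁ (Nc j.down) (gj j.down) (hC j.down).2.1 n _).mpr
      (S9027.result (str A₁ B₁) F₁ hF₁ (h j.down) n _ hc)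


/-- Representability near a point after an étale extension. -/
theorem near_aux [Module.FinitePresentation B N] {X : Scheme.{u}} (f : X ⟶ Spec (CommRingCat.of A)) [IsProper f]
    [LocallyOfFinitePresentation f] (F : X.Modules) (hF : CohB1.IsFP F)
    (π : Spec (CommRingCat.of B) ⟶ X) [Etale π] [Surjective π] (hπ : π ≫ f = str A B)
    (eN : (Scheme.Modules.pullback π).obj F ≅ tilde (R := CommRingCat.of B) (ModuleCat.of B N))
    (n : ℕ) (R : Type u) [CommRing R] [Algebra A R] [Algebra.FinitePresentation A R]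
    (BR NR : Type u) [CommRing BR] [Algebra B BR] [Algebra R BR] [Algebra A BR] [IsScalarTower A B BR] [IsScalarTower A R BR]
    [Algebra.IsPushout A B R BR] [Algebra.FinitePresentation R BR]
    [AddCommGroup NR] [Module BR NR] [Module.FinitePresentation BR NR] [Module B NR] [IsScalarTower B BR NR]
    (fR : N →ₗ[B] NR) (hfR : IsBaseChange BR fR)
    (hn : C (n + 1) A (B := B) N (str A R))
    (s : Ideal R) [s.IsPrime] :
    ∃ (R' : Type u) (_ : CommRing R') (_ : Algebra R R') (_ : Algebra A R') (_ : IsScalarTower A R R'), Algebra.Etale R R' ∧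
      (⟨s, inferInstance⟩ : PrimeSpectrum R) ∈ Set.range (PrimeSpectrum.comap (algebraMap R R')) ∧ RepOver A B N n R' := by
  classical
  obtain ⟨A₁, _, _, s₁, _, hnhd, hcov⟩ := PureCover.exists_cover (A := R) (B := BR) NR s
  haveI := hnhd.1
  haveI := hnhd.2.1
  letI : Algebra A A₁ := ((algebraMap R A₁).comp (algebraMap A R)).toAlgebra
  haveI : IsScalarTower A R A₁ := IsScalarTower.of_algebraMap_eq fun _ => rfl
  let B₁ : Type u := A₁ ⊗[R] BR
  haveI : Algebra.IsPushout R BR A₁ B₁ := Algebra.IsPushout.symm inferInstance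
  let N₁ : Type u := B₁ ⊗[BR] NR
  let fR₁ : NR →ₗ[BR] N₁ := (TensorProduct.mk BR B₁ NR) 1
  have hfR₁ : IsBaseChange B₁ fR₁ := TensorProduct.isBaseChange BR NR B₁
  haveI : Module.FinitePresentation B₁ N₁ := inferInstance
  obtain ⟨k, Cj, cC, aBC, aAC, tC, Nc, gN, mC, mB, tN, gj, hC, hQ⟩ := hcov B₁ N₁ fR₁ hfR₁
  letI : Algebra B B₁ := ((algebraMap BR B₁).comp (algebraMap B BR)).toAlgebra
  haveI : IsScalarTower B BR B₁ := IsScalarTower.of_algebraMap_eq fun _ => rfl
  haveI : IsScalarTower A A₁ B₁ := inferInstance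
  haveI : IsScalarTower R BR B₁ := inferInstance
  haveI : IsScalarTower A R B₁ := IsScalarTower.of_algebraMap_eq (R := A) (S := R) (A := B₁) fun a => by
    rw [IsScalarTower.algebraMap_apply R A₁ B₁, ← IsScalarTower.algebraMap_apply A R A₁,
      ← IsScalarTower.algebraMap_apply A A₁ B₁]
  haveI : IsScalarTower A BR B₁ := IsScalarTower.of_algebraMap_eq (R := A) (S := BR) (A := B₁) fun a => by
    rw [IsScalarTower.algebraMap_apply A R BR, ← IsScalarTower.algebraMap_apply R BR B₁,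
      ← IsScalarTower.algebraMap_apply A R B₁]
  haveI : IsScalarTower A B B₁ := IsScalarTower.of_algebraMap_eq (R := A) (S := B) (A := B₁) fun a => by
    show _ = algebraMap BR B₁ (algebraMap B BR (algebraMap A B a))
    rw [← IsScalarTower.algebraMap_apply A B BR, ← IsScalarTower.algebraMap_apply A BR B₁]
  haveI : Algebra.IsPushout A R B BR := Algebra.IsPushout.symm inferInstance
  haveI : Algebra.IsPushout R A₁ BR B₁ := inferInstance
  haveI : Algebra.IsPushout A A₁ B B₁ :=
    (Algebra.IsPushout.comp_iff (R := A) (S := R) (R' := B) (S' := BR) (T := A₁) (T' := B₁)).mpr inferInstance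
  haveI : Algebra.IsPushout A B A₁ B₁ := Algebra.IsPushout.symm inferInstance
  haveI : Algebra.FinitePresentation A A₁ := Algebra.FinitePresentation.trans A R A₁
  haveI : IsScalarTower B B₁ N₁ := inferInstance
  haveI : IsScalarTower B BR N₁ := IsScalarTower.of_algebraMap_smul fun b x => by
    rw [← algebraMap_smul B₁ (algebraMap B BR b) x, ← IsScalarTower.algebraMap_apply, algebraMap_smul]
  let f₁ : N →ₗ[B] N₁ := (fR₁.restrictScalars B) ∘ₗ fR
  have hf₁ : IsBaseChange B₁ f₁ := hfR.comp hfR₁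
  obtain ⟨π₁, _, _, hπ₁f, ⟨eF₁⟩⟩ := chart N f F hF π hπ eN A₁ B₁ N₁ f₁ hf₁
  have hn₁ : C (n + 1) A₁ (B := B₁) N₁ (𝟙 _) := by
    rw [C_baseChange (A := A) (B := B) N (n + 1) A₁ B₁ N₁ f₁ hf₁, Category.id_comp]
    have e : str R A₁ ≫ str A R = str A A₁ := by
      show Spec.map _ ≫ Spec.map _ = Spec.map _
      rw [← Spec.map_comp, ← CommRingCat.ofHom_comp, ← IsScalarTower.algebraMap_eq]
    rw [← e]
    exact C.comp (B := B) N (str R A₁) hn
  obtain ⟨gT, hgT, hrep⟩ := local_rep N₁ (pullback.snd f (str A A₁)) _ (ConsPairLib.isFP_pullback _ F hF).2 π₁ hπ₁f eF₁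
    n hn₁ s₁ k Cj Nc gj hC hQ
  let R' : Type u := Localization.Away gT
  haveI : Algebra.Etale A₁ R' := Algebra.Etale.of_isLocalizationAway gT
  haveI : Algebra.Etale R R' := Algebra.Etale.comp R A₁ R'
  haveI : IsScalarTower A R R' := inferInstance
  refine ⟨R', inferInstance, inferInstance, inferInstance, inferInstance, inferInstance, ?_,
    (repOver_baseChange (A := A) (B := B) N n A₁ B₁ N₁ f₁ hf₁ R').mp hrep⟩
  obtain ⟨q, hq'⟩ : (⟨s₁, inferInstance⟩ : PrimeSpectrum A₁) ∈ Set.range (PrimeSpectrum.comap (algebraMap A₁ R')) := by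
    rw [PrimeSpectrum.localization_away_comap_range R' gT]; exact hgT
  refine ⟨q, PrimeSpectrum.ext ?_⟩
  show q.asIdeal.comap (algebraMap R R') = s
  rw [IsScalarTower.algebraMap_eq R A₁ R', ← Ideal.comap_comap,
    show q.asIdeal.comap (algebraMap A₁ R') = s₁ from congrArg PrimeSpectrum.asIdeal hq']
  exact (s₁.over_def s).symm

/-- Representability near a point after an étale extension. -/
theorem near [Module.FinitePresentation B N] {X : Scheme.{u}} (f : X ⟶ Spec (CommRingCat.of A)) [IsProper f]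
    [LocallyOfFinitePresentation f] (F : X.Modules) (hF : CohB1.IsFP F)
    (π : Spec (CommRingCat.of B) ⟶ X) [Etale π] [Surjective π] (hπ : π ≫ f = str A B)
    (eN : (Scheme.Modules.pullback π).obj F ≅ tilde (R := CommRingCat.of B) (ModuleCat.of B N))
    (n : ℕ) (R : Type u) [CommRing R] [Algebra A R] [Algebra.FinitePresentation A R]
    (hn : C (n + 1) A (B := B) N (str A R))
    (s : Ideal R) [s.IsPrime] :
    ∃ (R' : Type u) (_ : CommRing R') (_ : Algebra R R') (_ : Algebra A R') (_ : IsScalarTower A R R'), Algebra.Etale R R' ∧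
      (⟨s, inferInstance⟩ : PrimeSpectrum R) ∈ Set.range (PrimeSpectrum.comap (algebraMap R R')) ∧ RepOver A B N n R' := by
  let BR : Type u := R ⊗[A] B
  haveI : Algebra.IsPushout A B R BR := Algebra.IsPushout.symm inferInstance
  haveI : Algebra.FinitePresentation R BR := inferInstance
  let NR : Type u := BR ⊗[B] N
  let fR : N →ₗ[B] NR := (TensorProduct.mk B BR N) 1
  have hfR : IsBaseChange BR fR := TensorProduct.isBaseChange B N BR
  haveI : Module.FinitePresentation BR NR := inferInstance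
  exact near_aux N f F hF π hπ eN n R BR NR fR hfR hn s

/-- The core for a chart of a proper morphism. -/
theorem core [Module.FinitePresentation B N] {X : Scheme.{u}} (f : X ⟶ Spec (CommRingCat.of A)) [IsProper f]
    [LocallyOfFinitePresentation f] (F : X.Modules) (hF : CohB1.IsFP F)
    (π : Spec (CommRingCat.of B) ⟶ X) [Etale π] [Surjective π] (hπ : π ≫ f = str A B)
    (eN : (Scheme.Modules.pullback π).obj F ≅ tilde (R := CommRingCat.of B) (ModuleCat.of B N))
    (n : ℕ) (R : Type u) [CommRing R] [Algebra A R] [Algebra.FinitePresentation A R]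
    (hn : C (n + 1) A (B := B) N (str A R)) : RepOver A B N n R := by
  classical
  choose R' cR aR aA tA het hs hrep using fun s : PrimeSpectrum R => near N f F hF π hπ eN n R hn s.asIdeal
  let BR : Type u := R ⊗[A] B
  haveI : Algebra.IsPushout A B R BR := Algebra.IsPushout.symm inferInstance
  haveI : Algebra.FinitePresentation R BR := inferInstance
  let NR : Type u := BR ⊗[B] N
  let fR : N →ₗ[B] NR := (TensorProduct.mk B BR N) 1
  have hfR : IsBaseChange BR fR := TensorProduct.isBaseChange B N BR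
  rw [← repOver_baseChange (A := A) (B := B) N n R BR NR fR hfR R]
  let O : PrimeSpectrum R → Set (PrimeSpectrum R) := fun s =>
    Set.range (PrimeSpectrum.comap (algebraMap R (R' s)))
  have hO : ∀ s, IsOpen (O s) := fun s => by
    haveI := het s
    have := PrimeSpectrum.isOpenMap_comap_of_hasGoingDown_of_finitePresentation (R := R) (S := R' s)
    simpa [O, Set.image_univ] using this _ isOpen_univ
  obtain ⟨t, ht⟩ := isCompact_univ.elim_finite_subcover O hO fun s _ => Set.mem_iUnion.mpr ⟨s, hs s⟩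
  haveI : ∀ j : t, Algebra.Etale R (R' j) := fun j => het j
  refine repOver_of_etale NR n (fun j : t => R' j) (fun x => ?_) fun j => ?_
  · obtain ⟨j, hj, hx⟩ := Set.mem_iUnion₂.mp (ht (Set.mem_univ x))
    exact ⟨⟨j, hj⟩, hx⟩
  · letI := aA (j : PrimeSpectrum R)
    haveI := tA (j : PrimeSpectrum R)
    exact (repOver_baseChange (A := A) (B := B) N n R BR NR fR hfR (R' j)).mpr (hrep j)

omit [Algebra.FinitePresentation A B] in
/-- Flattening for a chart of a proper morphism. -/
theorem rep_chart [Algebra.FinitePresentation A B] [Module.FinitePresentation B N] {X : Scheme.{u}}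
    (f : X ⟶ Spec (CommRingCat.of A)) [IsProper f]
    [LocallyOfFinitePresentation f] (F : X.Modules) (hF : CohB1.IsFP F)
    (π : Spec (CommRingCat.of B) ⟶ X) [Etale π] [Surjective π] (hπ : π ≫ f = str A B)
    (eN : (Scheme.Modules.pullback π).obj F ≅ tilde (R := CommRingCat.of B) (ModuleCat.of B N)) (m : ℕ) :
    RepOver A B N m A := by
  obtain ⟨r, hr⟩ := PureCond.exists_top (A := A) (B := B) N
  induction hd : r + 1 - m generalizing m with
  | zero =>
    exact ⟨_, 𝟙 _, inferInstance, inferInstance, inferInstance, inferInstance,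
      fun T g => iff_of_true ⟨g, Category.comp_id g⟩ (hr m _ (by omega))⟩
  | succ k ih =>
    exact step N m (fun R _ _ _ h => core N f F hF π hπ eN m R h) (ih (m + 1) (by omega))

end Groth.Agent.FlatMor62.PureProper
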