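import Groth.Agent.FlatMor62.PureProper
import Groth.Agent.FibCodepth.FibFlat

/-!
# The flattening monomorphism of a proper morphism
-/

set_option autoImplicit false
set_option linter.style.haveILetI false
set_option linter.unusedSectionVars false
set_option backward.isDefEq.respectTransparency false
set_option backward.isDefEq.respectTransparency.types false

universe u

open CategoryTheory CategoryTheory.Limits AlgebraicGeometry
open scoped TensorProduct

namespace Groth.Agent.FlatMor62.PureProperTop

open DimGEScheme PureCond DimGETop PureRep PureGlue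

variable {X S : Scheme.{u}} (f : X ⟶ S) (F : X.Modules)

/-- The condition commutes with base change of the base. -/
theorem cond_pullback {S' : Scheme.{u}} (j : S' ⟶ S) [F.IsQuasicoherent] (n : ℕ) {T : Scheme.{u}} (g : T ⟶ S') :
    Cond (pullback.snd f j) ((Scheme.Modules.pullback (pullback.fst f j)).obj F) n (Over.mk g) ↔
      Cond f F n (Over.mk (g ≫ j)) := by
  have hpb : IsPullback (pullback.fst (pullback.snd f j) g ≫ pullback.fst f j) (pullback.snd (pullback.snd f j) g) f (g ≫ j) :=
    (IsPullback.of_hasPullback (pullback.snd f j) g).paste_horiz (IsPullback.of_hasPullback f j)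
  let T₀ : Over S := Over.mk (g ≫ j)
  let q := PicF.XTproj f T₀
  let E := FGA.ET f F T₀
  let u := hpb.isoPullback.hom
  let q' := PicF.XTproj (pullback.snd f j) (Over.mk g)
  let E' := FGA.ET (pullback.snd f j) ((Scheme.Modules.pullback (pullback.fst f j)).obj F) (Over.mk g)
  have hu1 : u ≫ pullback.fst f T₀.hom = pullback.fst (pullback.snd f j) g ≫ pullback.fst f j := hpb.isoPullback_hom_fst
  have hu2 : u ≫ q = q' := hpb.isoPullback_hom_snd
  let eE : (Scheme.Modules.pullback u).obj E ≅ E' :=
    (Scheme.Modules.pullbackComp u (pullback.fst f T₀.hom)).app F ≪≫ (Scheme.Modules.pullbackCongr hu1).app F ≪≫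
      ((Scheme.Modules.pullbackComp (pullback.fst (pullback.snd f j) g) (pullback.fst f j)).app F).symm
  haveI : E.IsQuasicoherent := inferInstance
  have hflat : ∀ z, FlatMod.IsFlatOverAt q E (u z) ↔ FlatMod.IsFlatOverAt q' E' z := fun z => by
    rw [← FDesc.Stalk.flatOverAt_pullback_iff u q E z (Flat.stalkMap u z), hu2]
    exact ⟨S17417.isFlatOverAt_of_iso _ eE z, S17417.isFlatOverAt_of_iso _ eE.symm z⟩
  haveI := AlgSpD.locallyQuasiFinite_of_etale u
  have htr : ∀ z, Dual3.resTrdeg q' z = Dual3.resTrdeg q (u z) := fun z => by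
    rw [← hu2, AlgSpD.resTrdeg_comp, AlgSpD.resTrdeg_eq_zero_of_lqf u, zero_add]
    rfl
  constructor
  · intro h x hx
    obtain ⟨z, rfl⟩ := hpb.isoPullback.hom.surjective x
    show Dual3.resTrdeg q (u z) < _
    rw [← htr z]
    exact h z fun hfl => hx ((hflat z).mpr hfl)
  · intro h z hz
    show Dual3.resTrdeg q' z < _
    rw [htr z]
    exact h (u z) fun hfl => hz ((hflat z).mp hfl)

theorem cond_zero_iff (T : Over S) :
    Cond f F 0 T ↔ FlatMod.IsFlatOver (pullback.snd f T.hom) ((Scheme.Modules.pullback (pullback.fst f T.hom)).obj F) := by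
  constructor
  · intro h x
    by_contra hx
    have := h x hx
    simp at this
  · intro h x hx
    exact absurd (h x) hx

/-- Affine bases. -/
theorem exists_rep_affine {A : Type u} [CommRing A] {X : Scheme.{u}} (f : X ⟶ Spec (CommRingCat.of A)) [IsProper f]
    [LocallyOfFinitePresentation f] (F : X.Modules) (hF : CohB1.IsFP F) :
    ∃ (Z : Scheme.{u}) (i : Z ⟶ Spec (CommRingCat.of A)), Mono i ∧ LocallyOfFinitePresentation i ∧ QuasiCompact i ∧
      ∀ (T : Scheme.{u}) (g : T ⟶ Spec (CommRingCat.of A)), (∃ h, h ≫ i = g) ↔ Cond f F 0 (Over.mk g) := by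
  classical
  haveI : SheafOfModules.IsFinitePresentation.{u} F := hF
  haveI hFq : F.IsQuasicoherent := inferInstance
  haveI : Coh.IsQCoh F := hFq
  have hFt : CohB1.IsFT F := (inferInstance : F.IsFiniteType)
  haveI : CompactSpace X := QuasiCompact.compactSpace_of_compactSpace f
  let 𝒰 := X.affineCover.finiteSubcover
  haveI : ∀ i, IsAffine (𝒰.X i) := fun i => inferInstanceAs (IsAffine (X.affineCover.X _))
  haveI : Finite 𝒰.I₀ := inferInstance
  let X' : Scheme.{u} := ∐ 𝒰.X
  let π₀ : X' ⟶ X := Sigma.desc 𝒰.f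
  haveI : IsAffine X' := inferInstance
  haveI : Etale π₀ := IsZariskiLocalAtSource.sigmaDesc fun i => inferInstance
  haveI : Surjective π₀ := ⟨fun x => by
    obtain ⟨i, y, hy⟩ := 𝒰.exists_eq x
    exact ⟨Sigma.ι 𝒰.X i y, by rw [← Scheme.Hom.comp_apply, Sigma.ι_desc]; exact hy⟩⟩
  let π : Spec (CommRingCat.of Γ(X', ⊤)) ⟶ X := X'.isoSpec.inv ≫ π₀
  obtain ⟨ψ, hψ⟩ := Spec.map_surjective (π ≫ f)
  letI : Algebra A Γ(X', ⊤) := ψ.hom.toAlgebra
  let B : Type u := Γ(X', ⊤)
  have hπ : π ≫ f = str A B := hψ.symm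
  haveI : LocallyOfFinitePresentation (str A B) := by rw [← hπ]; infer_instance
  haveI : Algebra.FinitePresentation A B :=
    RingHom.finitePresentation_algebraMap.mp ((HasRingHomProperty.Spec_iff (P := @LocallyOfFinitePresentation)).1 inferInstance)
  let G := (Scheme.Modules.pullback π).obj F
  haveI : G.IsQuasicoherent := inferInstance
  let N : ModuleCat.{u} B := (moduleSpecΓFunctor (R := CommRingCat.of B)).obj G
  haveI : IsIso G.fromTildeΓ := Scheme.Modules.isIso_fromTildeΓ_of_isQuasicoherent G
  let eN : G ≅ tilde (R := CommRingCat.of B) (ModuleCat.of B N) := (asIso G.fromTildeΓ).symm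
  haveI : Module.FinitePresentation B N := by
    have h : CohB1.IsFP G := (ConsPairLib.isFP_pullback π F hF).2
    haveI : SheafOfModules.IsFinitePresentation.{u} G := h
    refine (S9827.result (CommRingCat.of B) (ModuleCat.of B N)).mp ?_
    exact S2115.isFP_of_iso eN h
  obtain ⟨Z, i, h1, h2, h3, -, hu⟩ := PureProper.rep_chart (A := A) (B := B) N f F hF π hπ eN 0
  refine ⟨Z, i, h1, h2, h3, fun T g => ?_⟩
  rw [hu T g, str_self, Category.comp_id]
  constructor
  · intro h
    refine Cond.of_etale_family F hFt (fun _ : PUnit.{u + 1} => Spec (CommRingCat.of B)) (fun _ => π) _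
      (fun x _ _ => ⟨⟨⟩, π.surjective x⟩) fun _ => ?_
    rw [hπ]
    exact h.congr eN.symm
  · intro h
    have h2 : Cond (π ≫ f) ((Scheme.Modules.pullback π).obj F) 0 (Over.mk g) := S9027.result f F hFt π 0 _ h
    rw [hπ] at h2
    exact h2.congr eN

end Groth.Agent.FlatMor62.PureProperTop
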