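import Groth.Agent.FlatMor62.PureCond
import Groth.Agent.AlgSp.DescentQAffine
import Groth.Agent.GrpdLib.MonoClosedField
import Mathlib.AlgebraicGeometry.Morphisms.LocalFlatDescent

/-!
# Representing `F_n`: étale descent
-/

set_option autoImplicit false
set_option linter.style.haveILetI false
set_option linter.unusedSectionVars false
set_option backward.isDefEq.respectTransparency false
set_option backward.isDefEq.respectTransparency.types false

universe u

open CategoryTheory CategoryTheory.Limits AlgebraicGeometry Opposite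

namespace Groth.Agent.FlatMor62.PureRep

open DimGEScheme PureCond DimGETop

variable {A B : Type u} [CommRing A] [CommRing B] [Algebra A B] [Algebra.FinitePresentation A B]
  (N : Type u) [AddCommGroup N] [Module B N]

instance : LocallyOfFiniteType (str A B) :=
  (HasRingHomProperty.Spec_iff (P := @LocallyOfFiniteType)).2 (RingHom.finiteType_algebraMap.mpr inferInstance)

/-- The condition on morphisms to `Spec A`. -/
def C (n : ℕ) (A : Type u) [CommRing A] {B : Type u} [CommRing B] [Algebra A B] (N : Type u) [AddCommGroup N]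
    [Module B N] {T : Scheme.{u}} (g : T ⟶ Spec (CommRingCat.of A)) : Prop :=
  CondA n A (B := B) N (Over.mk g)

theorem C.comp {n : ℕ} {T T' : Scheme.{u}} (a : T' ⟶ T) {g : T ⟶ Spec (CommRingCat.of A)} (h : C n A (B := B) N g) :
    C n A (B := B) N (a ≫ g) :=
  Cond.of_hom (T₀ := Over.mk g) (T := Over.mk (a ≫ g)) (Over.homMk a rfl) h

theorem C.of_local {n : ℕ} {T : Scheme.{u}} (g : T ⟶ Spec (CommRingCat.of A))
    (h : ∀ t : T, ∃ (T' : Scheme.{u}) (a : T' ⟶ T), IsOpenImmersion a ∧ t ∈ Set.range a ∧ C n A (B := B) N (a ≫ g)) :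
    C n A (B := B) N g := by
  haveI : Coh.IsQCoh (tilde (R := CommRingCat.of B) (ModuleCat.of B N)) :=
    show (tilde (R := CommRingCat.of B) (ModuleCat.of B N)).IsQuasicoherent from inferInstance
  exact Cond.of_local g h

/-- `i` represents the restriction of `F_n` to schemes over `p : Y ⟶ Spec A`. -/
def Univ (n : ℕ) (A : Type u) [CommRing A] {B : Type u} [CommRing B] [Algebra A B] (N : Type u) [AddCommGroup N]
    [Module B N] {Y Z : Scheme.{u}} (p : Y ⟶ Spec (CommRingCat.of A)) (i : Z ⟶ Y) : Prop :=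
  ∀ (T : Scheme.{u}) (g : T ⟶ Y), (∃ h, h ≫ i = g) ↔ C n A (B := B) N (g ≫ p)

/-- A monomorphism which represents `F_n` on affine schemes over `R` represents it on all schemes. -/
theorem univ_of_affine {n : ℕ} (R : Type u) [CommRing R] [Algebra A R] {Z : Scheme.{u}}
    (i : Z ⟶ Spec (CommRingCat.of R)) [Mono i]
    (h : ∀ (A' : Type u) [CommRing A'] [Algebra A A'] [Algebra R A'] [IsScalarTower A R A'],
      C n A (B := B) N (str A A') ↔ Fac i A') :
    Univ n A (B := B) N (str A R) i := by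
  have haff : ∀ (A' : CommRingCat.{u}) (g : Spec A' ⟶ Spec (CommRingCat.of R)),
      (∃ k, k ≫ i = g) ↔ C n A (B := B) N (g ≫ str A R) := fun A' g => by
    obtain ⟨φ, rfl⟩ := Spec.map_surjective g
    letI : Algebra R A' := φ.hom.toAlgebra
    letI : Algebra A A' := (φ.hom.comp (algebraMap A R)).toAlgebra
    haveI : IsScalarTower A R A' := IsScalarTower.of_algebraMap_eq fun _ => rfl
    have e : Spec.map φ ≫ str A R = str A A' := by
      show Spec.map φ ≫ Spec.map _ = Spec.map _
      rw [← Spec.map_comp]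
      rfl
    rw [e, h A']
    exact Iff.rfl
  intro T g
  have cover : ∀ t : T, ∃ (A' : CommRingCat.{u}) (a : Spec A' ⟶ T), IsOpenImmersion a ∧ t ∈ Set.range a := fun t => by
    obtain ⟨j, x, hx⟩ := T.affineCover.exists_eq t
    exact ⟨_, T.affineCover.f j, inferInstance, x, hx⟩
  constructor
  · rintro ⟨k, rfl⟩
    refine C.of_local N _ fun t => ?_
    obtain ⟨A', a, ha, hta⟩ := cover t
    exact ⟨_, a, ha, hta, by rw [← Category.assoc, ← Category.assoc]; exact (haff A' _).1 ⟨a ≫ k, rfl⟩⟩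
  · intro hg
    refine fac_of_cover i g fun t => ?_
    obtain ⟨A', a, ha, hta⟩ := cover t
    haveI := ha
    obtain ⟨k, hk⟩ := (haff A' (a ≫ g)).2 (by rw [Category.assoc]; exact C.comp N a hg)
    exact ⟨a.opensRange, hta, a.isoOpensRange.inv ≫ k, by
      rw [Category.assoc, hk, ← Category.assoc, Scheme.Hom.isoOpensRange_inv_comp]⟩

variable (A B)

/-- `F_n` is representable over `R` by a monomorphism of finite presentation. -/
def RepOver (n : ℕ) (R : Type u) [CommRing R] [Algebra A R] : Prop :=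
  ∃ (Z : Scheme.{u}) (i : Z ⟶ Spec (CommRingCat.of R)), Mono i ∧ LocallyOfFinitePresentation i ∧ QuasiCompact i ∧
    QuasiSeparated i ∧ Univ n A (B := B) N (str A R) i

variable {A B}

/-- Representability is local for the étale topology. -/
theorem repOver_of_etale (n : ℕ) {ι : Type u} [Finite ι] (R : ι → Type u) [∀ j, CommRing (R j)] [∀ j, Algebra A (R j)]
    [∀ j, Algebra.Etale A (R j)] (hcov : ∀ x : PrimeSpectrum A, ∃ j, x ∈ Set.range (PrimeSpectrum.comap (algebraMap A (R j))))
    (h : ∀ j, RepOver A B N n (R j)) : RepOver A B N n A := by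
  classical
  haveI : Coh.IsQCoh (tilde (R := CommRingCat.of B) (ModuleCat.of B N)) :=
    show (tilde (R := CommRingCat.of B) (ModuleCat.of B N)).IsQuasicoherent from inferInstance
  choose Z i hmono hlfp hqc hqs huniv using h
  let S := Spec (CommRingCat.of A)
  let Vc : ι → Scheme.{u} := fun j => Spec (CommRingCat.of (R j))
  let pc : ∀ j, Vc j ⟶ S := fun j => str A (R j)
  let V : Over S := Over.mk (Sigma.desc pc)
  let W : Over S := Over.mk (Limits.Sigma.map i ≫ Sigma.desc pc)
  let w : W ⟶ V := Over.homMk (Limits.Sigma.map i) rfl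
  let U : Over S := Over.mk (𝟙 S)
  let p : V ⟶ U := Over.homMk (Sigma.desc pc) (Category.comp_id _)
  haveI het : ∀ j, Etale (pc j) := fun j =>
    (HasRingHomProperty.Spec_iff (P := @Etale)).2 (RingHom.etale_algebraMap.mpr inferInstance)
  haveI : Etale p.left := IsZariskiLocalAtSource.sigmaDesc het
  haveI : Surjective p.left := ⟨fun x => by
    obtain ⟨j, y, hy⟩ := hcov x
    exact ⟨Sigma.ι Vc j y, by
      show (Sigma.ι Vc j ≫ Sigma.desc pc) y = x
      rw [Sigma.ι_desc]; exact hy⟩⟩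
  haveI : IsAffine U.left := inferInstanceAs (IsAffine (Spec _))
  haveI : IsAffine V.left := inferInstanceAs (IsAffine (∐ Vc))
  haveI : Mono w.left := by
    haveI := hmono
    have e : Limits.Sigma.map i = Sigma.desc fun j => i j ≫ Sigma.ι Vc j := Sigma.hom_ext _ _ fun j => (Limits.Sigma.ι_map i j).trans (Sigma.ι_desc (fun j => i j ≫ Sigma.ι Vc j) j).symm
    show Mono (Limits.Sigma.map i)
    rw [e]
    refine mono_sigmaDesc _ fun a b x y h => ?_
    by_contra hab
    exact ((disjoint_opensRange_sigmaι Vc a b hab).le_bot (x := (i a ≫ Sigma.ι Vc a) x) ⟨⟨i a x, rfl⟩, ⟨i b y, h.symm⟩⟩ : False)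
  haveI : LocallyOfFinitePresentation w.left := by
    haveI := hlfp
    have e : Limits.Sigma.map i = Sigma.desc fun j => i j ≫ Sigma.ι Vc j := Sigma.hom_ext _ _ fun j => (Limits.Sigma.ι_map i j).trans (Sigma.ι_desc (fun j => i j ≫ Sigma.ι Vc j) j).symm
    show LocallyOfFinitePresentation (Limits.Sigma.map i)
    rw [e]
    exact IsZariskiLocalAtSource.sigmaDesc fun j => inferInstance
  haveI : CompactSpace W.left := by
    haveI : ∀ j, CompactSpace (Z j) := fun j =>
      haveI := hqc j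
      QuasiCompact.compactSpace_of_compactSpace (i j)
    exact (sigmaMk Z).compactSpace
  haveI : QuasiCompact w.left := quasiCompact_of_compactSpace w.left
  haveI : W.left.IsQuasiAffine := by
    haveI : Scheme.IsQuasiAffine ((⊤ : W.left.Opens) : Scheme.{u}) :=
      (GrpdLib.MonoClosedField.isQuasiAffine_of_mono w.left).2 ⊤ (isAffineOpen_top _)
    exact Scheme.IsQuasiAffine.of_isImmersion W.left.topIso.inv
  -- the sheaf
  let P : Over S → Prop := fun T => CondA n A (B := B) N T
  let F : AlgSp.Sp S := ⟨FlatFun.genPSp S P,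
    (isSheaf_iff_isSheaf_of_type _ _).2 (Presieve.isSheaf_of_le _
      (fun T R hR => Scheme.fppfTopology_le_fpqcTopology _ hR)
      ((isSheaf_iff_isSheaf_of_type _ _).1 (FlatFunSheaf.isSheaf_genPSp_of S P (fun _ _ k hk => hk.of_hom k)
        fun T _ Ti a _ hs hk => Cond.of_cover T Ti a hs hk)))⟩
  have key : ∀ T : Over S, Nonempty (F.obj.obj (op T)) ↔ P T := fun T =>
    ⟨fun ⟨x⟩ => x.down.down.elim fun T₀ hT => hT.elim fun k hk => hk.of_hom k,
      fun hT => ⟨⟨⟨T, 𝟙 _, hT⟩⟩⟩⟩
  have hsub : ∀ T : (Over S)ᵒᵖ, Subsingleton (F.obj.obj T) := fun T => FlatFun.genPSp_subsingleton S P T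
  have hsubU : ∀ T : Over S, Subsingleton (T ⟶ U) := fun T =>
    ⟨fun a b => Over.OverMorphism.ext (((Category.comp_id _).symm.trans (Over.w a)).trans
      ((Category.comp_id _).symm.trans (Over.w b)).symm)⟩
  -- lifting to `W`
  have hlift : ∀ (T : Over S) (v : T ⟶ V), P T → ∃ k : T ⟶ W, k ≫ w = v := by
    intro T v hT
    suffices ∃ k, k ≫ w.left = v.left by
      obtain ⟨k, hk⟩ := this
      exact ⟨Over.homMk k (by show k ≫ w.left ≫ V.hom = _; rw [← Category.assoc, hk, Over.w v]),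
        Over.OverMorphism.ext hk⟩
    refine fac_of_cover w.left v.left fun t => ?_
    obtain ⟨⟨j, y⟩, hy⟩ := (sigmaMk Vc).surjective (v.left t)
    rw [sigmaMk_mk] at hy
    let T' := v.left ⁻¹ᵁ (Sigma.ι Vc j).opensRange
    have hr : Set.range (T'.ι ≫ v.left) ⊆ Set.range (Sigma.ι Vc j) := by
      rintro _ ⟨z, rfl⟩
      exact z.2
    let v' := IsOpenImmersion.lift (Sigma.ι Vc j) (T'.ι ≫ v.left) hr
    have hv' : v' ≫ Sigma.ι Vc j = T'.ι ≫ v.left := IsOpenImmersion.lift_fac _ _ hr
    obtain ⟨k, hk⟩ := (huniv j _ v').2 (by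
      have e : v' ≫ pc j = T'.ι ≫ T.hom := by
        rw [← Over.w v, ← Category.assoc, ← hv', Category.assoc]
        exact congrArg (v' ≫ ·) (Sigma.ι_desc pc j).symm
      show C n A (B := B) N (v' ≫ pc j)
      rw [e]
      exact C.comp N _ hT)
    refine ⟨T', ⟨y, hy⟩, k ≫ Sigma.ι Z j, ?_⟩
    show (k ≫ Sigma.ι Z j) ≫ Limits.Sigma.map i = _
    rw [Category.assoc, Limits.Sigma.ι_map, reassoc_of% hk, hv']
  have hW : P W := by
    refine C.of_local N W.hom fun t => ?_
    obtain ⟨⟨j, y⟩, hy⟩ := (sigmaMk Z).surjective t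
    rw [sigmaMk_mk] at hy
    refine ⟨_, Sigma.ι Z j, inferInstance, ⟨y, hy⟩, ?_⟩
    show C n A (B := B) N (Sigma.ι Z j ≫ Limits.Sigma.map i ≫ Sigma.desc pc)
    rw [Limits.Sigma.ι_map_assoc, Sigma.ι_desc]
    exact (huniv j _ (i j)).1 ⟨𝟙 _, Category.id_comp _⟩
  let a : F ⟶ (AlgSp.yon S).obj U := ⟨
    { app := fun T => TypeCat.ofHom fun _ => ⟨Over.homMk T.unop.hom (Category.comp_id _)⟩
      naturality := fun T T' k => by
        ext x
        exact ULift.ext _ _ (@Subsingleton.elim _ (hsubU _) _ _) }⟩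
  let π : (AlgSp.yon S).obj W ⟶ F := ⟨
    { app := fun T => TypeCat.ofHom fun x => ⟨⟨W, x.down, hW⟩⟩
      naturality := fun T T' k => by
        ext x
        exact @Subsingleton.elim _ (hsub _) _ _ }⟩
  have sq : IsPullback π ((AlgSp.yon S).map w) a ((AlgSp.yon S).map p) := by
    refine IsPullback.of_map (sheafToPresheaf _ _) ?_ ?_
    · ext T x
      exact ULift.ext _ _ (@Subsingleton.elim _ (hsubU _) _ _)
    refine IsPullback.of_forall_isPullback_app fun T => (Types.isPullback_iff _ _ _ _).2 ⟨?_, ?_, ?_⟩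
    · ext x
      exact ULift.ext _ _ (@Subsingleton.elim _ (hsubU _) _ _)
    · rintro x y ⟨-, hxy⟩
      haveI : Mono w := (Over.forget S).mono_of_mono_map (inferInstanceAs (Mono w.left))
      exact ULift.ext _ _ ((cancel_mono w).1 (congrArg ULift.down hxy))
    · intro x v _
      obtain ⟨k, hk⟩ := hlift T.unop v.down ((key T.unop).1 ⟨x⟩)
      exact ⟨⟨k⟩, @Subsingleton.elim _ (hsub _) _ _, ULift.ext _ _ hk⟩
  obtain ⟨W₀, hW₀, ⟨e⟩⟩ := AlgSp.exists_iso_of_fppf_quasiAffine' p a π w sq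
  have huniv₀ : ∀ T : Over S, Nonempty (T ⟶ W₀) ↔ P T := fun T => by
    rw [← key T]
    exact ⟨fun ⟨k⟩ => ⟨e.hom.hom.app (op T) ⟨k⟩⟩, fun ⟨x⟩ => ⟨(e.inv.hom.app (op T) x).down⟩⟩
  have hss : ∀ T : Over S, Subsingleton (T ⟶ W₀) := fun T => ⟨fun k k' => by
    let E := (((sheafToPresheaf _ _).mapIso e).app (op T)).toEquiv
    haveI : Subsingleton (F.obj.obj (op T)) := hsub (op T)
    exact congrArg ULift.down (E.injective (a₁ := ⟨k⟩) (a₂ := ⟨k'⟩) ((hsub (op T)).elim _ _))⟩
  haveI : Mono W₀.hom := ⟨fun {T} k k' hkk => congrArg CommaMorphism.left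
    ((hss (Over.mk (k ≫ W₀.hom))).elim (Over.homMk k rfl) (Over.homMk k' hkk.symm))⟩
  haveI : CompactSpace W₀.left := hW₀.toCompactSpace
  haveI : QuasiCompact W₀.hom := quasiCompact_of_compactSpace W₀.hom
  obtain ⟨l⟩ := (huniv₀ W).2 hW
  have hsq : IsPullback l.left w.left W₀.hom p.left := by
    refine ⟨⟨by rw [Over.w l]; rfl⟩, ⟨PullbackCone.IsLimit.mk _ (fun s => ?_) (fun s => ?_) (fun s => ?_) ?_⟩⟩
    · exact (hlift (Over.mk (s.fst ≫ W₀.hom)) (Over.homMk s.snd s.condition.symm)
        ((huniv₀ _).1 ⟨Over.homMk s.fst rfl⟩)).choose.left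
    · rw [← cancel_mono W₀.hom, Category.assoc, Over.w l]
      exact Over.w _
    · exact congrArg CommaMorphism.left (hlift (Over.mk (s.fst ≫ W₀.hom)) (Over.homMk s.snd s.condition.symm)
        ((huniv₀ _).1 ⟨Over.homMk s.fst rfl⟩)).choose_spec
    · intro s m _ hm
      rw [← cancel_mono w.left, hm]
      exact (congrArg CommaMorphism.left (hlift (Over.mk (s.fst ≫ W₀.hom)) (Over.homMk s.snd s.condition.symm)
        ((huniv₀ _).1 ⟨Over.homMk s.fst rfl⟩)).choose_spec).symm
  haveI : LocallyOfFinitePresentation W₀.hom :=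
    MorphismProperty.of_isPullback_of_descendsAlong (P := @LocallyOfFinitePresentation)
      (Q := @Surjective ⊓ @Flat ⊓ @QuasiCompact) hsq.flip
      ⟨⟨inferInstance, inferInstance⟩, inferInstance⟩ (inferInstanceAs (LocallyOfFinitePresentation w.left))
  refine ⟨W₀.left, W₀.hom, inferInstance, inferInstance, inferInstance, inferInstance, fun T g => ?_⟩
  have e' : g ≫ str A A = g := by
    show g ≫ Spec.map (CommRingCat.ofHom (RingHom.id A)) = g
    rw [show CommRingCat.ofHom (RingHom.id A) = 𝟙 (CommRingCat.of A) from rfl, Spec.map_id, Category.comp_id]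
  rw [e']
  exact ⟨fun ⟨k, hk⟩ => (huniv₀ (Over.mk g)).1 ⟨Over.homMk k hk⟩,
    fun hg => ((huniv₀ (Over.mk g)).2 hg).elim fun k => ⟨k.left, Over.w k⟩⟩

end Groth.Agent.FlatMor62.PureRep
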