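import Groth.Agent.ClUnit.Basic
import Groth.Agent.Omega.ConormalBC
import Groth.Agent.KFlat.PullTensor

/-!
# Pullback of a direct image along a closed immersion, for arbitrary modules
-/

set_option autoImplicit false
set_option backward.isDefEq.respectTransparency false
set_option backward.isDefEq.respectTransparency.types false

universe u

open CategoryTheory CategoryTheory.Limits AlgebraicGeometry TopologicalSpace Opposite
open Groth.Agent.PullStalk.Sky Groth.Agent.PullStalk.Basic

noncomputable section

namespace Groth.Agent.FlatMor62.PushPullCl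

/-- The stalk of a direct image, mapped to the stalk. -/
def pushStalkLin {X X' : Scheme.{u}} (i : X ⟶ X') (M : X.Modules) (z : X) :
    (DerSch.stalkFunctor X' (i z)).obj ((Scheme.Modules.pushforward i).obj M) ⟶
      (ModuleCat.restrictScalars (i.stalkMap z).hom).obj ((DerSch.stalkFunctor X z).obj M) :=
  ModuleCat.ofHom (Y := (ModuleCat.restrictScalars (i.stalkMap z).hom).obj ((DerSch.stalkFunctor X z).obj M))
    { toFun := TopCat.Presheaf.stalkPushforward AddCommGrpCat i.base M.presheaf z
      map_add' := map_add _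
      map_smul' := fun r t => by
        obtain ⟨U, hx, s, rfl⟩ := exists_germM_eq ((Scheme.Modules.pushforward i).obj M) (i z) t
        obtain ⟨V, hxV, a, rfl⟩ := X'.presheaf.exists_germ_eq (x := i z) r
        have hW : i z ∈ U ⊓ V := ⟨hx, hxV⟩
        rw [← X'.presheaf.germ_res_apply (homOfLE (inf_le_right : U ⊓ V ≤ V)) (i z) hW a,
          show germM ((Scheme.Modules.pushforward i).obj M) U (i z) hx s =
              germM ((Scheme.Modules.pushforward i).obj M) (U ⊓ V) (i z) hW
                (((Scheme.Modules.pushforward i).obj M).presheaf.map (homOfLE (inf_le_left : U ⊓ V ≤ U)).op s)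
            from (((Scheme.Modules.pushforward i).obj M).presheaf.germ_res_apply
              (homOfLE (inf_le_left : U ⊓ V ≤ U)) (i z) hW s).symm]
        set a' := X'.presheaf.map (homOfLE (inf_le_right : U ⊓ V ≤ V)).op a
        set s' := ((Scheme.Modules.pushforward i).obj M).presheaf.map (homOfLE (inf_le_left : U ⊓ V ≤ U)).op s
        refine (congrArg (TopCat.Presheaf.stalkPushforward AddCommGrpCat i.base M.presheaf z)
          (germM_smul ((Scheme.Modules.pushforward i).obj M) (U ⊓ V) (i z) hW a' s').symm).trans ?_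
        erw [TopCat.Presheaf.stalkPushforward_germ_apply, TopCat.Presheaf.stalkPushforward_germ_apply]
        refine (germM_smul M (i ⁻¹ᵁ (U ⊓ V)) z hW (i.app (U ⊓ V) a') s').trans ?_
        change _ = i.stalkMap z (X'.presheaf.germ (U ⊓ V) (i z) hW a') • germM M (i ⁻¹ᵁ (U ⊓ V)) z hW s'
        rw [Scheme.Hom.germ_stalkMap_apply] }

section Alg

variable {R R' A A' : Type u} [CommRing R] [CommRing R'] [CommRing A] [CommRing A']
  [Algebra R R'] [Algebra R A] [Algebra A A'] [Algebra R' A'] [Algebra R A']
  [IsScalarTower R R' A'] [IsScalarTower R A A']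
  {M N₁ N₂ : Type u} [AddCommGroup M] [Module A M] [Module R M] [IsScalarTower R A M]
  [AddCommGroup N₁] [Module R' N₁] [Module R N₁] [IsScalarTower R R' N₁]
  [AddCommGroup N₂] [Module A' N₂] [Module A N₂] [IsScalarTower A A' N₂]

/-- Two base changes agree when the rings form a pushout along a surjection. -/
theorem bijective_of_isBaseChange (hRA : Function.Surjective (algebraMap R A))
    (hR'A' : Function.Surjective (algebraMap R' A'))
    (hker : RingHom.ker (algebraMap R' A') ≤ (RingHom.ker (algebraMap R A)).map (algebraMap R R'))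
    {φ₁ : M →ₗ[R] N₁} (h₁ : IsBaseChange R' φ₁) {φ₂ : M →ₗ[A] N₂} (h₂ : IsBaseChange A' φ₂)
    (θ : N₁ →+ N₂) (hθs : ∀ (r : R') (n : N₁), θ (r • n) = algebraMap R' A' r • θ n)
    (hθ : ∀ m, θ (φ₁ m) = φ₂ m) : Function.Bijective θ := by
  have hk : ∀ r ∈ RingHom.ker (algebraMap R' A'), ∀ n : N₁, r • n = 0 := by
    intro r hr n
    have hmem := hker hr
    refine Submodule.span_induction (p := fun r _ => r • n = 0) ?_ (zero_smul _ _) ?_ ?_ hmem
    · rintro _ ⟨a, ha, rfl⟩
      refine h₁.inductionOn n (motive := fun n => algebraMap R R' a • n = 0) (smul_zero _) ?_ ?_ ?_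
      · intro m
        rw [IsScalarTower.algebraMap_smul, ← map_smul, ← IsScalarTower.algebraMap_smul A a m,
          RingHom.mem_ker.mp ha, zero_smul, map_zero]
      · intro s n hn
        rw [smul_comm, hn, smul_zero]
      · intro a b ha hb
        rw [smul_add, ha, hb, add_zero]
    · intro a b _ _ ha hb
      rw [add_smul, ha, hb, add_zero]
    · intro s a _ ha
      rw [smul_eq_mul, mul_smul, ha, smul_zero]
  let : SMul A' N₁ := ⟨fun a n => (hR'A' a).choose • n⟩
  have key : ∀ (r : R') (n : N₁), algebraMap R' A' r • n = r • n := fun r n => by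
    change (hR'A' (algebraMap R' A' r)).choose • n = r • n
    rw [← sub_eq_zero, ← sub_smul]
    exact hk _ (by rw [RingHom.mem_ker, map_sub, (hR'A' (algebraMap R' A' r)).choose_spec, sub_self]) n
  let : Module A' N₁ := Function.Surjective.moduleLeft (algebraMap R' A') hR'A' key
  let : Module A N₁ := Module.compHom N₁ (algebraMap A A')
  have : IsScalarTower A A' N₁ := .of_algebraMap_smul fun _ _ => rfl
  let φ : M →ₗ[A] N₁ :=
    { toFun := φ₁
      map_add' := map_add φ₁
      map_smul' := fun a m => by
        obtain ⟨r, rfl⟩ := hRA a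
        change φ₁ (algebraMap R A r • m) = algebraMap A A' (algebraMap R A r) • φ₁ m
        rw [IsScalarTower.algebraMap_smul, map_smul, ← IsScalarTower.algebraMap_apply R A A',
          IsScalarTower.algebraMap_apply R R' A', key, IsScalarTower.algebraMap_smul] }
  let ψ := h₂.lift φ
  have hl : ∀ n, ψ (θ n) = n := by
    intro n
    refine h₁.inductionOn n (motive := fun n => ψ (θ n) = n) (by rw [map_zero, map_zero]) ?_ ?_ ?_
    · intro m
      rw [hθ]
      exact h₂.lift_eq φ m
    · intro s n hn
      rw [hθs, map_smul, hn, key]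
    · intro a b ha hb
      rw [map_add, map_add, ha, hb]
  refine ⟨Function.LeftInverse.injective hl, fun n => ?_⟩
  refine h₂.inductionOn n (motive := fun n => ∃ k, θ k = n) ⟨0, map_zero θ⟩ (fun m => ⟨_, hθ m⟩) ?_ ?_
  · rintro s _ ⟨k, rfl⟩
    obtain ⟨r, rfl⟩ := hR'A' s
    exact ⟨r • k, hθs r k⟩
  · rintro _ _ ⟨a, rfl⟩ ⟨b, rfl⟩
    exact ⟨a + b, map_add θ a b⟩

end Alg

section Transport

variable {R R₀ R' M M₀ N : Type u} [CommRing R] [CommRing R₀] [CommRing R'] [Algebra R R'] [Algebra R₀ R']
  [AddCommGroup M] [Module R M] [AddCommGroup M₀] [Module R₀ M₀]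
  [AddCommGroup N] [Module R' N] [Module R N] [IsScalarTower R R' N] [Module R₀ N] [IsScalarTower R₀ R' N]

/-- Base change transported along an isomorphism of the source. -/
theorem isBaseChange_transport (σ : R →+* R₀) (hσ : Function.Surjective σ)
    (hσ' : ∀ r, algebraMap R₀ R' (σ r) = algebraMap R R' r) (e : M ≃+ M₀)
    (he : ∀ r m, e (r • m) = σ r • e m) {φ₀ : M₀ →ₗ[R₀] N} (h : IsBaseChange R' φ₀)
    {φ : M →ₗ[R] N} (hφ : ∀ m, φ m = φ₀ (e m)) : IsBaseChange R' φ := by
  refine IsBaseChange.of_lift_unique _ ?_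
  intro Q _ _ _ _ q
  let : Module R₀ Q := Module.compHom Q (algebraMap R₀ R')
  have : IsScalarTower R₀ R' Q := .of_algebraMap_smul fun _ _ => rfl
  let q₀ : M₀ →ₗ[R₀] Q :=
    { toFun := fun m => q (e.symm m)
      map_add' := fun a b => by rw [map_add, map_add]
      map_smul' := fun r m => by
        obtain ⟨r, rfl⟩ := hσ r
        obtain ⟨m, rfl⟩ := e.surjective m
        change q (e.symm (σ r • e m)) = algebraMap R₀ R' (σ r) • q (e.symm (e m))
        rw [← he, AddEquiv.symm_apply_apply, AddEquiv.symm_apply_apply, map_smul, hσ',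
          IsScalarTower.algebraMap_smul] }
  refine ⟨h.lift q₀, LinearMap.ext fun m => ?_, fun l hl => ?_⟩
  · change h.lift q₀ (φ m) = q m
    rw [hφ, h.lift_eq]
    exact congrArg q (e.symm_apply_apply m)
  · refine h.algHom_ext _ _ fun m => ?_
    obtain ⟨m, rfl⟩ := e.surjective m
    rw [h.lift_eq]
    change l (φ₀ (e m)) = q (e.symm (e m))
    rw [← hφ, e.symm_apply_apply, ← hl]
    rfl

end Transport

/-- Specialization of stalks is semilinear. -/
theorem stalkSpecializes_smul {X : Scheme.{u}} (M : X.Modules) {x y : X} (h : x ⤳ y) (r : X.presheaf.stalk y)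
    (t : M.presheaf.stalk y) :
    M.presheaf.stalkSpecializes h (r • t) = X.presheaf.stalkSpecializes h r • M.presheaf.stalkSpecializes h t := by
  obtain ⟨W, hW, m, rfl⟩ := exists_germM_eq M y t
  obtain ⟨V, hV, a, rfl⟩ := X.presheaf.exists_germ_eq (x := y) r
  have hI : y ∈ W ⊓ V := ⟨hW, hV⟩
  rw [← X.presheaf.germ_res_apply (homOfLE (inf_le_right : W ⊓ V ≤ V)) y hI a,
    show germM M W y hW m = germM M (W ⊓ V) y hI (M.presheaf.map (homOfLE (inf_le_left : W ⊓ V ≤ W)).op m)
      from (M.presheaf.germ_res_apply _ _ hI m).symm, ← germM_smul]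
  refine (TopCat.Presheaf.germ_stalkSpecializes_apply M.presheaf hI h _).trans ?_
  refine (germM_smul M _ x _ _ _).trans ?_
  exact congrArg₂ (· • ·) (TopCat.Presheaf.germ_stalkSpecializes_apply X.presheaf hI h _).symm
    (TopCat.Presheaf.germ_stalkSpecializes_apply M.presheaf hI h _).symm

variable {U U' P P' : Scheme.{u}} {i : U ⟶ P} {i' : U' ⟶ P'} {g : U' ⟶ U} {π : P' ⟶ P}

/-- The two composite direct images. -/
def cIso (w : g ≫ i = i' ≫ π) :
    Scheme.Modules.pushforward g ⋙ Scheme.Modules.pushforward i ≅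
      Scheme.Modules.pushforward i' ⋙ Scheme.Modules.pushforward π :=
  Scheme.Modules.pushforwardComp g i ≪≫ Scheme.Modules.pushforwardCongr w ≪≫
    (Scheme.Modules.pushforwardComp i' π).symm

variable (w : g ≫ i = i' ≫ π) (F : U.Modules)

/-- The base change map. -/
def bcApp : (Scheme.Modules.pullback π).obj ((Scheme.Modules.pushforward i).obj F) ⟶
    (Scheme.Modules.pushforward i').obj ((Scheme.Modules.pullback g).obj F) :=
  ((Scheme.Modules.pullbackPushforwardAdjunction π).homEquiv _ _).symm
    ((Scheme.Modules.pushforward i).map ((Scheme.Modules.pullbackPushforwardAdjunction g).unit.app F) ≫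
      (cIso w).hom.app _)

theorem unit_bcApp :
    (Scheme.Modules.pullbackPushforwardAdjunction π).unit.app _ ≫
        (Scheme.Modules.pushforward π).map (bcApp w F) =
      (Scheme.Modules.pushforward i).map ((Scheme.Modules.pullbackPushforwardAdjunction g).unit.app F) ≫
        (cIso w).hom.app _ := by
  exact ((Scheme.Modules.pullbackPushforwardAdjunction π).homEquiv_unit _ _ _).symm.trans
    (Equiv.apply_symm_apply _ _)

/-- Naturality. -/
def bcNat : Scheme.Modules.pushforward i ⋙ Scheme.Modules.pullback π ⟶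
    Scheme.Modules.pullback g ⋙ Scheme.Modules.pushforward i' where
  app F := bcApp w F
  naturality F G φ := by
    apply ((Scheme.Modules.pullbackPushforwardAdjunction π).homEquiv _ _).injective
    simp only [Functor.comp_map]
    rw [Adjunction.homEquiv_naturality_left, Adjunction.homEquiv_naturality_right]
    simp only [bcApp]
    erw [Equiv.apply_symm_apply, Equiv.apply_symm_apply]
    have h1 := (cIso w).hom.naturality ((Scheme.Modules.pullback g).map φ)
    have h2 := congrArg (Scheme.Modules.pushforward i).map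
      ((Scheme.Modules.pullbackPushforwardAdjunction g).unit.naturality φ)
    rw [Functor.map_comp, Functor.map_comp] at h2
    refine ((Category.assoc _ _ _).symm.trans ((congrArg (· ≫ _) h2).trans ((Category.assoc _ _ _).trans ?_)))
    exact (congrArg (_ ≫ ·) h1).trans (Category.assoc _ _ _).symm

theorem cIso_app_app (G : U'.Modules) (W : P.Opens) (s : Γ(G, g ⁻¹ᵁ (i ⁻¹ᵁ W))) :
    ((cIso w).hom.app G).app W s =
      G.presheaf.map (eqToHom (show i' ⁻¹ᵁ (π ⁻¹ᵁ W) = g ⁻¹ᵁ (i ⁻¹ᵁ W) by
        rw [← Scheme.Hom.comp_preimage, ← Scheme.Hom.comp_preimage, w])).op s := by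
  simp [cIso]

set_option maxHeartbeats 1600000 in
theorem bcApp_app (W : P.Opens) (m : Γ((Scheme.Modules.pushforward i).obj F, W)) :
    (bcApp w F).app (π ⁻¹ᵁ W)
        (((Scheme.Modules.pullbackPushforwardAdjunction π).unit.app _).app W m) =
      ((Scheme.Modules.pullback g).obj F).presheaf.map
          (eqToHom (show i' ⁻¹ᵁ (π ⁻¹ᵁ W) = g ⁻¹ᵁ (i ⁻¹ᵁ W) by
            rw [← Scheme.Hom.comp_preimage, ← Scheme.Hom.comp_preimage, w])).op
        (((Scheme.Modules.pullbackPushforwardAdjunction g).unit.app F).app (i ⁻¹ᵁ W) m) := by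
  have h := ConcreteCategory.congr_hom (congrArg (fun χ => Scheme.Modules.Hom.app χ W) (unit_bcApp w F)) m
  simp only [Scheme.Modules.Hom.comp_app, ConcreteCategory.comp_apply] at h
  have h2 := cIso_app_app w ((Scheme.Modules.pullback g).obj F) W
    (((Scheme.Modules.pullbackPushforwardAdjunction g).unit.app F).app (i ⁻¹ᵁ W) m)
  exact h.trans h2

/-- A stalk of a direct image off the closed range. -/
theorem subsingleton_stalk_push {Z X : Scheme.{u}} (j : Z ⟶ X) (hj : IsClosed (Set.range j))
    (M : Z.Modules) {x : X} (hx : x ∉ Set.range j) :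
    Subsingleton (((Scheme.Modules.pushforward j).obj M).presheaf.stalk x) := by
  refine subsingleton_of_forall_eq 0 fun t => ?_
  obtain ⟨V, hxV, s, rfl⟩ := exists_germM_eq _ x t
  let W : X.Opens := V ⊓ ⟨(Set.range j)ᶜ, hj.isOpen_compl⟩
  have hW : x ∈ W := ⟨hxV, hx⟩
  have hs : ((Scheme.Modules.pushforward j).obj M).presheaf.map (homOfLE (inf_le_left : W ≤ V)).op s = 0 := by
    refine TopCat.Presheaf.section_ext (F := ⟨M.presheaf, M.isSheaf⟩) (j ⁻¹ᵁ W) _ _ fun z hz => ?_
    exact absurd ⟨z, rfl⟩ hz.2
  refine (((Scheme.Modules.pushforward j).obj M).presheaf.germ_res_apply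
    (homOfLE (inf_le_left : W ≤ V)) x hW s).symm.trans ?_
  rw [hs, map_zero]

variable [IsClosedImmersion i] [IsClosedImmersion i']

set_option maxHeartbeats 1600000 in
theorem bijective_bcApp (sq : IsPullback i' g π i) (p' : P') :
    Function.Bijective ((DerSch.stalkFunctor P' p').map (bcApp sq.w.symm F)).hom := by
  by_cases hp : p' ∈ Set.range i'
  swap
  · have h2 : Subsingleton (((Scheme.Modules.pushforward i').obj
        ((Scheme.Modules.pullback g).obj F)).presheaf.stalk p') :=
      subsingleton_stalk_push i' i'.isClosedEmbedding.isClosed_range _ hp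
    have hp0 : π p' ∉ Set.range i := fun ⟨u, hu⟩ => hp <| by
      obtain ⟨x, hx, -⟩ := Scheme.exists_preimage_of_isPullback sq p' u hu.symm
      exact ⟨x, hx⟩
    have : Subsingleton (((Scheme.Modules.pushforward i).obj F).presheaf.stalk (π p')) :=
      subsingleton_stalk_push i i.isClosedEmbedding.isClosed_range _ hp0
    let := (π.stalkMap p').hom.toAlgebra
    let := moduleOver π ((Scheme.Modules.pushforward i).obj F) p'
    have : IsScalarTower (P.presheaf.stalk (π p')) (P'.presheaf.stalk p')
        (((Scheme.Modules.pullback π).obj ((Scheme.Modules.pushforward i).obj F)).presheaf.stalk p') :=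
      IsScalarTower.of_algebraMap_smul fun _ _ => rfl
    have hB := isBaseChange_unitStalk π ((Scheme.Modules.pushforward i).obj F) p'
    have h1 : Subsingleton
        (((Scheme.Modules.pullback π).obj ((Scheme.Modules.pushforward i).obj F)).presheaf.stalk p') :=
      hB.equiv.symm.toEquiv.subsingleton
    refine ⟨fun a b _ => ?_, fun b => ⟨0, ?_⟩⟩
    · exact @Subsingleton.elim _ h1 a b
    · exact @Subsingleton.elim _ h2 _ b
  obtain ⟨x, rfl⟩ := hp
  have w : g ≫ i = i' ≫ π := sq.w.symm
  have hx : i (g x) = π (i' x) := congr($w x)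
  let s₀ := Omega.StalkSeq.σ (i := i') (i' := i) (g := π) (gZ := g) w x
  let Mst := F.presheaf.stalk (g x)
  let π₁ := ((Scheme.Modules.pullback π).obj ((Scheme.Modules.pushforward i).obj F))
  let : Algebra (P.presheaf.stalk (i (g x))) (P'.presheaf.stalk (i' x)) := s₀.hom.toAlgebra
  let : Algebra (P.presheaf.stalk (i (g x))) (U.presheaf.stalk (g x)) := (i.stalkMap (g x)).hom.toAlgebra
  let : Algebra (U.presheaf.stalk (g x)) (U'.presheaf.stalk x) := (g.stalkMap x).hom.toAlgebra
  let : Algebra (P'.presheaf.stalk (i' x)) (U'.presheaf.stalk x) := (i'.stalkMap x).hom.toAlgebra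
  let : Algebra (P.presheaf.stalk (i (g x))) (U'.presheaf.stalk x) :=
    ((g.stalkMap x).hom.comp (i.stalkMap (g x)).hom).toAlgebra
  have : IsScalarTower (P.presheaf.stalk (i (g x))) (U.presheaf.stalk (g x)) (U'.presheaf.stalk x) :=
    .of_algebraMap_eq' rfl
  have : IsScalarTower (P.presheaf.stalk (i (g x))) (P'.presheaf.stalk (i' x)) (U'.presheaf.stalk x) :=
    .of_algebraMap_eq fun a => (Omega.StalkSeq.stalkMap_σ (i := i') (i' := i) (g := π) (gZ := g) w x a).symm
  let : Module (P.presheaf.stalk (i (g x))) Mst := Module.compHom Mst (i.stalkMap (g x)).hom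
  have : IsScalarTower (P.presheaf.stalk (i (g x))) (U.presheaf.stalk (g x)) Mst :=
    .of_algebraMap_smul fun _ _ => rfl
  let : Module (P.presheaf.stalk (i (g x))) (π₁.presheaf.stalk (i' x)) := Module.compHom _ s₀.hom
  have : IsScalarTower (P.presheaf.stalk (i (g x))) (P'.presheaf.stalk (i' x)) (π₁.presheaf.stalk (i' x)) :=
    .of_algebraMap_smul fun _ _ => rfl
  let := moduleOver g F x
  have : IsScalarTower (U.presheaf.stalk (g x)) (U'.presheaf.stalk x)
      (((Scheme.Modules.pullback g).obj F).presheaf.stalk x) :=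
    IsScalarTower.of_algebraMap_smul fun _ _ => rfl
  let sp := ((Scheme.Modules.pushforward i).obj F).presheaf.stalkSpecializes (Specializes.of_eq hx.symm)
  let sp' := ((Scheme.Modules.pushforward i).obj F).presheaf.stalkSpecializes (Specializes.of_eq hx)
  let ei : Mst ≃+ ((Scheme.Modules.pushforward i).obj F).presheaf.stalk (i (g x)) :=
    (AddEquiv.ofBijective
      (TopCat.Presheaf.stalkPushforward AddCommGrpCat i.base F.presheaf (g x)).hom
      (ClUnit.stalkPushforward_bijective i F i.isClosedEmbedding.isInducing (g x))).symm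
  have hgerm : ∀ t : Mst, ∃ (W : P.Opens) (hW : i (g x) ∈ W)
      (m : Γ((Scheme.Modules.pushforward i).obj F, W)),
      t = germM F (i ⁻¹ᵁ W) (g x) hW m ∧ sp (ei t) = germM _ W (π (i' x)) (hx ▸ hW) m := by
    intro t
    obtain ⟨W, hW, m, hm⟩ := exists_germM_eq ((Scheme.Modules.pushforward i).obj F) (i (g x)) (ei t)
    refine ⟨W, hW, m, ?_, ?_⟩
    · have := congrArg ei.symm hm
      rw [AddEquiv.symm_apply_apply] at this
      refine this.symm.trans ?_
      exact TopCat.Presheaf.stalkPushforward_germ_apply AddCommGrpCat i.base F.presheaf W (g x) hW m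
    · rw [← hm]
      exact TopCat.Presheaf.germ_stalkSpecializes_apply _ hW _ m
  let φ₁ : Mst →ₗ[P.presheaf.stalk (i (g x))] π₁.presheaf.stalk (i' x) :=
    { toFun := fun t => unitStalkHom π _ (i' x) (sp (ei t))
      map_add' := fun a b => by rw [map_add, map_add, map_add]
      map_smul' := fun r t => by
        have hh : ei (r • t) = r • ei t := by
          obtain ⟨q, rfl⟩ := ei.symm.surjective t
          rw [AddEquiv.apply_symm_apply]
          apply ei.symm.injective
          rw [AddEquiv.symm_apply_apply]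
          exact ((pushStalkLin i F (g x)).hom.map_smul r q).symm
        rw [hh]
        change unitStalkHom π _ (i' x) (sp (r • ei t)) = _
        rw [show sp (r • ei t) = P.presheaf.stalkSpecializes (Specializes.of_eq hx.symm) r • sp (ei t) from
          stalkSpecializes_smul _ _ r _, unitStalkHom_smul]
        rfl }
  have hbij : Function.Bijective fun t : Mst => sp (ei t) :=
    (Function.bijective_iff_has_inverse.2 ⟨sp', fun t => by
      obtain ⟨W, hW, m, rfl⟩ := exists_germM_eq _ (i (g x)) t
      exact (congrArg sp' (TopCat.Presheaf.germ_stalkSpecializes_apply _ hW _ m)).trans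
        (TopCat.Presheaf.germ_stalkSpecializes_apply _ _ _ m), fun t => by
      obtain ⟨W, hW, m, rfl⟩ := exists_germM_eq _ (π (i' x)) t
      exact (congrArg sp (TopCat.Presheaf.germ_stalkSpecializes_apply _ hW _ m)).trans
        (TopCat.Presheaf.germ_stalkSpecializes_apply _ _ _ m)⟩).comp ei.bijective
  have h₁ : IsBaseChange (P'.presheaf.stalk (i' x)) φ₁ := by
    let := (π.stalkMap (i' x)).hom.toAlgebra
    let := moduleOver π ((Scheme.Modules.pushforward i).obj F) (i' x)
    have : IsScalarTower (P.presheaf.stalk (π (i' x))) (P'.presheaf.stalk (i' x)) (π₁.presheaf.stalk (i' x)) :=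
      IsScalarTower.of_algebraMap_smul fun _ _ => rfl
    refine isBaseChange_transport (P.presheaf.stalkSpecializes (Specializes.of_eq hx.symm)).hom ?_
      (fun _ => rfl) (AddEquiv.ofBijective (AddMonoidHom.mk' (fun t : Mst => sp (ei t))
        fun a b => by rw [map_add, map_add]) hbij) ?_
      (isBaseChange_unitStalk π ((Scheme.Modules.pushforward i).obj F) (i' x)) fun _ => rfl
    · intro a
      obtain ⟨V, hV, b, rfl⟩ := P.presheaf.exists_germ_eq (x := π (i' x)) a
      exact ⟨P.presheaf.germ V _ (hx.symm ▸ hV) b, TopCat.Presheaf.germ_stalkSpecializes_apply _ _ _ b⟩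
    · intro r t
      have hh : ei (r • t) = r • ei t := by
        obtain ⟨q, rfl⟩ := ei.symm.surjective t
        rw [AddEquiv.apply_symm_apply]
        apply ei.symm.injective
        rw [AddEquiv.symm_apply_apply]
        exact ((pushStalkLin i F (g x)).hom.map_smul r q).symm
      change sp (ei (r • t)) = _
      rw [hh]
      exact stalkSpecializes_smul _ _ r _
  have h₂ := isBaseChange_unitStalk g F x
  let θ : π₁.presheaf.stalk (i' x) →+ ((Scheme.Modules.pullback g).obj F).presheaf.stalk x :=
    (TopCat.Presheaf.stalkPushforward AddCommGrpCat i'.base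
      ((Scheme.Modules.pullback g).obj F).presheaf x).hom.comp
      ((DerSch.stalkFunctor P' (i' x)).map (bcApp w F)).hom.toAddMonoidHom
  have hθ : Function.Bijective θ := by
    refine bijective_of_isBaseChange (i.stalkMap_surjective (g x)) (i'.stalkMap_surjective x) ?_ h₁ h₂ θ
      ?_ ?_
    · exact (Omega.ConormalBC.ker_stalkMap_eq_map (i := i') (i' := i) (g := π) (gZ := g) sq w x).le
    · intro r n
      exact (congrArg _ (map_smul ((DerSch.stalkFunctor P' (i' x)).map (bcApp w F)).hom r n)).trans
        ((pushStalkLin i' ((Scheme.Modules.pullback g).obj F) x).hom.map_smul _ _)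
    · intro t
      obtain ⟨W, hW, m, rfl, hm⟩ := hgerm t
      change θ (unitStalkHom π _ (i' x) (sp (ei (germM F (i ⁻¹ᵁ W) (g x) hW m)))) = unitStalkHom g F x _
      rw [hm, unitStalkHom_germ]
      refine (congrArg (TopCat.Presheaf.stalkPushforward AddCommGrpCat i'.base
        ((Scheme.Modules.pullback g).obj F).presheaf x) (DerSch.stalkFunctor_map_germ _ _ _ _ _)).trans ?_
      refine (TopCat.Presheaf.stalkPushforward_germ_apply AddCommGrpCat i'.base
        ((Scheme.Modules.pullback g).obj F).presheaf _ x _ _).trans ?_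
      rw [bcApp_app]
      refine (((Scheme.Modules.pullback g).obj F).presheaf.germ_res_apply _ _ _ _).trans ?_
      exact (unitStalkHom_germ g F x (i ⁻¹ᵁ W) hW m).symm
  exact (Function.Bijective.of_comp_iff'
    (ClUnit.stalkPushforward_bijective i' _ i'.isClosedEmbedding.isInducing x) _).1 hθ

/-- Base change of direct images along closed immersions. -/
def bcIso (sq : IsPullback i' g π i) :
    Scheme.Modules.pushforward i ⋙ Scheme.Modules.pullback π ≅
      Scheme.Modules.pullback g ⋙ Scheme.Modules.pushforward i' :=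
  have : ∀ F, IsIso ((bcNat sq.w.symm).app F) := fun F =>
    KFlat.PullTensor.isIso_of_stalk_bijective (bcApp sq.w.symm F) fun p => bijective_bcApp F sq p
  have := NatIso.isIso_of_isIso_app (bcNat sq.w.symm)
  asIso (bcNat sq.w.symm)

end Groth.Agent.FlatMor62.PushPullCl
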