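import Groth.Agent.EtConsAb.RedFibreIdem
import Mathlib.RingTheory.Polynomial.ScaleRoots
import Mathlib.RingTheory.IntegralClosure.IntegrallyClosed

/-!
# Flat algebras with geometrically reduced fibres over a normal domain are integrally closed in the
generic fibre

(EGA IV 6.14.1 / Bosch-Lütkebohmert-Raynaud, no Noetherian hypothesis.)
-/

set_option autoImplicit false
set_option linter.style.haveILetI false

universe u

open TensorProduct

namespace Groth.Agent.FlatMor62.RedFibreNormal

open Groth.Agent.EtConsAb.RedFibre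

variable {A C : Type u} [CommRing A] [CommRing C] [Algebra A C]

attribute [local instance] Algebra.TensorProduct.rightAlgebra

/-- At a generic point of a fibre the local ring is integrally closed. -/
theorem isIntegrallyClosed_localization_minimal [IsDomain A] [IsIntegrallyClosed A]
    [Algebra.FinitePresentation A C] [Module.Flat A C]
    (hred : ∀ (K : Type u) [Field K] [Algebra A K], IsReduced (K ⊗[A] C))
    (q : Ideal A) [q.IsPrime] (Q : Ideal (q.Fiber C)) [Q.IsPrime] (hQm : Q ∈ minimalPrimes (q.Fiber C))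
    (y : Ideal C) [y.IsPrime] (hy : Q.comap (algebraMap C (q.Fiber C)) = y) :
    IsIntegrallyClosed (Localization.AtPrime y) := by
  haveI := isGeometricallyReduced_fiber hred q
  haveI : y.LiesOver q := by
    refine ⟨?_⟩
    have h1 : (Q.comap (algebraMap q.ResidueField (q.Fiber C))).comap (algebraMap A q.ResidueField) = q := by
      rw [Ideal.eq_bot_of_prime (Q.comap (algebraMap q.ResidueField (q.Fiber C)))]
      exact Ideal.ker_algebraMap_residueField q
    rw [Ideal.under_def, ← hy, Ideal.comap_comap, ← IsScalarTower.algebraMap_eq,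
      IsScalarTower.algebraMap_eq A q.ResidueField (q.Fiber C), ← Ideal.comap_comap, h1]
  haveI := isSmoothAt_minimal q.ResidueField (q.Fiber C) Q hQm
  haveI : Module.Flat A (Localization.AtPrime y) := Module.Flat.trans A C (Localization.AtPrime y)
  have hsm := EtStruct.isSmoothAt_of_fiber_at q y Q hy
  obtain ⟨g, hg, hgs⟩ := Algebra.IsSmoothAt.exists_notMem_smooth A y
  let Cg := Localization.Away g
  have hd : Disjoint (Submonoid.powers g : Set C) (y : Set C) :=
    (Ideal.disjoint_powers_iff_notMem_of_isPrime _).mpr hg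
  let y₁ := y.map (algebraMap C Cg)
  haveI : y₁.IsPrime := IsLocalization.isPrime_of_isPrime_disjoint (.powers g) Cg y ‹_› hd
  have hy₁ : y₁.comap (algebraMap C Cg) = y :=
    IsLocalization.under_map_of_isPrime_disjoint (.powers g) Cg ‹_› hd
  haveI := (Omega.SmoothNormal.isNormal_localization_of_domain (A := A) (B := Cg) y₁).2
  haveI hloc : IsLocalization.AtPrime (Localization.AtPrime y₁) y := by
    have := IsLocalization.isLocalization_isLocalization_atPrime_isLocalization (Submonoid.powers g)
      (Localization.AtPrime y₁) y₁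
    convert this using 2
    exact hy₁.symm
  exact IsIntegrallyClosed.of_equiv
    (IsLocalization.algEquiv y.primeCompl (Localization.AtPrime y₁) (Localization.AtPrime y)).toRingEquiv

/-- An element of the generic fibre which is integral over `C` lies in `C`. -/
theorem dvd_of_scaleRoots_eq_zero [IsDomain A] [IsIntegrallyClosed A]
    [Algebra.FinitePresentation A C] [Module.Flat A C]
    (hred : ∀ (K : Type u) [Field K] [Algebra A K], IsReduced (K ⊗[A] C))
    {a : A} (ha : a ≠ 0) {b : C} (g : Polynomial C) (hg : g.Monic)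
    (hb : (g.scaleRoots (algebraMap A C a)).eval b = 0) :
    algebraMap A C a ∣ b := by
  classical
  let J : Ideal C := (Ideal.span {algebraMap A C a}).colon (Ideal.span {b} : Set C)
  have hJ : ∀ s, s ∈ J ↔ algebraMap A C a ∣ s * b := fun s => by
    simp only [J, Submodule.mem_colon]
    constructor
    · intro h
      exact Ideal.mem_span_singleton.1 (h b (Ideal.mem_span_singleton_self b))
    · intro h z hz
      obtain ⟨c, rfl⟩ := Ideal.mem_span_singleton.1 hz
      rw [smul_eq_mul, ← mul_assoc]
      exact Ideal.mem_span_singleton.2 (h.mul_right c)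
  by_contra hne
  have hJt : J ≠ ⊤ := fun h => hne (by simpa using (hJ 1).1 (h ▸ Submodule.mem_top))
  obtain ⟨y, hy⟩ := Ideal.nonempty_minimalPrimes hJt
  haveI : y.IsPrime := hy.1.1
  let q := y.comap (algebraMap A C)
  haveI hqp : q.IsPrime := Ideal.IsPrime.comap _
  haveI := isGeometricallyReduced_fiber hred q
  haveI : _root_.IsReduced (q.Fiber C) := Algebra.isReduced_of_isGeometricallyReduced q.ResidueField
  haveI : IsNoetherianRing (q.Fiber C) := Algebra.FiniteType.isNoetherianRing q.ResidueField _
  by_cases hmin : ∃ Q : PrimeSpectrum (q.Fiber C), Q.asIdeal ∈ minimalPrimes (q.Fiber C) ∧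
      Q.asIdeal.comap (algebraMap C (q.Fiber C)) = y
  · obtain ⟨Q, hQm, hQy⟩ := hmin
    haveI := isDomain_localization_minimal hred q Q.asIdeal hQm y hQy
    haveI := isIntegrallyClosed_localization_minimal hred q Q.asIdeal hQm y hQy
    let Cy := Localization.AtPrime y
    let L := FractionRing Cy
    let φ : C →+* L := (algebraMap Cy L).comp (algebraMap C Cy)
    haveI : Module.Flat A Cy := Module.Flat.trans A C Cy
    have hne0 : algebraMap C Cy (algebraMap A C a) ≠ 0 := fun h => by
      rw [← IsScalarTower.algebraMap_apply] at h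
      have h' : a • (1 : Cy) = 0 := by rw [← Algebra.algebraMap_eq_smul_one]; exact h
      exact one_ne_zero ((smul_eq_zero.1 h').resolve_left ha)
    have hφ : φ (algebraMap A C a) ≠ 0 := fun h =>
      hne0 (IsFractionRing.injective Cy L (by rw [map_zero]; exact h))
    let r : L := φ b / φ (algebraMap A C a)
    have hr : φ (algebraMap A C a) * r = φ b := mul_div_cancel₀ _ hφ
    have hroot : g.eval₂ φ r = 0 := by
      have h0 := Polynomial.scaleRoots_eval₂_mul (p := g) φ r (algebraMap A C a)
      rw [hr, Polynomial.eval₂_at_apply, hb, map_zero] at h0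
      exact (mul_eq_zero.1 h0.symm).resolve_left (pow_ne_zero _ hφ)
    have hint : IsIntegral Cy r := ⟨g.map (algebraMap C Cy), hg.map _, by
      rw [Polynomial.eval₂_map]; exact hroot⟩
    obtain ⟨z, hz⟩ := IsIntegrallyClosed.isIntegral_iff.1 hint
    have hzb : algebraMap C Cy b = algebraMap C Cy (algebraMap A C a) * z := by
      refine IsFractionRing.injective Cy L ?_
      rw [map_mul, hz]
      exact hr.symm
    obtain ⟨c, ⟨t, ht⟩, hct⟩ := IsLocalization.exists_mk'_eq y.primeCompl z
    rw [← hct, IsLocalization.mul_mk'_eq_mk'_of_mul, IsLocalization.eq_mk'_iff_mul_eq, ← map_mul] at hzb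
    obtain ⟨⟨u, hu⟩, huu⟩ := (IsLocalization.eq_iff_exists y.primeCompl Cy).1 hzb
    have hmem : u * t ∈ J := (hJ _).2 ⟨u * c, by simp only at huu; linear_combination huu⟩
    exact y.primeCompl.mul_mem hu ht (hy.1.2 hmem)
  · -- `y` is not generic in its fibre: cut by an element regular on the fibre
    obtain ⟨s, hsy, hs⟩ : ∃ s ∈ y, ∀ P ∈ minimalPrimes (q.Fiber C), algebraMap C (q.Fiber C) s ∉ P := by
      let T : Finset (Ideal C) := (minimalPrimes.finite_of_isNoetherianRing (q.Fiber C)).toFinset.image
        fun P => P.comap (algebraMap C (q.Fiber C))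
      have hT : ¬ (y : Set C) ⊆ ⋃ P ∈ (T : Set (Ideal C)), (id P : Ideal C) := fun hsub => by
        obtain ⟨P', hP', hle⟩ := (Ideal.subset_union_prime y y fun P hP _ _ => by
          obtain ⟨P₀, hP₀, rfl⟩ := Finset.mem_image.1 hP
          haveI := ((Set.Finite.mem_toFinset _).1 hP₀).1.1
          exact Ideal.IsPrime.comap _).1 hsub
        obtain ⟨P, hP, rfl⟩ := Finset.mem_image.1 hP'
        have hPm := (Set.Finite.mem_toFinset _).1 hP
        haveI := hPm.1.1
        refine hmin ⟨⟨P, hPm.1.1⟩, hPm, le_antisymm ?_ hle⟩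
        let e := PrimeSpectrum.preimageOrderIsoFiber A C ⟨q, hqp⟩
        let Q : PrimeSpectrum (q.Fiber C) := e ⟨⟨y, inferInstance⟩, rfl⟩
        have hQle : e.symm ⟨P, hPm.1.1⟩ ≥ e.symm Q := by
          rw [OrderIso.symm_apply_apply]
          exact hle
        have hPQ : P ≤ Q.asIdeal := hPm.2 ⟨Q.isPrime, bot_le⟩ (e.symm.le_iff_le.1 hQle)
        have := e.symm.monotone (show (⟨P, hPm.1.1⟩ : PrimeSpectrum (q.Fiber C)) ≤ Q from hPQ)
        rw [OrderIso.symm_apply_apply] at this
        exact this
      obtain ⟨s, hsy, hs⟩ := Set.not_subset.1 hT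
      refine ⟨s, hsy, fun P hP hmem => hs ?_⟩
      exact Set.mem_biUnion (Finset.mem_image.2 ⟨P, (Set.Finite.mem_toFinset _).2 hP, rfl⟩) hmem
    have hnzd : ∀ z : q.Fiber C, algebraMap C (q.Fiber C) s * z = 0 → z = 0 := fun z hz => by
      rw [← Submodule.mem_bot (R := q.Fiber C), ← (nilradical_eq_zero (q.Fiber C)).trans Submodule.zero_eq_bot,
        nilradical, ← Ideal.sInf_minimalPrimes, Submodule.mem_sInf]
      intro P hP
      haveI := hP.1.1
      exact (Ideal.IsPrime.mem_or_mem hP.1.1 (hz ▸ P.zero_mem)).resolve_left (hs P hP)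
    haveI : Module.Flat A (Localization.AtPrime y) := Module.Flat.trans A C (Localization.AtPrime y)
    have hflat : FlatCA.FlatAt A y C :=
      Module.Flat.of_linearEquiv
        ((IsLocalizedModule.iso y.primeCompl (Algebra.linearMap C (Localization.AtPrime y))).restrictScalars A)
    obtain ⟨g, hgy, hgseq⟩ := FlatOpen.exists_slice_seq (R := A) y hflat [s] fun k hk m hm => by
      obtain rfl : k = 0 := by simpa using hk
      simp only [List.take_zero, Ideal.ofList_nil, sup_bot_eq, List.getElem_cons_zero] at hm ⊢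
      have h0 : algebraMap C (q.Fiber C) (s * m) = 0 := by
        have hle : q.map (algebraMap A C) ≤ RingHom.ker (algebraMap C (q.Fiber C)) :=
          Ideal.map_le_iff_le_comap.2 fun r hr => by
            show algebraMap C (q.Fiber C) (algebraMap A C r) = 0
            rw [← IsScalarTower.algebraMap_apply, IsScalarTower.algebraMap_apply A q.ResidueField (q.Fiber C),
              Ideal.algebraMap_residueField_eq_zero.2 hr, map_zero]
        exact hle hm
      rw [map_mul] at h0
      obtain ⟨t, ht, htm⟩ := EtaleStrat.exists_smul_mem_map_of_fiber_eq_zero q (hnzd _ h0)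
      refine ⟨algebraMap A C t, ht, ?_⟩
      rwa [← Algebra.smul_def]
    let Cg := Localization.Away g
    obtain ⟨hreg, hfl⟩ := hgseq Cg
    have hflq := hfl 1 (by simp)
    simp only [List.map_cons, List.map_nil, List.take_succ_cons, List.take_zero] at hflq hreg
    have hs' : IsSMulRegular Cg (algebraMap C Cg s) :=
      ((RingTheory.Sequence.isWeaklyRegular_cons_iff' Cg _ _).1 hreg).1
    have hdiv : ∀ c : Cg, algebraMap A Cg a ∣ algebraMap C Cg s * c → algebraMap A Cg a ∣ c := by
      rintro c ⟨d, hd⟩
      have h1 : a • (Ideal.Quotient.mk (Ideal.ofList [algebraMap C Cg s]) d) = 0 := by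
        rw [← Ideal.Quotient.mkₐ_eq_mk A, ← map_smul, Algebra.smul_def, ← hd, Ideal.Quotient.mkₐ_eq_mk,
          Ideal.Quotient.eq_zero_iff_mem, Ideal.ofList_singleton]
        exact Ideal.mul_mem_right _ _ (Ideal.mem_span_singleton_self _)
      haveI : Module.Flat A (Cg ⧸ Ideal.ofList [algebraMap C Cg s]) := hflq
      have h2 := (smul_eq_zero.1 h1).resolve_left ha
      rw [Ideal.Quotient.eq_zero_iff_mem, Ideal.ofList_singleton, Ideal.mem_span_singleton] at h2
      obtain ⟨d', rfl⟩ := h2
      exact ⟨d', hs' (by simp only [smul_eq_mul]; rw [hd]; ring)⟩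
    -- some power of `s` lies in the colon ideal near `y`
    obtain ⟨t, hty, n, htn⟩ : ∃ t ∉ y, ∃ n : ℕ, t * s ^ n ∈ J := by
      by_contra hcon
      push_neg at hcon
      have hd : Disjoint ((J : Set C)) ((y.primeCompl ⊔ Submonoid.powers s : Submonoid C) : Set C) := by
        rw [Set.disjoint_left]
        intro x hx hx'
        obtain ⟨t, ht, u, ⟨n, rfl⟩, rfl⟩ := Submonoid.mem_sup.1 hx'
        exact hcon t ht n hx
      obtain ⟨P, hP, hJP, hdis⟩ := Ideal.exists_le_prime_disjoint J _ hd
      have hPy : P ≤ y := fun x hx => by_contra fun hxy =>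
        Set.disjoint_left.1 hdis hx (Submonoid.mem_sup_left (show x ∈ y.primeCompl from hxy))
      exact Set.disjoint_left.1 hdis (hy.2 ⟨hP, hJP⟩ hPy hsy)
        (Submonoid.mem_sup_right (Submonoid.mem_powers s))
    have hkey : algebraMap A Cg a ∣ algebraMap C Cg (t * b) := by
      obtain ⟨c, hc⟩ := (hJ _).1 htn
      have h : algebraMap A Cg a ∣ algebraMap C Cg s ^ n * algebraMap C Cg (t * b) := by
        refine ⟨algebraMap C Cg c, ?_⟩
        rw [← map_pow, ← map_mul, IsScalarTower.algebraMap_apply A C Cg, ← map_mul, ← hc]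
        ring_nf
      induction n with
      | zero => simpa using h
      | succ n ih => 
        refine hdiv _ ?_
        clear ih htn hc
        induction n with
        | zero => simpa using h
        | succ n ih => exact ih (hdiv _ (by rwa [← mul_assoc, ← pow_succ']))
    obtain ⟨c, hc⟩ := hkey
    obtain ⟨⟨c₀, ⟨_, k, rfl⟩⟩, hc₀⟩ := IsLocalization.surj (Submonoid.powers g) c
    have h2 : algebraMap C Cg (g ^ k * t * b) = algebraMap C Cg (algebraMap A C a * c₀) := by
      rw [mul_assoc, map_mul, map_mul (algebraMap C Cg) (algebraMap A C a), hc, ← hc₀,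
        ← IsScalarTower.algebraMap_apply]
      ring
    obtain ⟨⟨_, m, rfl⟩, hm⟩ := (IsLocalization.eq_iff_exists (Submonoid.powers g) Cg).1 h2
    have hmem : g ^ m * g ^ k * t ∈ J := (hJ _).2 ⟨g ^ m * c₀, by
      rw [mul_assoc (g ^ m), mul_assoc (g ^ m), hm]; ring⟩
    have hyp := ‹y.IsPrime›
    rcases hyp.mem_or_mem (hy.1.2 hmem) with h | h
    · rcases hyp.mem_or_mem h with h' | h' <;> exact hgy (hyp.mem_of_pow_mem _ h')
    · exact hty h

/-- An integral extension of `C` inside the generic fibre is trivial. -/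
theorem surjective_of_isIntegral [IsDomain A] [IsIntegrallyClosed A]
    [Algebra.FinitePresentation A C] [Module.Flat A C]
    (hred : ∀ (K : Type u) [Field K] [Algebra A K], IsReduced (K ⊗[A] C))
    {C' : Type u} [CommRing C'] (α : C →+* C') (hint : α.IsIntegral) (hinj : Function.Injective α)
    (hfrac : ∀ x : C', ∃ a : A, a ≠ 0 ∧ α (algebraMap A C a) * x ∈ α.range)
    (htf : ∀ (a : A) (x : C'), a ≠ 0 → α (algebraMap A C a) * x = 0 → x = 0) :
    Function.Surjective α := by
  intro x
  obtain ⟨a, ha, b, hb⟩ := hfrac x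
  obtain ⟨g, hg, hgx⟩ := hint x
  have h0 : (g.scaleRoots (algebraMap A C a)).eval b = 0 := by
    refine hinj ?_
    rw [map_zero, ← Polynomial.eval₂_at_apply, hb, Polynomial.scaleRoots_eval₂_mul, hgx, mul_zero]
  obtain ⟨c, rfl⟩ := dvd_of_scaleRoots_eq_zero hred ha g hg h0
  refine ⟨c, sub_eq_zero.1 (htf a _ ha ?_)⟩
  rw [mul_sub, ← map_mul, hb, sub_self]

end Groth.Agent.FlatMor62.RedFibreNormal
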