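import Groth.Agent.FlatMor62.PushPullCl
import Groth.Agent.KFlat.LocalD
import Groth.Agent.PCohD.RelCrit
import Mathlib.AlgebraicGeometry.Morphisms.Flat

/-!
# Relative pseudo-coherence in a given degree under flat base change, for arbitrary complexes
-/

set_option autoImplicit false
set_option backward.isDefEq.respectTransparency false
set_option backward.isDefEq.respectTransparency.types false

universe u

open CategoryTheory CategoryTheory.Limits DerivedCategory AlgebraicGeometry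
open Groth.Agent.KFlat.Pull Groth.Agent.PCohD

attribute [local instance] HasDerivedCategory.standard

noncomputable section

namespace Groth.Agent.FlatMor62.RelFlatBCAny

variable {X X' Y Y' U U' P P' : Scheme.{u}}

/-- Derived pullback along a flat morphism. -/
theorem nonempty_lpull_flat (f : X ⟶ Y) [Flat f] [DCoh.HasLpull f] (K : DCoh.D Y) :
    Nonempty ((DCoh.Lpull f).obj K ≅ (Scheme.Modules.pullback f).mapDerivedCategory.obj K) := by
  let F₀ := DerivedCategory.Q.objPreimage K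
  let P₀ := (resY Y).obj F₀
  have := quasiIso_resYπ F₀
  let eP : DCoh.toD Y P₀ ≅ K :=
    asIso (DerivedCategory.Q.map ((resYπ Y).app F₀)) ≪≫ DerivedCategory.Q.objObjPreimageIso K
  have := isIso_toPull f (isKFlat_resY F₀)
  exact ⟨(DCoh.Lpull f).mapIso eP.symm ≪≫ asIso ((toPull f).app P₀) ≪≫
    ((Scheme.Modules.pullback f).mapDerivedCategoryFactors.app P₀).symm ≪≫
      (Scheme.Modules.pullback f).mapDerivedCategory.mapIso eP⟩

/-- Pullback along a flat morphism keeps pseudo-coherence. -/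
theorem pc_pullback (f : X ⟶ Y) [Flat f] {K : DCoh.D Y} {m : ℤ} (h : DCoh.IsPseudoCoherentD m K) :
    DCoh.IsPseudoCoherentD m ((Scheme.Modules.pullback f).mapDerivedCategory.obj K) := by
  have := hasLpull f
  obtain ⟨e⟩ := nonempty_lpull_flat f K
  exact pc_of_iso e (KFlat.LocalD.isPseudoCoherentD_Lpull f h)

set_option maxHeartbeats 1600000 in
/-- The test under flat base change. -/
theorem test_bc {m : ℤ} {p : X' ⟶ X} [Flat p] [DCoh.HasLpull p] {g : U' ⟶ U} [Flat g] {π : P' ⟶ P} [Flat π]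
    (o : U ⟶ X) [IsOpenImmersion o] (o' : U' ⟶ X') [IsOpenImmersion o']
    (i : U ⟶ P) [IsClosedImmersion i] (i' : U' ⟶ P') [IsClosedImmersion i']
    (sq : IsPullback i' g π i) (ho : o' ≫ p = g ≫ o) (K : DCoh.D X) (h : Test m o i K) :
    Test m o' i' ((DCoh.Lpull p).obj K) := by
  obtain ⟨eK⟩ := nonempty_lpull_flat p K
  let η : Scheme.Modules.restrictFunctor o ⋙ Scheme.Modules.pullback g ≅
      Scheme.Modules.pullback p ⋙ Scheme.Modules.restrictFunctor o' :=
    Functor.isoWhiskerRight (Scheme.Modules.restrictFunctorIsoPullback o) _ ≪≫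
      Scheme.Modules.pullbackComp g o ≪≫ Scheme.Modules.pullbackCongr ho.symm ≪≫
      (Scheme.Modules.pullbackComp o' p).symm ≪≫
      Functor.isoWhiskerLeft _ (Scheme.Modules.restrictFunctorIsoPullback o').symm
  let L := (DCoh.restrictD o).obj K
  let e₁ : (Scheme.Modules.pullback π).mapDerivedCategory.obj ((pushD i).obj L) ≅
      (pushD i').obj ((Scheme.Modules.pullback g).mapDerivedCategory.obj L) :=
    dIso (Scheme.Modules.pushforward i) (Scheme.Modules.pullback π) (Scheme.Modules.pullback g)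
      (Scheme.Modules.pushforward i') (PushPullCl.bcIso sq) L
  let e₂ : (Scheme.Modules.pullback g).mapDerivedCategory.obj L ≅
      (DCoh.restrictD o').obj ((Scheme.Modules.pullback p).mapDerivedCategory.obj K) :=
    dIso (Scheme.Modules.restrictFunctor o) (Scheme.Modules.pullback g) (Scheme.Modules.pullback p)
      (Scheme.Modules.restrictFunctor o') η K
  exact pc_of_iso (e₁ ≪≫ (pushD i').mapIso (e₂ ≪≫ (DCoh.restrictD o').mapIso eK.symm)) (pc_pullback π h)

attribute [local instance] MvPolynomial.algebraMvPolynomial in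
/-- Polynomial rings and change of coefficients. -/
theorem isPushout_mvPolynomial (R S : Type u) [CommRing R] [CommRing S] [Algebra R S] (n : ℕ) :
    IsPushout (CommRingCat.ofHom (algebraMap R S))
      (CommRingCat.ofHom (MvPolynomial.C : R →+* MvPolynomial (Fin n) R))
      (CommRingCat.ofHom (MvPolynomial.C : S →+* MvPolynomial (Fin n) S))
      (CommRingCat.ofHom (MvPolynomial.map (algebraMap R S) : MvPolynomial (Fin n) R →+* _)) := by
  have h := CommRingCat.isPushout_of_isPushout R S (MvPolynomial (Fin n) R) (MvPolynomial (Fin n) S)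
  exact h

/-- A pushout square of polynomial presentations. -/
theorem exists_chart_pushout {A A' B B' : CommRingCat.{u}} {a : A ⟶ B} {c : A ⟶ A'} {b : B ⟶ B'} {d : A' ⟶ B'}
    (sq : IsPushout a c b d) {n : ℕ} (φ : MvPolynomial (Fin n) A →+* B) (hφ : Function.Surjective φ)
    (hφC : φ.comp MvPolynomial.C = a.hom) :
    ∃ φ' : MvPolynomial (Fin n) A' →+* B', φ'.comp MvPolynomial.C = d.hom ∧ Function.Surjective φ' ∧
      IsPushout (CommRingCat.ofHom (MvPolynomial.map c.hom : MvPolynomial (Fin n) A →+* _))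
        (CommRingCat.ofHom φ) (CommRingCat.ofHom φ') b := by
  let φ' : MvPolynomial (Fin n) A' →+* B' := MvPolynomial.eval₂Hom d.hom fun k => b (φ (MvPolynomial.X k))
  have hC : φ'.comp MvPolynomial.C = d.hom := RingHom.ext fun r => MvPolynomial.eval₂Hom_C _ _ r
  have hwab : ∀ r, b (a r) = d (c r) := fun r => congr($(sq.w) r)
  have hcomp : φ'.comp (MvPolynomial.map c.hom) = b.hom.comp φ := by
    refine MvPolynomial.ringHom_ext (fun r => ?_) (fun k => ?_)
    · rw [RingHom.comp_apply, RingHom.comp_apply, MvPolynomial.map_C]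
      refine (MvPolynomial.eval₂Hom_C _ _ _).trans ((hwab r).symm.trans ?_)
      exact (congrArg b (congr($hφC r))).symm
    · rw [RingHom.comp_apply, RingHom.comp_apply, MvPolynomial.map_X]
      exact MvPolynomial.eval₂Hom_X' _ _ _
  have htop : IsPushout c (CommRingCat.ofHom (MvPolynomial.C : A →+* MvPolynomial (Fin n) A))
      (CommRingCat.ofHom (MvPolynomial.C : A' →+* MvPolynomial (Fin n) A'))
      (CommRingCat.ofHom (MvPolynomial.map c.hom : MvPolynomial (Fin n) A →+* _)) := by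
    let := c.hom.toAlgebra
    exact isPushout_mvPolynomial A A' n
  have hb : IsPushout (CommRingCat.ofHom (MvPolynomial.map c.hom : MvPolynomial (Fin n) A →+* _))
      (CommRingCat.ofHom φ) (CommRingCat.ofHom φ') b := by
    refine IsPushout.of_top ?_ (CommRingCat.hom_ext hcomp) htop
    have e1 : CommRingCat.ofHom (MvPolynomial.C : A →+* MvPolynomial (Fin n) A) ≫ CommRingCat.ofHom φ = a :=
      CommRingCat.hom_ext hφC
    have e2 : CommRingCat.ofHom (MvPolynomial.C : A' →+* MvPolynomial (Fin n) A') ≫ CommRingCat.ofHom φ' = d :=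
      CommRingCat.hom_ext hC
    rw [e1, e2]
    exact sq.flip
  refine ⟨φ', hC, ?_, hb⟩
  have hcl := CommRingCat.closure_range_union_range_eq_top_of_isPushout hb
  rw [← RingHom.range_eq_top]
  refine top_le_iff.1 (hcl.ge.trans (Subring.closure_le.2 ?_))
  rintro _ (⟨y, rfl⟩ | ⟨y, rfl⟩)
  · exact ⟨y, rfl⟩
  · obtain ⟨z, rfl⟩ := hφ y
    exact ⟨MvPolynomial.map c.hom z, congr($hcomp z)⟩

/-- Flatness of the change of coefficients. -/
theorem flat_spec_map {A A' : CommRingCat.{u}} (c : A ⟶ A') [Flat (Spec.map c)] (n : ℕ) :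
    Flat (Spec.map (CommRingCat.ofHom (MvPolynomial.map c.hom : MvPolynomial (Fin n) A →+* _))) := by
  let := c.hom.toAlgebra
  have h := isPullback_SpecMap_of_isPushout _ _ _ _ (isPushout_mvPolynomial A A' n)
  exact MorphismProperty.of_isPullback (P := @Flat) h (‹Flat (Spec.map c)› : _)

/-- Affine squares in a fibre product. -/
theorem exists_pushout {X Y Y' : Scheme.{u}} (f : X ⟶ Y) (h : Y' ⟶ Y) {V : Y.Opens} (hV : IsAffineOpen V)
    {U : X.Opens} (hU : IsAffineOpen U) {V' : Y'.Opens} (hV' : IsAffineOpen V')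
    (e : U ≤ f ⁻¹ᵁ V) (e' : V' ≤ h ⁻¹ᵁ V) :
    ∃ (W : (pullback f h).Opens) (_ : IsAffineOpen W) (e₁ : W ≤ pullback.fst f h ⁻¹ᵁ U)
      (e₂ : W ≤ pullback.snd f h ⁻¹ᵁ V'),
      W = pullback.fst f h ⁻¹ᵁ U ⊓ pullback.snd f h ⁻¹ᵁ V' ∧
      IsPushout (f.appLE V U e) (h.appLE V V' e') ((pullback.fst f h).appLE U W e₁)
        ((pullback.snd f h).appLE V' W e₂) := by
  have H := IsPullback.of_hasPullback f h
  have : IsAffine _ := hV
  have : IsAffine _ := hU
  have : IsAffine _ := hV'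
  exact ⟨_, .of_isIso (Scheme.Hom.isPullback_resLE H e' e rfl).isoPullback.hom, inf_le_left, inf_le_right, rfl,
    (isIso_pushoutSection_iff H e' e rfl).mp (isIso_pushoutSection_of_isAffineOpen H e' e rfl hV hV' hU)⟩

theorem rel_flatBC_any (f : X ⟶ Y) [LocallyOfFiniteType f] (h : Y' ⟶ Y) [Flat h]
    [DCoh.HasLpull (pullback.fst f h)] {m : ℤ} (E : DCoh.D X)
    (hE : DerSch.IsPseudoCoherentRel f m E) :
    DerSch.IsPseudoCoherentRel (pullback.snd f h) m ((DCoh.Lpull (pullback.fst f h)).obj E) := by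
  refine ⟨inferInstance, {V' | ∃ V : Y.affineOpens, (V' : Y'.Opens) ≤ h ⁻¹ᵁ (V : Y.Opens)}, ?_, ?_⟩
  · refine eq_top_iff.2 fun y _ => ?_
    obtain ⟨V, hV, hyV, -⟩ := exists_isAffineOpen_mem_and_subset (x := h y) (U := ⊤) trivial
    obtain ⟨V', hV', hy, hle⟩ := exists_isAffineOpen_mem_and_subset (x := y) (U := h ⁻¹ᵁ V) hyV
    simp only [TopologicalSpace.Opens.mem_iSup, exists_prop]
    exact ⟨⟨V', hV'⟩, ⟨⟨V, hV⟩, hle⟩, hy⟩
  rintro ⟨V', hV'⟩ ⟨⟨V, hV⟩, e'⟩
  refine ⟨{W | ∃ U : X.affineOpens, (U : X.Opens) ≤ f ⁻¹ᵁ V ∧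
    (W : (pullback f h).Opens) = pullback.fst f h ⁻¹ᵁ (U : X.Opens) ⊓ pullback.snd f h ⁻¹ᵁ V'},
    le_antisymm ?_ ?_, ?_⟩
  · refine iSup₂_le ?_
    rintro W ⟨U, -, e⟩ x hx
    rw [e] at hx
    exact hx.2
  · intro x hx
    have hx' : f (pullback.fst f h x) ∈ V := by
      have := e' hx
      rwa [← Scheme.Hom.comp_apply, pullback.condition, Scheme.Hom.comp_apply]
    obtain ⟨U, hU, hxU, hle⟩ := exists_isAffineOpen_mem_and_subset (x := pullback.fst f h x) (U := f ⁻¹ᵁ V) hx'
    obtain ⟨W, hW, e₁, e₂, hWeq, -⟩ := exists_pushout f h hV hU hV' hle e'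
    simp only [TopologicalSpace.Opens.mem_iSup, exists_prop]
    exact ⟨⟨W, hW⟩, ⟨⟨U, hU⟩, hle, hWeq⟩, hWeq ▸ ⟨hxU, hx⟩⟩
  rintro ⟨W, hW⟩ ⟨⟨U, hU⟩, e, hWeq'⟩ h'
  obtain ⟨W₀, -, e₁, e₂, hWeq, hpo⟩ := exists_pushout f h hV hU hV' e e'
  obtain rfl : W₀ = W := hWeq.trans hWeq'.symm
  obtain ⟨n, φ, hφ⟩ := exists_chart (f := f) hU hV e
  obtain ⟨φ', hC', hs', hb⟩ := exists_chart_pushout hpo φ hφ.1 hφ.2
  refine ⟨n, φ', ⟨hs', hC'⟩, (chartPC_iff hW hs').2 ?_⟩
  have hcl := isClosedImmersion_cIm hU hφ.1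
  have hcl' := isClosedImmersion_cIm hW hs'
  have ht : Test m (Scheme.Opens.ι U) (cIm U φ) E :=
    (tc_iff φ).1 ((P_of_rel hE hU hV e).tc hU e φ hφ)
  unfold TC
  intro _
  let g : (W₀ : Scheme.{u}) ⟶ (U : Scheme.{u}) := (pullback.fst f h).resLE U W₀ e₁
  let πr : MvPolynomial (Fin n) Γ(Y, V) →+* MvPolynomial (Fin n) Γ(Y', V') := MvPolynomial.map (h.appLE V V' e').hom
  let π := Spec.map (CommRingCat.ofHom πr)
  have : Flat (pullback.fst f h) := inferInstance
  have : Flat g := by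
    change Flat ((pullback.fst f h).resLE U W₀ e₁)
    infer_instance
  have : Flat (Spec.map (h.appLE V V' e')) :=
    (HasRingHomProperty.Spec_iff (P := @Flat)).2 (h.flat_appLE hV hV' e')
  have : Flat π := flat_spec_map (h.appLE V V' e') n
  have sq : IsPullback (cIm W₀ φ') g π (cIm U φ) := by
    have h1 := isPullback_SpecMap_of_isPushout _ _ _ _ hb
    have h2 : IsPullback W₀.toSpecΓ g (Spec.map ((pullback.fst f h).appLE U W₀ e₁)) U.toSpecΓ := by
      have : IsIso W₀.toSpecΓ := hW.isoSpec_hom ▸ inferInstance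
      have : IsIso U.toSpecΓ := hU.isoSpec_hom ▸ inferInstance
      exact IsPullback.of_horiz_isIso ⟨by simp [g]⟩
    exact h2.paste_horiz h1
  exact test_bc U.ι W₀.ι _ _ sq (by simp [g]) E ht

end Groth.Agent.FlatMor62.RelFlatBCAny
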