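import Groth.Agent.KFlat.ProjChain
import Groth.Agent.KFlat.LTensor

/-!
# The projection formula natural in the upper variable, and `f^! RHom(P, G) ≅ RHom(Lf^* P, f^! G)`
-/

set_option autoImplicit false
set_option linter.unusedSectionVars false

universe u

open CategoryTheory CategoryTheory.Limits AlgebraicGeometry
open Groth.Agent.KFlat.Pull Groth.Agent.KFlat.LTensor Groth.Agent.KFlat.WeakKInj Groth.Agent.KFlat.RPush
open Groth.Agent.KFlat

attribute [local instance] HasDerivedCategory.standard

noncomputable section

namespace Groth.Agent.FlatMor62.ShriekHom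

variable {X Y : Scheme.{u}} (f : X ⟶ Y)

/-- The projection map of complexes, natural in the upper variable. -/
def β (K : CochainComplex Y.Modules ℤ) :
    pushCx f ⋙ (DCoh.tensorCx (X := Y)).flip.obj K ⟶
      (DCoh.tensorCx (X := X)).flip.obj ((pullCx f).obj K) ⋙ pushCx f where
  app J := (ProjChain.θc f J).app K
  naturality {J J'} φ := by
    refine HomologicalComplex.hom_ext _ _ fun k => tot_hom_ext (F := DCoh.tensorBi (X := Y)) fun p q h => ?_
    change totι (DCoh.tensorBi (X := Y)) ((pushCx f).obj J) K p q k h ≫
        (((tot (DCoh.tensorBi (X := Y))).map ((pushCx f).map φ)).app K).f k ≫ ProjChain.θX f J' K k =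
      totι (DCoh.tensorBi (X := Y)) ((pushCx f).obj J) K p q k h ≫ ProjChain.θX f J K k ≫
        (Scheme.Modules.pushforward f).map
          ((((tot (DCoh.tensorBi (X := X))).map φ).app ((pullCx f).obj K)).f k)
    refine Eq.trans ?_ (((Category.assoc _ _ _).symm.trans
      (congrArg (· ≫ _) (ProjChain.totι_θX f J K p q k h))).trans (Category.assoc _ _ _)).symm
    rw [totι_map_left_assoc, ProjChain.totι_θX]
    refine ((Category.assoc _ _ _).symm.trans
      (congrArg (· ≫ _) (ProjFormula.θ_left f (φ.f p) (K.X q)))).trans ?_
    refine (Category.assoc _ _ _).trans (congrArg (_ ≫ ·) ?_)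
    exact ((Scheme.Modules.pushforward f).map_comp _ _).symm.trans
      ((congrArg (Scheme.Modules.pushforward f).map
        (totι_map_left (F := DCoh.tensorBi (X := X)) (K := (pullCx f).obj K) φ p q k h).symm).trans
        ((Scheme.Modules.pushforward f).map_comp _ _))

end Groth.Agent.FlatMor62.ShriekHom
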