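import Groth.Agent.KFlat.ProjPerfect

/-!
# The projection formula natural in the upper variable, and `f^! RHom(P, G) ≅ RHom(Lf^* P, f^! G)`
-/

set_option autoImplicit false
set_option linter.unusedSectionVars false

universe u

open CategoryTheory CategoryTheory.Limits AlgebraicGeometry
open Groth.Agent.KFlat.Pull Groth.Agent.KFlat.LTensor Groth.Agent.KFlat.WeakKInj Groth.Agent.KFlat.RPush
open Groth.Agent.KFlat

attribute [local instance] HasDerivedCategory.standard

noncomputable section

namespace Groth.Agent.FlatMor62.ShriekHom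

variable {X Y : Scheme.{u}} (f : X ⟶ Y)

theorem isIso_Q_νc [DCoh.HasRpush f] [DCoh.HasLpull f] (J : CochainComplex X.Modules ℤ) [J.IsKInjective]
    [DCoh.HasLTensorCx (ProjPerfect.fJ f J)] [DCoh.HasLTensorCx J] (S : CochainComplex Y.Modules ℤ)
    (hS : DCoh.IsKFlat S) (hν : IsIso ((ProjPerfect.ν f J).app (DerivedCategory.Q.obj S))) :
    IsIso (DerivedCategory.Q.map ((ProjPerfect.νc f J).app S)) := by
  rw [ProjPerfect.ν, Localization.liftNatTrans_app, isIso_comp_left_iff, isIso_comp_right_iff] at hν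
  rw [NatTrans.comp_app, NatTrans.comp_app, isIso_comp_left_iff, isIso_comp_right_iff] at hν
  have h : IsIso (DerivedCategory.Q.map ((ProjPerfect.νc f J).app ((resY Y).obj S))) := hν
  let π := (resYπ Y).app S
  have hπ : QuasiIso π := quasiIso_resYπ S
  have h1 : QuasiIso (((DCoh.tensorCx (X := Y)).obj (ProjPerfect.fJ f J)).map π) :=
    @Groth.Agent.KFlat.quasiIso_tens_map _ _ _ Y.sheaf _ _ π hπ (isKFlat_resY S) hS _
  have h2 : QuasiIso ((pullCx f).map π) := quasiIso_pullCx f π (isKFlat_resY S) hS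
  have h3 : QuasiIso (((DCoh.tensorCx (X := X)).obj J).map ((pullCx f).map π)) :=
    @Groth.Agent.KFlat.quasiIso_tens_map _ _ _ X.sheaf _ _ _ h2 (isKFlat_pullCx f (isKFlat_resY S))
      (isKFlat_pullCx f hS) _
  have e1 : IsIso (DerivedCategory.Q.map (((DCoh.tensorCx (X := Y)).obj (ProjPerfect.fJ f J)).map π)) :=
    inferInstance
  have e2 := ProjPerfect.isIso_Q_push_injRes_map f (((DCoh.tensorCx (X := X)).obj J).map ((pullCx f).map π))
  have hn := ((DerivedCategory.Q.map_comp _ _).symm.trans
    ((congrArg DerivedCategory.Q.map ((ProjPerfect.νc f J).naturality π)).trans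
      (DerivedCategory.Q.map_comp _ _)))
  have h4 := IsIso.comp_isIso' h e2
  have h5 : IsIso (DerivedCategory.Q.map (((DCoh.tensorCx (X := Y)).obj (ProjPerfect.fJ f J)).map π) ≫
      DerivedCategory.Q.map ((ProjPerfect.νc f J).app S)) := (congrArg (fun φ => IsIso φ) hn).mpr h4
  exact @IsIso.of_isIso_comp_left _ _ _ _ _ _ _ e1 h5

end Groth.Agent.FlatMor62.ShriekHom
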