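import Mathlib.CategoryTheory.Adjunction.Basic
import Mathlib.CategoryTheory.ObjectProperty.FullSubcategory
import Mathlib.CategoryTheory.Yoneda

/-!
# Exchanging an internal hom with a right adjoint on full subcategories
-/

set_option autoImplicit false

open CategoryTheory

universe v u₁ u₂

namespace Groth.Agent.FlatMor62.ShriekYoneda

variable {C : Type u₁} [Category.{v} C] {D : Type u₂} [Category.{v} D] (PC : ObjectProperty C)
  (PD : ObjectProperty D) (F : C ⥤ D) (hF : ∀ T : C, PC T → PD (F.obj T))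

theorem nonempty_iso (a : PD.FullSubcategory ⥤ PC.FullSubcategory)
    (S : ObjectProperty.lift PD (PC.ι ⋙ F) (fun T => hF T.obj T.property) ⊣ a)
    {L R : D ⥤ D} (A : L ⊣ R) {L' R' : C ⥤ C} (A' : L' ⊣ R') (hL' : ∀ T : C, PC T → PC (L'.obj T))
    (p : PC.ι ⋙ F ⋙ L ≅ PC.ι ⋙ L' ⋙ F) (G : PD.FullSubcategory) (hR : PD (R.obj G.obj))
    (hR' : PC (R'.obj (a.obj G).obj)) :
    Nonempty ((a.obj ⟨R.obj G.obj, hR⟩).obj ≅ R'.obj (a.obj G).obj) := by
  let R₂ : PC.FullSubcategory := ⟨_, hR'⟩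
  let R₁ : PC.FullSubcategory := a.obj ⟨R.obj G.obj, hR⟩
  let tq : PC.FullSubcategory ⥤ PC.FullSubcategory :=
    ObjectProperty.lift PC (PC.ι ⋙ L') fun T => hL' T.obj T.property
  let e : ∀ T : PC.FullSubcategory, (T ⟶ R₁) ≃ (T ⟶ R₂) := fun T =>
    (S.homEquiv _ _).symm.trans <| PD.fullyFaithfulι.homEquiv.trans <|
    (A.homEquiv _ _).symm.trans <| (p.app T).homFromEquiv.trans <|
    (PD.fullyFaithfulι.homEquiv
      (X := (ObjectProperty.lift PD (PC.ι ⋙ F) (fun T => hF T.obj T.property)).obj (tq.obj T))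
      (Y := G)).symm.trans <|
    (S.homEquiv _ _).trans <| PC.fullyFaithfulι.homEquiv.trans <|
    (A'.homEquiv _ _).trans (PC.fullyFaithfulι.homEquiv (X := T) (Y := R₂)).symm
  refine ⟨PC.ι.mapIso (Yoneda.ext R₁ R₂ (fun {T} => e T) (fun {T} => (e T).symm)
    (fun {T} => (e T).symm_apply_apply) (fun {T} => (e T).apply_symm_apply) ?_)⟩
  intro T T' g φ
  apply ObjectProperty.hom_ext
  simp only [e, Equiv.trans_apply]
  show (A'.homEquiv _ _) _ = g.hom ≫ (A'.homEquiv _ _) _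
  rw [← A'.homEquiv_naturality_left]
  refine congrArg _ ?_
  show _ = ((tq.map g) ≫ _).hom
  erw [← S.homEquiv_naturality_left]
  refine congrArg (fun x => ((S.homEquiv _ _) x).hom) (ObjectProperty.hom_ext _ ?_)
  have h : F.map (L'.map g.hom) ≫ p.inv.app T = p.inv.app T' ≫ L.map (F.map g.hom) := p.inv.naturality g
  show p.inv.app T' ≫ (A.homEquiv _ _).symm ((S.homEquiv _ _).symm (g ≫ φ)).hom =
    F.map (L'.map g.hom) ≫ p.inv.app T ≫ (A.homEquiv _ _).symm ((S.homEquiv _ _).symm φ).hom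
  rw [S.homEquiv_naturality_left_symm, ← Category.assoc, h, Category.assoc]
  refine congrArg _ ?_
  exact A.homEquiv_naturality_left_symm _ _

end Groth.Agent.FlatMor62.ShriekYoneda
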