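import Groth.Agent.FlatMor62.ShriekPi
import Groth.Agent.FlatMor62.ShriekNu
import Groth.Agent.DEq.KernelDiag
import Groth.Agent.DEq.ProjQCoh
import Groth.Agent.KFlat.QCohTensor
import Groth.Agent.KFlat.DerivedAdj
import Groth.Agent.FlatMor62.ShriekYoneda
import Groth.Prelude.Def_DDual2

/-!
# The projection formula natural in the upper variable, and `f^! RHom(P, G) ≅ RHom(Lf^* P, f^! G)`
-/

set_option autoImplicit false
set_option linter.unusedSectionVars false

universe u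

open CategoryTheory CategoryTheory.Limits AlgebraicGeometry
open Groth.Agent.KFlat.Pull Groth.Agent.KFlat.LTensor Groth.Agent.KFlat.WeakKInj Groth.Agent.KFlat.RPush
open Groth.Agent.KFlat

attribute [local instance] HasDerivedCategory.standard

noncomputable section

namespace Groth.Agent.FlatMor62.ShriekHom

variable {X Y : Scheme.{u}} (f : X ⟶ Y)

theorem isIso_liftNatTrans_app {C D E : Type*} [Category C] [Category D] [Category E] (L : C ⥤ D)
    (W : MorphismProperty C) [L.IsLocalization W] {F₁ F₂ M N : C ⥤ E} (F₁' F₂' : D ⥤ E)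
    [Localization.Lifting L W F₁ F₁'] [Localization.Lifting L W F₂ F₂'] (a : F₁ ≅ M) (τ : M ⟶ N) (b : F₂ ≅ N)
    (Z : C) (h : IsIso (τ.app Z)) :
    IsIso ((Localization.liftNatTrans L W F₁ F₂ F₁' F₂' (a.hom ≫ τ ≫ b.inv)).app (L.obj Z)) := by
  rw [Localization.liftNatTrans_app, NatTrans.comp_app, NatTrans.comp_app]
  infer_instance

theorem isIso_π_app [QuasiCompact f] [QuasiSeparated f] [DCoh.HasRpush f] [DCoh.HasLpull f]
    (K : CochainComplex Y.Modules ℤ) [DCoh.HasLTensorCx K] [DCoh.HasLTensorCx ((pullCx f).obj K)]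
    (hK : DCoh.IsKFlat K) (hM : DCoh.IsKFlat ((pullCx f).obj K)) (hq : DCoh.IsQCohD (DerivedCategory.Q.obj K))
    (E : DCoh.D X) (hE : DCoh.IsQCohD E) : IsIso ((π f K hK hM).app E) := by
  let E₀ := DerivedCategory.Q.objPreimage E
  refine (NatTrans.isIso_app_iff_of_iso (π f K hK hM) (DerivedCategory.Q.objObjPreimageIso E)).1 ?_
  let J := (injRes X).obj E₀
  have hJ : DCoh.IsQCohD (DerivedCategory.Q.obj J) :=
    QCohModel.isQCohD_of_iso (injQIso.app E₀ ≪≫ DerivedCategory.Q.objObjPreimageIso E).symm hE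
  have := LTensor.hasLTensorCx (ProjPerfect.fJ f J)
  have := LTensor.hasLTensorCx J
  have h := isIso_Q_νc f J K hK (DEq.ProjQCoh.isIso_ν f J hJ K hK hq)
  have e : (αc f K).app E₀ = (ProjPerfect.νc f J).app K := rfl
  have h' : IsIso ((Functor.whiskerRight (αc f K) DerivedCategory.Q).app E₀) :=
    (congrArg (fun φ => IsIso (DerivedCategory.Q.map φ)) e).mpr h
  unfold π
  exact isIso_liftNatTrans_app _ _ _ _ _ _ _ _ h'

/-- The projection formula, natural in the upper variable. -/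
theorem nonempty_projIso [QuasiCompact f] [QuasiSeparated f] [DCoh.HasRpush f] [DCoh.HasLpull f]
    (P : CochainComplex Y.Modules ℤ) [DCoh.HasLTensorCx P] (hP : DCoh.IsQCohD (DCoh.toD Y P))
    (P' : CochainComplex X.Modules ℤ) [DCoh.HasLTensorCx P']
    (hP' : Nonempty (DCoh.toD X P' ≅ (DCoh.Lpull f).obj (DCoh.toD Y P))) :
    Nonempty ((DCoh.IsQCohD (X := X)).ι ⋙ DCoh.Rpush f ⋙ DCoh.LTensorCx P ≅
      (DCoh.IsQCohD (X := X)).ι ⋙ DCoh.LTensorCx P' ⋙ DCoh.Rpush f) := by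
  let K := (resY Y).obj P
  have hK : DCoh.IsKFlat K := isKFlat_resY P
  have hM : DCoh.IsKFlat ((pullCx f).obj K) := isKFlat_pullCx f hK
  let eK : DerivedCategory.Q.obj K ≅ DerivedCategory.Q.obj P := (resQIso (Y := Y)).app P
  have hq : DCoh.IsQCohD (DerivedCategory.Q.obj K) := QCohModel.isQCohD_of_iso eK.symm hP
  have := LTensor.hasLTensorCx K
  have := LTensor.hasLTensorCx ((pullCx f).obj K)
  let eM : DerivedCategory.Q.obj P' ≅ DerivedCategory.Q.obj ((pullCx f).obj K) :=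
    hP'.some ≪≫ (DCoh.Lpull f).mapIso eK.symm ≪≫ @asIso _ _ _ _ ((toPull f).app K) (isIso_toPull f hK)
  obtain ⟨a⟩ := Groth.Agent.DEq.nonempty_ltensorCongr eK.symm
  obtain ⟨b⟩ := Groth.Agent.DEq.nonempty_ltensorCongr eM
  have h : ∀ T, IsIso ((Functor.whiskerLeft (DCoh.IsQCohD (X := X)).ι (π f K hK hM)).app T) := fun T =>
    isIso_π_app f K hK hM hq T.obj T.property
  have := NatIso.isIso_of_isIso_app (Functor.whiskerLeft (DCoh.IsQCohD (X := X)).ι (π f K hK hM))
  exact ⟨Functor.isoWhiskerLeft _ (Functor.isoWhiskerLeft (DCoh.Rpush f) a) ≪≫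
    asIso (Functor.whiskerLeft (DCoh.IsQCohD (X := X)).ι (π f K hK hM)) ≪≫
    Functor.isoWhiskerLeft _ (Functor.isoWhiskerRight b.symm (DCoh.Rpush f))⟩

/-- The main statement. -/
theorem nonempty_shriek_hom [QuasiCompact f] [QuasiSeparated f] [DCoh.HasRpush f] [DCoh.HasLpull f]
    (h : DCoh.RpushPreservesQCoh f) [DCoh.HasShriek f h]
    (P : CochainComplex Y.Modules ℤ) [DCoh.HasLTensorCx P] [DCoh.HasRSheafHom P]
    (hP : DCoh.IsQCohD (DCoh.toD Y P)) (G : DCoh.DQCoh Y)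
    (hq : DCoh.IsQCohD ((DCoh.RSheafHom P).obj G.obj))
    (P' : CochainComplex X.Modules ℤ) [DCoh.HasLTensorCx P'] [DCoh.HasRSheafHom P']
    (hP' : Nonempty (DCoh.toD X P' ≅ (DCoh.Lpull f).obj (DCoh.toD Y P)))
    (hq' : DCoh.IsQCohD ((DCoh.RSheafHom P').obj ((DCoh.shriek f h).obj G).obj)) :
    Nonempty (((DCoh.shriek f h).obj ⟨(DCoh.RSheafHom P).obj G.obj, hq⟩).obj ≅
      (DCoh.RSheafHom P').obj ((DCoh.shriek f h).obj G).obj) := by
  obtain ⟨p⟩ := nonempty_projIso f P hP P' hP'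
  have hP'q : DCoh.IsQCohD (DCoh.toD X P') :=
    QCohModel.isQCohD_of_iso hP'.some.symm (QCohModel.isQCohD_Lpull f _ hP)
  exact ShriekYoneda.nonempty_iso (DCoh.IsQCohD (X := X)) (DCoh.IsQCohD (X := Y)) (DCoh.Rpush f) h
    (DCoh.shriek f h) (DCoh.shriekAdj f h) (DCoh.RSheafHomAdj P) (DCoh.RSheafHomAdj P')
    (fun T hT => QCohTensor.isQCohD_LTensorCx P' hP'q T hT) p G hq hq'

end Groth.Agent.FlatMor62.ShriekHom
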