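import Groth.Agent.FlatMor62.ShriekBeta
import Groth.Agent.KFlat.LpullComp

/-!
# The projection formula natural in the upper variable, and `f^! RHom(P, G) ≅ RHom(Lf^* P, f^! G)`
-/

set_option autoImplicit false
set_option linter.unusedSectionVars false

universe u

open CategoryTheory CategoryTheory.Limits AlgebraicGeometry
open Groth.Agent.KFlat.Pull Groth.Agent.KFlat.LTensor Groth.Agent.KFlat.WeakKInj Groth.Agent.KFlat.RPush
open Groth.Agent.KFlat

attribute [local instance] HasDerivedCategory.standard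

noncomputable section

namespace Groth.Agent.FlatMor62.ShriekHom

variable {X Y : Scheme.{u}} (f : X ⟶ Y)

section Lift

variable [DCoh.HasRpush f] (K : CochainComplex Y.Modules ℤ) [DCoh.HasLTensorCx K]
  [DCoh.HasLTensorCx ((pullCx f).obj K)]

/-- The left hand side through resolutions. -/
def eL (hK : DCoh.IsKFlat K) :
    DerivedCategory.Q ⋙ DCoh.Rpush f ⋙ DCoh.LTensorCx K ≅
      injRes X ⋙ pushCx f ⋙ (DCoh.tensorCx (X := Y)).flip.obj K ⋙ DerivedCategory.Q :=
  haveI : IsIso (toTensor K) :=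
    have := isIso_toTensor_of_kflat K hK
    NatIso.isIso_of_isIso_app _
  (Functor.associator _ _ _).symm ≪≫ Functor.isoWhiskerRight (rpushIso f) _ ≪≫ Functor.associator _ _ _ ≪≫
    Functor.isoWhiskerLeft _ (Functor.associator _ _ _) ≪≫
    Functor.isoWhiskerLeft (injRes X) (Functor.isoWhiskerLeft (pushCx f) (asIso (toTensor K)))

/-- The right hand side through resolutions. -/
def eR (hM : DCoh.IsKFlat ((pullCx f).obj K)) :
    DerivedCategory.Q ⋙ DCoh.LTensorCx ((pullCx f).obj K) ⋙ DCoh.Rpush f ≅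
      injRes X ⋙ (DCoh.tensorCx (X := X)).flip.obj ((pullCx f).obj K) ⋙ injRes X ⋙ pushCx f ⋙
        DerivedCategory.Q :=
  haveI : IsIso (toTensor ((pullCx f).obj K)) :=
    have := isIso_toTensor_of_kflat _ hM
    NatIso.isIso_of_isIso_app _
  Functor.isoWhiskerRight (injQIso (X := X)).symm _ ≪≫ Functor.associator _ _ _ ≪≫
    Functor.isoWhiskerLeft (injRes X) ((Functor.associator _ _ _).symm ≪≫
      Functor.isoWhiskerRight (asIso (toTensor ((pullCx f).obj K))) _ ≪≫ Functor.associator _ _ _ ≪≫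
      Functor.isoWhiskerLeft _ (rpushIso f))

/-- The projection map on complexes with resolutions. -/
def αc : injRes X ⋙ pushCx f ⋙ (DCoh.tensorCx (X := Y)).flip.obj K ⟶
    injRes X ⋙ (DCoh.tensorCx (X := X)).flip.obj ((pullCx f).obj K) ⋙ injRes X ⋙ pushCx f :=
  Functor.whiskerLeft (injRes X) (β f K ≫ Functor.whiskerLeft _
    ((Functor.leftUnitor (pushCx f)).inv ≫ Functor.whiskerRight (injι X) (pushCx f)))

/-- The projection map on derived categories. -/
def π (hK : DCoh.IsKFlat K) (hM : DCoh.IsKFlat ((pullCx f).obj K)) :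
    DCoh.Rpush f ⋙ DCoh.LTensorCx K ⟶ DCoh.LTensorCx ((pullCx f).obj K) ⋙ DCoh.Rpush f :=
  Localization.liftNatTrans DerivedCategory.Q (HomologicalComplex.quasiIso X.Modules (ComplexShape.up ℤ))
    (DerivedCategory.Q ⋙ DCoh.Rpush f ⋙ DCoh.LTensorCx K)
    (DerivedCategory.Q ⋙ DCoh.LTensorCx ((pullCx f).obj K) ⋙ DCoh.Rpush f) _ _
    ((eL f K hK).hom ≫ Functor.whiskerRight (αc f K) DerivedCategory.Q ≫ (eR f K hM).inv)

end Lift

end Groth.Agent.FlatMor62.ShriekHom
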