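import Groth.Agent.RG.GoodRing
import Groth.Agent.FlatOpen.GenFreeDomain
import Groth.Prelude.Def_BlowUp2

/-!
# Flattening by an affine blow-up along a valuation ring
-/

set_option autoImplicit false
set_option linter.style.haveILetI false
set_option linter.unusedSectionVars false

universe u

open TensorProduct

attribute [local instance] Algebra.TensorProduct.rightAlgebra

namespace Groth.Agent.FlatMor62.ValBlow

open Groth.Agent.RG Groth.Agent.RG.ValStage

variable (R K A : Type u) [CommRing R] [IsDomain R] [IsLocalRing R] [Field K] [Algebra R K]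
  [CommRing A] [IsDomain A] [Algebra A K]

/-- The generators `x/a`, `x ∈ I`. -/
def gens (I : Ideal R) (a : R) : Set K := {q | ∃ x ∈ I, q = algebraMap R K x / algebraMap R K a}

/-- The blow-up algebra inside the fraction field. -/
abbrev bAlg (I : Ideal R) (a : R) : Subalgebra R K := Algebra.adjoin R (gens R K I a)

/-- Stages: affine blow-up algebras inside the valuation ring, on which the centre contains a power of `t`. -/
structure Idx (t : R) where
  /-- the ideal -/
  I : Ideal R
  /-- the generator on the chart -/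
  a : R
  fg : I.FG
  le : I ≤ IsLocalRing.maximalIdeal R
  mem : a ∈ I
  ne : a ≠ 0
  inA : ∀ x ∈ I, ∃ y : A, algebraMap A K y * algebraMap R K a = algebraMap R K x
  pow : ∃ n : ℕ, algebraMap R K t ^ n / algebraMap R K a ∈ bAlg R K I a

variable {R K A} [IsFractionRing R K] {t : R}

/-- The algebra of a stage. -/
abbrev Idx.B (i : Idx R K A t) : Subalgebra R K := bAlg R K i.I i.a

instance : Preorder (Idx R K A t) := Preorder.lift fun i => i.B

theorem map_ne_zero' {a : R} (h : a ≠ 0) : algebraMap R K a ≠ 0 := fun h0 =>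
  h ((injective_iff_map_eq_zero _).1 (IsFractionRing.injective R K) a h0)

theorem div_mem {I : Ideal R} {a x : R} (hx : x ∈ I) :
    algebraMap R K x / algebraMap R K a ∈ bAlg R K I a :=
  Algebra.subset_adjoin ⟨x, hx, rfl⟩

/-- The product of two stages. -/
def Idx.mul (i j : Idx R K A t) : Idx R K A t where
  I := i.I * j.I
  a := i.a * j.a
  fg := i.fg.mul j.fg
  le := Ideal.mul_le_right.trans j.le
  mem := Ideal.mul_mem_mul i.mem j.mem
  ne := mul_ne_zero i.ne j.ne
  inA := by
    intro x hx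
    refine Submodule.mul_induction_on hx ?_ ?_
    · intro p hp q hq
      obtain ⟨y, hy⟩ := i.inA p hp
      obtain ⟨z, hz⟩ := j.inA q hq
      exact ⟨y * z, by rw [map_mul, map_mul, map_mul, ← hy, ← hz]; ring⟩
    · intro p q hp hq
      obtain ⟨y, hy⟩ := hp
      obtain ⟨z, hz⟩ := hq
      exact ⟨y + z, by rw [map_add, map_add, ← hy, ← hz]; ring⟩
  pow := by
    obtain ⟨n, hn⟩ := i.pow
    obtain ⟨m, hm⟩ := j.pow
    refine ⟨n + m, ?_⟩
    rw [pow_add, map_mul, ← div_mul_div_comm]
    have ha := map_ne_zero' (K := K) i.ne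
    have hb := map_ne_zero' (K := K) j.ne
    refine mul_mem ?_ ?_
    · refine (Algebra.adjoin_le (S := bAlg R K (i.I * j.I) (i.a * j.a)) ?_) hn
      rintro _ ⟨x, hx, rfl⟩
      have : algebraMap R K x / algebraMap R K i.a = algebraMap R K (x * j.a) / algebraMap R K (i.a * j.a) := by
        rw [map_mul, map_mul, mul_div_mul_right _ _ hb]
      exact this ▸ div_mem (Ideal.mul_mem_mul hx j.mem)
    · refine (Algebra.adjoin_le (S := bAlg R K (i.I * j.I) (i.a * j.a)) ?_) hm
      rintro _ ⟨x, hx, rfl⟩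
      have : algebraMap R K x / algebraMap R K j.a = algebraMap R K (i.a * x) / algebraMap R K (i.a * j.a) := by
        rw [map_mul, map_mul, mul_div_mul_left _ _ ha]
      exact this ▸ div_mem (Ideal.mul_mem_mul i.mem hx)

theorem Idx.le_mul_left (i j : Idx R K A t) : i ≤ i.mul j := by
  refine Algebra.adjoin_le ?_
  rintro _ ⟨x, hx, rfl⟩
  have : algebraMap R K x / algebraMap R K i.a = algebraMap R K (x * j.a) / algebraMap R K (i.a * j.a) := by
    rw [map_mul, map_mul, mul_div_mul_right _ _ (map_ne_zero' j.ne)]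
  exact this ▸ div_mem (Ideal.mul_mem_mul hx j.mem)

theorem Idx.le_mul_right (i j : Idx R K A t) : j ≤ i.mul j := by
  refine Algebra.adjoin_le ?_
  rintro _ ⟨x, hx, rfl⟩
  have : algebraMap R K x / algebraMap R K j.a = algebraMap R K (i.a * x) / algebraMap R K (i.a * j.a) := by
    rw [map_mul, map_mul, mul_div_mul_left _ _ (map_ne_zero' i.ne)]
  exact this ▸ div_mem (Ideal.mul_mem_mul i.mem hx)

instance : IsDirectedOrder (Idx R K A t) := ⟨fun i j => ⟨i.mul j, i.le_mul_left j, i.le_mul_right j⟩⟩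

variable [Algebra R A] [IsScalarTower R A K]

/-- The stage algebras lie in the valuation ring. -/
theorem Idx.B_le (i : Idx R K A t) {x : K} (hx : x ∈ i.B) : ∃ y : A, algebraMap A K y = x := by
  have h : i.B ≤ (IsScalarTower.toAlgHom R A K).range := by
    refine Algebra.adjoin_le ?_
    rintro _ ⟨x, hx, rfl⟩
    obtain ⟨y, hy⟩ := i.inA x hx
    exact ⟨y, by rw [← hy, mul_div_cancel_right₀ _ (map_ne_zero' i.ne)]; rfl⟩
  exact h hx

/-- Clearing denominators. -/
theorem Idx.exists_num (i : Idx R K A t) {x : K} (hx : x ∈ i.B) :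
    ∃ (e : R) (N : ℕ), x * algebraMap R K i.a ^ N = algebraMap R K e := by
  induction hx using Algebra.adjoin_induction with
  | mem y hy =>
    obtain ⟨p, hp, rfl⟩ := hy
    exact ⟨p, 1, by rw [pow_one, div_mul_cancel₀ _ (map_ne_zero' i.ne)]⟩
  | algebraMap r => exact ⟨r, 0, by rw [pow_zero, mul_one]⟩
  | add p q _ _ hp hq =>
    obtain ⟨e, N, he⟩ := hp
    obtain ⟨e', M, he'⟩ := hq
    exact ⟨e * i.a ^ M + e' * i.a ^ N, N + M, by
      rw [map_add, map_mul, map_mul, map_pow, map_pow, ← he, ← he', pow_add]; ring⟩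
  | mul p q _ _ hp hq =>
    obtain ⟨e, N, he⟩ := hp
    obtain ⟨e', M, he'⟩ := hq
    exact ⟨e * e', N + M, by rw [map_mul, ← he, ← he', pow_add]; ring⟩

variable [IsLocalHom (algebraMap R A)]

theorem mem_maximal_of (r : R) (y : A) (s : R) (hs : s ∈ IsLocalRing.maximalIdeal R)
    (h : algebraMap R K r = algebraMap A K y * algebraMap R K s) (hAK : Function.Injective (algebraMap A K)) :
    r ∈ IsLocalRing.maximalIdeal R := by
  rw [IsLocalRing.mem_maximalIdeal] at hs ⊢
  intro hr
  refine hs (isUnit_of_map_unit (algebraMap R A) s ?_)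
  have h' : algebraMap R A r = y * algebraMap R A s := hAK (by
    rw [map_mul, ← IsScalarTower.algebraMap_apply, ← IsScalarTower.algebraMap_apply, h])
  have := hr.map (algebraMap R A)
  rw [h'] at this
  exact isUnit_of_mul_isUnit_right this

/-- Adjoining a quotient lying in the valuation ring. -/
theorem exists_ratio (hAK : Function.Injective (algebraMap A K)) (i : Idx R K A t) {p w z : K}
    (hp : p ∈ i.B) (hw : w ∈ i.B) (hw0 : w ≠ 0) (hz : z * w = p) (hzA : ∃ y : A, algebraMap A K y = z)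
    (n : ℕ) (q : K) (hq : q ∈ Algebra.adjoin R ((i.B : Set K) ∪ {z})) (hn : algebraMap R K t ^ n = w * q) :
    ∃ j : Idx R K A t, i ≤ j ∧ z ∈ j.B := by
  obtain ⟨e, N₁, he⟩ := i.exists_num hp
  obtain ⟨d, N₂, hd⟩ := i.exists_num hw
  let α := algebraMap R K i.a
  have hα : α ≠ 0 := map_ne_zero' i.ne
  let N := N₁ + N₂ + 1
  let D := d * i.a ^ (N₁ + 1)
  let E := e * i.a ^ (N₂ + 1)
  have hD : algebraMap R K D = w * α ^ N := by
    simp only [D, N, α, map_mul, map_pow, ← hd]; ring
  have hE : algebraMap R K E = p * α ^ N := by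
    simp only [E, N, α, map_mul, map_pow, ← he]; ring
  have hD0 : D ≠ 0 := fun h => by
    rw [h, map_zero] at hD
    exact mul_ne_zero hw0 (pow_ne_zero _ hα) hD.symm
  obtain ⟨y, hy⟩ := hzA
  have hE' : algebraMap R K E = algebraMap A K y * algebraMap R K D := by
    rw [hy, hE, hD, ← hz]; ring
  have hDm : D ∈ IsLocalRing.maximalIdeal R := by
    refine Ideal.mul_mem_left _ _ ?_
    rw [pow_succ]
    exact Ideal.mul_mem_left _ _ (i.le i.mem)
  have hEm : E ∈ IsLocalRing.maximalIdeal R := mem_maximal_of E y D hDm hE' hAK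
  clear_value D E
  let I := i.I * Ideal.span {E, D}
  have hsp : Ideal.span {E, D} ≤ IsLocalRing.maximalIdeal R := Ideal.span_le.2 (by
    rintro _ (rfl | rfl)
    · exact hEm
    · exact hDm)
  have hgl : i.B ≤ bAlg R K I (i.a * D) := by
    refine Algebra.adjoin_le ?_
    rintro _ ⟨x, hx, rfl⟩
    have : algebraMap R K x / algebraMap R K i.a = algebraMap R K (x * D) / algebraMap R K (i.a * D) := by
      rw [map_mul, map_mul, mul_div_mul_right _ _ (map_ne_zero' hD0)]
    exact this ▸ div_mem (Ideal.mul_mem_mul hx (Ideal.subset_span (Or.inr rfl)))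
  have hzmem : z ∈ bAlg R K I (i.a * D) := by
    have : z = algebraMap R K (i.a * E) / algebraMap R K (i.a * D) := by
      rw [map_mul, map_mul, mul_div_mul_left _ _ hα, hE', mul_div_cancel_right₀ _ (map_ne_zero' hD0), hy]
    exact this ▸ div_mem (Ideal.mul_mem_mul i.mem (Ideal.subset_span (Or.inl rfl)))
  obtain ⟨m, hm⟩ := i.pow
  let j : Idx R K A t :=
    { I := I
      a := i.a * D
      fg := i.fg.mul (Submodule.fg_span (Set.toFinite _))
      le := Ideal.mul_le_right.trans hsp
      mem := Ideal.mul_mem_mul i.mem (Ideal.subset_span (Or.inr rfl))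
      ne := mul_ne_zero i.ne hD0
      inA := by
        intro x hx
        refine Submodule.mul_induction_on hx ?_ ?_
        · intro r hr s hs
          obtain ⟨u, hu⟩ := i.inA r hr
          obtain ⟨b, c, rfl⟩ := Ideal.mem_span_pair.1 hs
          refine ⟨u * (algebraMap R A b * y + algebraMap R A c), ?_⟩
          simp only [map_mul, map_add, ← IsScalarTower.algebraMap_apply, ← hu, hE']
          ring
        · intro r s hr hs
          obtain ⟨u, hu⟩ := hr
          obtain ⟨v, hv⟩ := hs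
          exact ⟨u + v, by rw [map_add, map_add, ← hu, ← hv]; ring⟩
      pow := by
        refine ⟨n + (N + 1) * m, ?_⟩
        have hkey : algebraMap R K t ^ (n + (N + 1) * m) / algebraMap R K (i.a * D) =
            q * (algebraMap R K t ^ m / α) ^ (N + 1) := by
          have hw' : algebraMap R K (i.a * D) = w * α ^ (N + 1) := by rw [map_mul, hD]; ring
          rw [hw', pow_add, hn, div_pow, ← pow_mul, mul_comm m (N + 1)]
          field_simp
        rw [hkey]
        refine mul_mem ?_ (pow_mem (hgl hm) _)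
        refine (Algebra.adjoin_le (S := bAlg R K I (i.a * D)) ?_) hq
        rintro _ (hb | rfl)
        · exact hgl hb
        · exact hzmem }
  exact ⟨j, hgl, hzmem⟩

variable [IsFractionRing A K] [ValuationRing A]

section Generic

variable {R₁ K₁ : Type u} [CommRing R₁] [Field K₁] [Algebra R₁ K₁] {S T : Subalgebra R₁ K₁}

theorem incl_val (h : S ≤ T) (x : S) : (Subalgebra.inclusion h x : K₁) = x := rfl

theorem isUnit_incl (h : S ≤ T) (x : S) (hx : (x : K₁) ≠ 0) (hi : (x : K₁)⁻¹ ∈ T) :
    IsUnit (Subalgebra.inclusion h x) :=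
  isUnit_iff_exists_inv.2 ⟨⟨_, hi⟩, Subtype.ext (mul_inv_cancel₀ hx)⟩

theorem isUnit_one_sub_incl (h : S ≤ T) (x : S) (hx : 1 - (x : K₁) ≠ 0) (hi : (1 - (x : K₁))⁻¹ ∈ T) :
    IsUnit (1 - Subalgebra.inclusion h x) :=
  isUnit_iff_exists_inv.2 ⟨⟨_, hi⟩, Subtype.ext (mul_inv_cancel₀ hx)⟩

theorem dvd_incl (h : S ≤ T) (x y : S) {z : K₁} (hz : z ∈ T) (e : (y : K₁) = x * z) :
    Subalgebra.inclusion h x ∣ Subalgebra.inclusion h y :=
  ⟨⟨z, hz⟩, Subtype.ext e⟩

end Generic

theorem stage_local (hAK : Function.Injective (algebraMap A K)) (i : Idx R K A t) (x : i.B) :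
    ∃ j, ∃ h : i ≤ j, IsUnit (Subalgebra.inclusion h x) ∨ IsUnit (1 - Subalgebra.inclusion h x) := by
  obtain ⟨y, hy⟩ := i.B_le x.2
  have key : ∀ (w : K), w ∈ i.B → ∀ u : A, algebraMap A K u = w → IsUnit u →
      ∃ j, i ≤ j ∧ w⁻¹ ∈ j.B ∧ w ≠ 0 := by
    intro w hw u hu hunit
    obtain ⟨v, hv⟩ := hunit.exists_right_inv
    have hwv : w * algebraMap A K v = 1 := by rw [← hu, ← map_mul, hv, map_one]
    have hw0 : w ≠ 0 := left_ne_zero_of_mul_eq_one hwv
    obtain ⟨j, hij, hj⟩ := exists_ratio hAK i (one_mem _) hw hw0 (inv_mul_cancel₀ hw0)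
      ⟨v, (eq_inv_of_mul_eq_one_right hwv)⟩ 1 (w⁻¹ * algebraMap R K t)
      (mul_mem (Algebra.subset_adjoin (Or.inr rfl)) (algebraMap_mem _ t))
      (by rw [pow_one, ← mul_assoc, mul_inv_cancel₀ hw0, one_mul])
    exact ⟨j, hij, hj, hw0⟩
  rcases IsLocalRing.isUnit_or_isUnit_one_sub_self y with h | h
  · obtain ⟨j, hij, hj, h0⟩ := key x.1 x.2 y hy h
    exact ⟨j, hij, Or.inl (isUnit_incl hij x h0 hj)⟩
  · obtain ⟨j, hij, hj, h0⟩ := key (1 - x.1) (sub_mem (one_mem _) x.2) (1 - y)
      (by rw [map_sub, map_one, hy]) h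
    exact ⟨j, hij, Or.inr (isUnit_one_sub_incl hij x h0 hj)⟩

theorem stage_semiVal (hAK : Function.Injective (algebraMap A K)) (ht0 : t ≠ 0) (i : Idx R K A t)
    (x y c : i.B) (m : ℕ) (hxc : x * c = algebraMap R i.B t ^ m) :
    ∃ j, ∃ h : i ≤ j, Subalgebra.inclusion h x ∣ Subalgebra.inclusion h y ∨
      Subalgebra.inclusion h y ∣ Subalgebra.inclusion h x := by
  have hxc' : (x : K) * c = algebraMap R K t ^ m := by
    have := congrArg Subtype.val hxc
    simpa using this
  have hx0 : (x : K) ≠ 0 := left_ne_zero_of_mul (a := (x : K)) (b := c)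
    (hxc' ▸ pow_ne_zero _ (map_ne_zero' ht0))
  obtain ⟨xA, hx⟩ := i.B_le x.2
  obtain ⟨yA, hy⟩ := i.B_le y.2
  rcases ValuationRing.cond xA yA with ⟨z, hz | hz⟩
  · -- `xA * z = yA`
    obtain ⟨j, hij, hj⟩ := exists_ratio hAK i y.2 x.2 hx0
      (show algebraMap A K z * (x : K) = y by rw [← hx, ← hy, ← map_mul, mul_comm, hz]) ⟨z, rfl⟩ m c
      (Algebra.subset_adjoin (Or.inl c.2)) hxc'.symm
    refine ⟨j, hij, Or.inl (dvd_incl hij x y hj ?_)⟩
    rw [← hx, ← hy, ← map_mul, hz]
  · -- `yA * z = xA`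
    have hyz : algebraMap A K z * (y : K) = x := by rw [← hx, ← hy, ← map_mul, mul_comm, hz]
    have hy0 : (y : K) ≠ 0 := fun h => hx0 (by rw [← hyz, h, mul_zero])
    obtain ⟨j, hij, hj⟩ := exists_ratio hAK i x.2 y.2 hy0 hyz ⟨z, rfl⟩ m (algebraMap A K z * c)
      (mul_mem (Algebra.subset_adjoin (Or.inr rfl)) (Algebra.subset_adjoin (Or.inl c.2)))
      (by rw [← hxc', ← hyz]; ring)
    refine ⟨j, hij, Or.inr (dvd_incl hij y x hj ?_)⟩
    rw [← hyz, mul_comm]


theorem stage_directed :
    DirectedSystem (fun i : Idx R K A t => ↥i.B) fun i j (h : i ≤ j) => Subalgebra.inclusion h :=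
  ⟨fun _ x => Subtype.ext (incl_val _ x), fun _ _ _ h₁ h₂ x =>
    Subtype.ext (((incl_val _ _).trans (incl_val _ x)).trans (incl_val _ x).symm)⟩

theorem stage_regular (ht0 : t ≠ 0) (i : Idx R K A t) : algebraMap R i.B t ∈ nonZeroDivisors i.B :=
  mem_nonZeroDivisors_of_ne_zero fun h => map_ne_zero' (K := K) ht0 (congrArg Subtype.val h)

/-- A good stage. -/
theorem exists_good_idx (ht : t ∈ IsLocalRing.maximalIdeal R) (ht0 : t ≠ 0)
    {n : ℕ} (M : Type u) [AddCommGroup M] [Module (MvPolynomial (Fin n) R) M] [Module R M]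
    [IsScalarTower R (MvPolynomial (Fin n) R) M] [Module.Finite (MvPolynomial (Fin n) R) M]
    (hflat : Module.Flat R (LocalizedModule (Submonoid.powers t) M))
    (hfp : Module.FinitePresentation (Localization.Away (algebraMap R (MvPolynomial (Fin n) R) t))
      (LocalizedModule (Submonoid.powers (algebraMap R (MvPolynomial (Fin n) R) t)) M)) :
    ∃ i : Idx R K A t, GoodRing.Good (B₀ := MvPolynomial (Fin n) R) t M i.B := by
  haveI : Nonempty (Idx R K A t) := ⟨{
    I := Ideal.span {t}
    a := t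
    fg := Submodule.fg_span_singleton t
    le := (Ideal.span_singleton_le_iff_mem _).2 ht
    mem := Ideal.mem_span_singleton_self t
    ne := ht0
    inA := fun x hx => by
      obtain ⟨c, rfl⟩ := Ideal.mem_span_singleton'.1 hx
      exact ⟨algebraMap R A c, by rw [map_mul, ← IsScalarTower.algebraMap_apply]⟩
    pow := ⟨1, by rw [pow_one]; exact div_mem (Ideal.mem_span_singleton_self t)⟩ }⟩
  haveI := stage_directed (R := R) (K := K) (A := A) (t := t)
  have hAK : Function.Injective (algebraMap A K) := IsFractionRing.injective A K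
  exact GoodRing.exists_good (B₀ := MvPolynomial (Fin n) R) (t := t) (M := M) (fun i : Idx R K A t => ↥i.B)
    (fun i j (h : i ≤ j) => Subalgebra.inclusion h) (stage_regular ht0) (stage_local hAK)
    (stage_semiVal hAK ht0) hflat hfp

end Groth.Agent.FlatMor62.ValBlow
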