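import Groth.Agent.FlatMor62.ValBlow

/-!
# Flattening by an affine blow-up along a valuation ring: the theorem
-/

set_option autoImplicit false
set_option linter.style.haveILetI false
set_option linter.unusedSectionVars false

universe u

open TensorProduct

attribute [local instance] Algebra.TensorProduct.rightAlgebra

namespace Groth.Agent.FlatMor62.ValBlow

open Groth.Agent.RG Groth.Agent.RG.ValStage

section Loc

variable {R : Type u} [CommRing R] {P : Type u} [CommRing P] [Algebra R P]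
  {M : Type u} [AddCommGroup M] [Module P M] [Module R M] [IsScalarTower R P M]

theorem flat_localized_mul (f g : R) [Module.Free (Localization.Away f) (Localization.Away f ⊗[R] M)] :
    Module.Flat R (LocalizedModule (Submonoid.powers (f * g)) M) := by
  let L := Localization.Away (f * g)
  have hu : IsUnit (algebraMap R L f) :=
    isUnit_of_mul_isUnit_left (map_mul (algebraMap R L) f g ▸ IsLocalization.Away.algebraMap_isUnit (f * g))
  letI : Algebra (Localization.Away f) L := (IsLocalization.Away.lift f hu).toAlgebra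
  haveI : IsScalarTower R (Localization.Away f) L :=
    IsScalarTower.of_algebraMap_eq fun a => (IsLocalization.Away.lift_eq f hu a).symm
  haveI : Module.Flat L (L ⊗[R] M) :=
    Module.Flat.of_linearEquiv (AlgebraTensorModule.cancelBaseChange R (Localization.Away f) L L M).symm
  haveI : Module.Flat R L := IsLocalization.flat L (Submonoid.powers (f * g))
  haveI : Module.Flat R (L ⊗[R] M) := Module.Flat.trans R L _
  exact Module.Flat.of_linearEquiv
    ((LocalizedModule.equivTensorProduct (Submonoid.powers (f * g)) M).restrictScalars R)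

theorem fp_localized_mul (f g : R)
    (h : Module.FinitePresentation (Localization.Away (algebraMap R P f))
      (LocalizedModule (Submonoid.powers (algebraMap R P f)) M)) :
    Module.FinitePresentation (Localization.Away (algebraMap R P (f * g)))
      (LocalizedModule (Submonoid.powers (algebraMap R P (f * g))) M) := by
  let b := algebraMap R P f
  let L := Localization.Away (algebraMap R P (f * g))
  let Bb := Localization.Away b
  have hu : IsUnit (algebraMap P L b) := isUnit_of_mul_isUnit_left (y := algebraMap P L (algebraMap R P g)) (by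
    rw [← map_mul, ← map_mul]; exact IsLocalization.Away.algebraMap_isUnit _)
  letI : Algebra Bb L := (IsLocalization.Away.lift b hu).toAlgebra
  haveI : IsScalarTower P Bb L :=
    IsScalarTower.of_algebraMap_eq fun a => (IsLocalization.Away.lift_eq b hu a).symm
  haveI : Module.FinitePresentation Bb (Bb ⊗[P] M) := by
    haveI := h
    exact Module.FinitePresentation.of_equiv (LocalizedModule.equivTensorProduct (Submonoid.powers b) M)
  haveI : Module.FinitePresentation L (L ⊗[Bb] (Bb ⊗[P] M)) := inferInstance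
  haveI : Module.FinitePresentation L (L ⊗[P] M) :=
    Module.FinitePresentation.of_equiv (AlgebraTensorModule.cancelBaseChange P Bb L L M)
  exact Module.FinitePresentation.of_equiv (LocalizedModule.equivTensorProduct _ M).symm

end Loc

section Transfer

variable {R G P : Type u} [CommRing R] [CommRing G] [Algebra R G] [CommRing P] [Algebra R P]
  {M : Type u} [AddCommGroup M] [Module P M] [Module R M] [IsScalarTower R P M]

/-- Two generators with the same torsion. -/
theorem mem_tors_iff {c t a : R} {W : Type u} [AddCommGroup W] [Module R W] [Module G W] [IsScalarTower R G W]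
    (n : ℕ) (b : G) (h1 : algebraMap R G t ^ n = algebraMap R G a * b) (h2 : a = c * t) (x : W) :
    (∃ k : ℕ, t ^ k • x = 0) ↔ ∃ k : ℕ, a ^ k • x = 0 := by
  constructor
  · rintro ⟨k, hk⟩
    exact ⟨k, by rw [h2, mul_pow, mul_smul, hk, smul_zero]⟩
  · rintro ⟨k, hk⟩
    refine ⟨n * k, ?_⟩
    rw [← algebraMap_smul G (t ^ (n * k)) x, map_pow, pow_mul, h1, mul_pow, mul_comm, mul_smul,
      ← map_pow, algebraMap_smul, hk, smul_zero]

/-- From goodness to the strict transform of a module. -/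
theorem flat_of_good {c t a : R} (n : ℕ) (b : G) (h1 : algebraMap R G t ^ n = algebraMap R G a * b)
    (h2 : a = c * t) (h : GoodRing.Good (B₀ := P) t M G) :
    Module.Flat G ((G ⊗[R] M) ⧸ FlatCA.powTorsion G (algebraMap R G a) (G ⊗[R] M)) := by
  haveI := h.1
  let T := FlatCA.powTorsion (G ⊗[R] P) (algebraMap R _ t) (N (A₀ := R) (B₀ := P) M G)
  have hT : (T.restrictScalars G).map (mu (A₀ := R) (B₀ := P) M G).toLinearMap =
      FlatCA.powTorsion G (algebraMap R G a) (G ⊗[R] M) := by
    ext y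
    rw [Submodule.mem_map_equiv, Submodule.restrictScalars_mem, FittLib.Strict.mem_powTorsion,
      FittLib.Strict.mem_powTorsion]
    simp only [GoodRing.pow_smul_eq, ← map_pow, algebraMap_smul]
    rw [← mem_tors_iff n b h1 h2 y]
    refine exists_congr fun k => ?_
    rw [← algebraMap_smul G (t ^ k) y, ← algebraMap_smul G (t ^ k) ((mu (A₀ := R) (B₀ := P) M G).symm y),
      ← map_smul, LinearEquiv.map_eq_zero_iff]
  exact Module.Flat.of_linearEquiv
    ((Submodule.Quotient.restrictScalarsEquiv G T).symm ≪≫ₗ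
      Submodule.Quotient.equiv _ _ (mu (A₀ := R) (B₀ := P) M G) hT).symm

end Transfer

section TransferAlg

variable {R G P S : Type u} [CommRing R] [CommRing G] [Algebra R G] [CommRing P] [Algebra R P]
  [CommRing S] [Algebra R S] [Algebra P S] [IsScalarTower R P S]

set_option maxHeartbeats 800000 in
/-- From goodness to the strict transform of an algebra. -/
theorem flat_fp_of_good [Algebra.FinitePresentation R P] (hPS : Function.Surjective (algebraMap P S))
    {c t a : R} (n : ℕ) (b : G) (h1 : algebraMap R G t ^ n = algebraMap R G a * b)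
    (h2 : a = c * t) (h : GoodRing.Good (B₀ := P) t S G) :
    Module.Flat G ((G ⊗[R] S) ⧸ FlatCA.powTorsion (G ⊗[R] S) (algebraMap R (G ⊗[R] S) a) (G ⊗[R] S)) ∧
      Algebra.FinitePresentation G
        ((G ⊗[R] S) ⧸ FlatCA.powTorsion (G ⊗[R] S) (algebraMap R (G ⊗[R] S) a) (G ⊗[R] S)) := by
  let J : Ideal (G ⊗[R] S) := FlatCA.powTorsion (G ⊗[R] S) (algebraMap R (G ⊗[R] S) a) (G ⊗[R] S)
  change Module.Flat G ((G ⊗[R] S) ⧸ J) ∧ Algebra.FinitePresentation G ((G ⊗[R] S) ⧸ J)
  let T := FlatCA.powTorsion (G ⊗[R] P) (algebraMap R _ t) (N (A₀ := R) (B₀ := P) S G)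
  let e : N (A₀ := R) (B₀ := P) S G ≃ₗ[G] G ⊗[R] S := mu (A₀ := R) (B₀ := P) S G
  have hT : (T.restrictScalars G).map e.toLinearMap = J.restrictScalars G := by
    ext y
    rw [Submodule.mem_map_equiv, Submodule.restrictScalars_mem, Submodule.restrictScalars_mem,
      FittLib.Strict.mem_powTorsion]
    show _ ↔ y ∈ FlatCA.powTorsion (G ⊗[R] S) (algebraMap R (G ⊗[R] S) a) (G ⊗[R] S)
    rw [FittLib.Strict.mem_powTorsion]
    simp only [GoodRing.pow_smul_eq, ← map_pow, algebraMap_smul]
    rw [← mem_tors_iff n b h1 h2 y]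
    refine exists_congr fun k => ?_
    rw [← algebraMap_smul G (t ^ k) y, ← algebraMap_smul G (t ^ k) (e.symm y), ← map_smul,
      LinearEquiv.map_eq_zero_iff]
  let q : (N (A₀ := R) (B₀ := P) S G ⧸ T) ≃ₗ[G] (G ⊗[R] S) ⧸ J :=
    (Submodule.Quotient.restrictScalarsEquiv G T).symm ≪≫ₗ
      Submodule.Quotient.equiv _ _ e hT ≪≫ₗ Submodule.Quotient.restrictScalarsEquiv G J
  refine ⟨?_, ?_⟩
  · haveI := h.1
    exact Module.Flat.of_linearEquiv q.symm
  · let μ : G ⊗[R] P →ₐ[G] G ⊗[R] S :=
      Algebra.TensorProduct.map (AlgHom.id G G) (IsScalarTower.toAlgHom R P S)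
    have hμ : Function.Surjective μ := by
      intro z
      induction z using TensorProduct.induction_on with
      | zero => exact ⟨0, map_zero _⟩
      | tmul g s =>
        obtain ⟨p, rfl⟩ := hPS s
        exact ⟨g ⊗ₜ p, by simp [μ]⟩
      | add x y hx hy =>
        obtain ⟨u, rfl⟩ := hx
        obtain ⟨v, rfl⟩ := hy
        exact ⟨u + v, map_add _ _ _⟩
    let ψ : G ⊗[R] P →ₐ[G] (G ⊗[R] S) ⧸ J := (Ideal.Quotient.mkₐ G J).comp μ
    have hψ : Function.Surjective ψ := Ideal.Quotient.mk_surjective.comp hμ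
    let x₁ : N (A₀ := R) (B₀ := P) S G := (1 : G ⊗[R] P) ⊗ₜ (1 : S)
    let l : G ⊗[R] P →ₗ[G ⊗[R] P] N (A₀ := R) (B₀ := P) S G ⧸ T :=
      LinearMap.toSpanSingleton _ _ (T.mkQ x₁)
    have he : ∀ p, e (p • x₁) = μ p := by
      intro p
      induction p using TensorProduct.induction_on with
      | zero => rw [zero_smul, map_zero, map_zero]
      | tmul g p =>
        have : (g ⊗ₜ[R] p : G ⊗[R] P) • x₁ = e.symm (g ⊗ₜ (algebraMap P S p)) := by
          rw [mu_symm_tmul, Algebra.algebraMap_eq_smul_one, TensorProduct.tmul_smul]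
          simp only [x₁, TensorProduct.smul_tmul', smul_eq_mul, mul_one]
          rw [Algebra.smul_def]
          congr 1
          show g ⊗ₜ[R] p = ((1 : G) ⊗ₜ[R] p) * (g ⊗ₜ[R] (1 : P))
          simp
        rw [this, LinearEquiv.apply_symm_apply]
        simp [μ]
      | add u v hu hv => rw [add_smul, map_add, map_add, hu, hv]
    have hq : ∀ p, q (l p) = ψ p := fun p => by
      show q (p • T.mkQ x₁) = _
      rw [← map_smul]
      show Ideal.Quotient.mk J (e (p • x₁)) = _
      rw [he]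
      rfl
    have hl : Function.Surjective l := fun z => by
      obtain ⟨p, hp⟩ := hψ (q z)
      exact ⟨p, q.injective ((hq p).trans hp)⟩
    haveI := h.2
    have hfg := Module.FinitePresentation.fg_ker l hl
    have hker : LinearMap.ker l = RingHom.ker ψ.toRingHom := by
      ext p
      rw [LinearMap.mem_ker, ← map_eq_zero_iff q q.injective, hq]
      rfl
    haveI : Algebra.FinitePresentation G (G ⊗[R] P) := inferInstance
    exact Algebra.FinitePresentation.of_surjective hψ (hker ▸ hfg)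

end TransferAlg

section Main

variable {R : Type u} (K : Type u) [CommRing R] [IsDomain R] [IsLocalRing R] [Field K]
  [Algebra R K] [IsFractionRing R K]

/-- The affine blow-up algebra inside the fraction field. -/
theorem nonempty_affineAlgebra_equiv (I : Ideal R) {a : R} (ha : a ≠ 0) :
    Nonempty (↥(BlowUp.affineAlgebra R I a) ≃ₐ[R] ↥(bAlg R K I a)) := by
  have hle : Submonoid.powers a ≤ nonZeroDivisors R :=
    powers_le_nonZeroDivisors_of_noZeroDivisors ha
  let ι : Localization.Away a →ₐ[R] K :=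
    IsLocalization.liftAlgHom (f := Algebra.ofId R K) (M := Submonoid.powers a) fun y =>
      (isUnit_iff_ne_zero.2 (map_ne_zero' (nonZeroDivisors.ne_zero (hle y.2))))
  have hι : Function.Injective ι := by
    refine (IsLocalization.lift_injective_iff _).2 fun x y => ?_
    change _ ↔ algebraMap R K x = algebraMap R K y
    rw [(IsLocalization.injective (Localization.Away a) hle).eq_iff, (IsFractionRing.injective R K).eq_iff]
  have himg : (BlowUp.affineAlgebra R I a).map ι = bAlg R K I a := by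
    rw [BlowUp.affineAlgebra, AlgHom.map_adjoin]
    have hq : ∀ x : R, ι (IsLocalization.mk' (Localization.Away a) x ⟨a, Submonoid.mem_powers a⟩) =
        algebraMap R K x / algebraMap R K a := fun x => by
      rw [eq_div_iff (map_ne_zero' ha)]
      have h0 := IsLocalization.mk'_spec (Localization.Away a) x ⟨a, Submonoid.mem_powers a⟩
      have h1 := congrArg ι h0
      rwa [map_mul, AlgHom.commutes, AlgHom.commutes] at h1
    congr 1
    ext q
    constructor
    · rintro ⟨_, ⟨x, hx, rfl⟩, rfl⟩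
      exact ⟨x, hx, hq x⟩
    · rintro ⟨x, hx, rfl⟩
      exact ⟨_, ⟨x, hx, rfl⟩, hq x⟩
  exact ⟨((BlowUp.affineAlgebra R I a).equivMapOfInjective ι hι).trans (Subalgebra.equivOfEq _ _ himg)⟩

variable {K} {A : Type u} [CommRing A] [IsDomain A] [Algebra A K] {t : R}

/-- The blow-up algebra of a stage multiplied by `t`. -/
theorem bAlg_mul_span (k : Idx R K A t) (ht0 : t ≠ 0) :
    bAlg R K (k.I * Ideal.span {t}) (k.a * t) = k.B := by
  show Algebra.adjoin R _ = Algebra.adjoin R _
  congr 1
  ext q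
  constructor
  · rintro ⟨x, hx, rfl⟩
    obtain ⟨z, hz, rfl⟩ := Ideal.mem_mul_span_singleton.1 hx
    exact ⟨z, hz, by rw [map_mul, map_mul, mul_div_mul_right _ _ (map_ne_zero' ht0)]⟩
  · rintro ⟨z, hz, rfl⟩
    exact ⟨z * t, Ideal.mul_mem_mul hz (Ideal.mem_span_singleton_self t), by
      rw [map_mul, map_mul, mul_div_mul_right _ _ (map_ne_zero' ht0)]⟩

theorem inA_mul_span (k : Idx R K A t) :
    ∀ x ∈ k.I * Ideal.span {t}, ∃ y : A, algebraMap A K y * algebraMap R K (k.a * t) = algebraMap R K x := by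
  intro x hx
  obtain ⟨z, hz, rfl⟩ := Ideal.mem_mul_span_singleton.1 hx
  obtain ⟨y, hy⟩ := k.inA z hz
  exact ⟨y, by rw [map_mul, map_mul, ← hy]; ring⟩

theorem mem_nonZeroDivisors_of_equiv {R₁ : Type u} [CommRing R₁] [Algebra R R₁] {B : Subalgebra R K}
    (E : R₁ ≃ₐ[R] ↥B) (ht0 : t ≠ 0) : algebraMap R R₁ t ∈ nonZeroDivisors R₁ := by
  haveI : IsDomain R₁ := E.toRingEquiv.toMulEquiv.isDomain
  refine mem_nonZeroDivisors_of_ne_zero fun h => ?_
  have := congrArg E h
  rw [map_zero, AlgEquiv.commutes] at this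
  exact map_ne_zero' (K := K) ht0 (congrArg Subtype.val this)

theorem exists_pow_eq (k : Idx R K A t) {R₁ : Type u} [CommRing R₁] [Algebra R R₁] (E : R₁ ≃ₐ[R] ↥k.B) :
    ∃ (n : ℕ) (b : R₁), algebraMap R R₁ t ^ n = algebraMap R R₁ (k.a * t) * b := by
  obtain ⟨m, hm⟩ := k.pow
  refine ⟨m + 1, E.symm ⟨_, hm⟩, E.injective ?_⟩
  rw [map_pow, map_mul, AlgEquiv.commutes, AlgEquiv.commutes, AlgEquiv.apply_symm_apply]
  refine Subtype.ext ?_
  show algebraMap R K t ^ (m + 1) = algebraMap R K (k.a * t) * (algebraMap R K t ^ m / algebraMap R K k.a)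
  rw [map_mul, pow_succ]
  have := map_ne_zero' (K := K) k.ne
  field_simp

/-- The centre of the valuation ring survives. -/
theorem map_maximalIdeal_ne_top [IsLocalRing A] [IsFractionRing A K] [Algebra R A] [IsScalarTower R A K]
    [IsLocalHom (algebraMap R A)] {B : Subalgebra R K} (hBA : ∀ x ∈ B, ∃ y : A, algebraMap A K y = x)
    {R₁ : Type u} [CommRing R₁] [Algebra R R₁] (E : R₁ ≃ₐ[R] ↥B) :
    (IsLocalRing.maximalIdeal R).map (algebraMap R R₁) ≠ ⊤ := by
  intro htop
  let σ : R₁ →ₐ[R] K := B.val.comp (E : R₁ →ₐ[R] ↥B)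
  have key : ∀ x ∈ (IsLocalRing.maximalIdeal R).map (algebraMap R R₁),
      ∃ y ∈ IsLocalRing.maximalIdeal A, algebraMap A K y = σ x := by
    intro x hx
    refine Submodule.span_induction ?_ ?_ ?_ ?_ hx
    · rintro _ ⟨r, hr, rfl⟩
      refine ⟨algebraMap R A r, ?_, ?_⟩
      · rw [IsLocalRing.mem_maximalIdeal]
        exact fun hu => (IsLocalRing.mem_maximalIdeal r).1 hr (isUnit_of_map_unit _ r hu)
      · rw [← IsScalarTower.algebraMap_apply]
        exact (σ.commutes r).symm
    · exact ⟨0, zero_mem _, by rw [map_zero, map_zero]⟩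
    · rintro p q - - ⟨y, hy, hy'⟩ ⟨z, hz, hz'⟩
      exact ⟨y + z, add_mem hy hz, by rw [map_add, map_add, hy', hz']⟩
    · rintro r p - ⟨y, hy, hy'⟩
      obtain ⟨z, hz⟩ := hBA _ (E r).2
      refine ⟨z * y, Ideal.mul_mem_left _ z hy, ?_⟩
      rw [smul_eq_mul, map_mul, map_mul, hy', hz]
      rfl
  obtain ⟨y, hy, hy'⟩ := key 1 (htop ▸ Submodule.mem_top)
  rw [map_one, ← map_one (algebraMap A K)] at hy'
  rw [IsFractionRing.injective A K hy'] at hy
  exact (IsLocalRing.maximalIdeal.isMaximal A).ne_top ((Ideal.eq_top_iff_one _).2 hy)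

/-- From a stage on which both transforms are good to the conclusion. -/
theorem flattening_of_good [IsLocalRing A] [IsFractionRing A K] [Algebra R A] [IsScalarTower R A K]
    [IsLocalHom (algebraMap R A)] {P S M : Type u} [CommRing P] [Algebra R P] [Algebra.FinitePresentation R P]
    [CommRing S] [Algebra R S] [Algebra P S] [IsScalarTower R P S] (hPS : Function.Surjective (algebraMap P S))
    [AddCommGroup M] [Module P M] [Module R M] [IsScalarTower R P M]
    (ht0 : t ≠ 0) (i j : Idx R K A t) (hi : GoodRing.Good (B₀ := P) t M ↥i.B)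
    (hj : GoodRing.Good (B₀ := P) t S ↥j.B) :
    ∃ (I : Ideal R) (a : R), I.FG ∧ I ≤ IsLocalRing.maximalIdeal R ∧ a ∈ I ∧ a ≠ 0 ∧
      (∀ x ∈ I, ∃ y : A, algebraMap A K y * algebraMap R K a = algebraMap R K x) ∧
      ∀ (R₁ : Type u) [CommRing R₁] [Algebra R R₁] (e : R₁ ≃ₐ[R] ↥(BlowUp.affineAlgebra R I a)),
        (IsLocalRing.maximalIdeal R).map (algebraMap R R₁) ≠ ⊤ ∧
        Module.Flat R₁ ((R₁ ⊗[R] S) ⧸ FlatCA.powTorsion (R₁ ⊗[R] S) (algebraMap R (R₁ ⊗[R] S) a) (R₁ ⊗[R] S)) ∧
        Algebra.FinitePresentation R₁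
          ((R₁ ⊗[R] S) ⧸ FlatCA.powTorsion (R₁ ⊗[R] S) (algebraMap R (R₁ ⊗[R] S) a) (R₁ ⊗[R] S)) ∧
        Module.Flat R₁ ((R₁ ⊗[R] M) ⧸ FlatCA.powTorsion R₁ (algebraMap R R₁ a) (R₁ ⊗[R] M)) := by
  let k := i.mul j
  refine ⟨k.I * Ideal.span {t}, k.a * t, k.fg.mul (Submodule.fg_span_singleton t),
    Ideal.mul_le_left.trans k.le, Ideal.mul_mem_mul k.mem (Ideal.mem_span_singleton_self t),
    mul_ne_zero k.ne ht0, inA_mul_span k, ?_⟩
  intro R₁ _ _ e
  obtain ⟨e₂⟩ := nonempty_affineAlgebra_equiv K (k.I * Ideal.span {t}) (mul_ne_zero k.ne ht0)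
  let E : R₁ ≃ₐ[R] ↥k.B := (e.trans e₂).trans (Subalgebra.equivOfEq _ _ (bAlg_mul_span k ht0))
  have hreg := mem_nonZeroDivisors_of_equiv E ht0
  have hgM : GoodRing.Good (B₀ := P) t M R₁ :=
    hi.map ((E.symm : ↥k.B →ₐ[R] R₁).comp (Subalgebra.inclusion (i.le_mul_left j))) hreg
  have hgS : GoodRing.Good (B₀ := P) t S R₁ :=
    hj.map ((E.symm : ↥k.B →ₐ[R] R₁).comp (Subalgebra.inclusion (i.le_mul_right j))) hreg
  obtain ⟨m, b, h1⟩ := exists_pow_eq k E
  obtain ⟨h3, h4⟩ := flat_fp_of_good (P := P) hPS m b h1 rfl hgS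
  exact ⟨map_maximalIdeal_ne_top (fun x hx => k.B_le hx) E, h3, h4, flat_of_good (P := P) m b h1 rfl hgM⟩

end Main

section Final

variable {R : Type u} (K : Type u) [CommRing R] [IsDomain R] [IsLocalRing R] [Field K]
  [Algebra R K] [IsFractionRing R K] (S : Type u) [CommRing S] [Algebra R S] [Algebra.FiniteType R S] (M : Type u)
  [AddCommGroup M] [Module S M] [Module R M] [IsScalarTower R S M] [Module.Finite S M]
  (A : Type u) [CommRing A] [IsDomain A] [ValuationRing A] [Algebra A K] [IsFractionRing A K] [Algebra R A]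
  [IsScalarTower R A K] [IsLocalHom (algebraMap R A)]

set_option maxHeartbeats 300000 in
/-- Blow-up flattening along a valuation ring. -/
theorem exists_flattening (hm : IsLocalRing.maximalIdeal R ≠ ⊥) :
    ∃ (I : Ideal R) (a : R), I.FG ∧ I ≤ IsLocalRing.maximalIdeal R ∧ a ∈ I ∧ a ≠ 0 ∧
      (∀ x ∈ I, ∃ y : A, algebraMap A K y * algebraMap R K a = algebraMap R K x) ∧
      ∀ (R₁ : Type u) [CommRing R₁] [Algebra R R₁] (e : R₁ ≃ₐ[R] ↥(BlowUp.affineAlgebra R I a)),
        (IsLocalRing.maximalIdeal R).map (algebraMap R R₁) ≠ ⊤ ∧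
        Module.Flat R₁ ((R₁ ⊗[R] S) ⧸ FlatCA.powTorsion (R₁ ⊗[R] S) (algebraMap R (R₁ ⊗[R] S) a) (R₁ ⊗[R] S)) ∧
        Algebra.FinitePresentation R₁
          ((R₁ ⊗[R] S) ⧸ FlatCA.powTorsion (R₁ ⊗[R] S) (algebraMap R (R₁ ⊗[R] S) a) (R₁ ⊗[R] S)) ∧
        Module.Flat R₁ ((R₁ ⊗[R] M) ⧸ FlatCA.powTorsion R₁ (algebraMap R R₁ a) (R₁ ⊗[R] M)) := by
  obtain ⟨n, π, hπ⟩ := Algebra.FiniteType.iff_quotient_mvPolynomial''.1
    (inferInstance : Algebra.FiniteType R S)
  let P := MvPolynomial (Fin n) R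
  letI : Algebra P S := π.toRingHom.toAlgebra
  haveI : IsScalarTower R P S := IsScalarTower.of_algebraMap_eq fun r => (π.commutes r).symm
  letI : Module P M := Module.compHom M (algebraMap P S)
  haveI : IsScalarTower P S M := IsScalarTower.of_algebraMap_smul fun _ _ => rfl
  haveI : IsScalarTower R P M := IsScalarTower.of_algebraMap_smul fun r x => by
    show algebraMap P S (algebraMap R P r) • x = r • x
    rw [← IsScalarTower.algebraMap_apply, algebraMap_smul]
  haveI : Module.Finite P S := Module.Finite.of_surjective (Algebra.linearMap P S) hπ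
  haveI : Module.Finite P M := Module.Finite.trans S M
  obtain ⟨f, hf, hfree, -, -, hfp⟩ := Groth.Agent.FlatOpen.exists_genFree R P M
  obtain ⟨g, hg, hfree', -, -, hfp'⟩ := Groth.Agent.FlatOpen.exists_genFree R P S
  obtain ⟨m₀, hm₀, hm₀0⟩ := Submodule.exists_mem_ne_zero_of_ne_bot hm
  let t := f * (g * m₀)
  have htm : t ∈ IsLocalRing.maximalIdeal R := Ideal.mul_mem_left _ _ (Ideal.mul_mem_left _ _ hm₀)
  have ht0 : t ≠ 0 := mul_ne_zero hf (mul_ne_zero hg hm₀0)
  have ht' : t = g * (f * m₀) := by simp only [t]; ring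
  obtain ⟨i, hi⟩ := exists_good_idx (K := K) (A := A) htm ht0 M
    (flat_localized_mul f (g * m₀)) (fp_localized_mul f (g * m₀) hfp)
  obtain ⟨j, hj⟩ := exists_good_idx (K := K) (A := A) htm ht0 S
    (ht' ▸ flat_localized_mul g (f * m₀)) (ht' ▸ fp_localized_mul g (f * m₀) hfp')
  exact flattening_of_good (P := P) hπ ht0 i j hi hj

end Final

end Groth.Agent.FlatMor62.ValBlow
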